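import Cfsg.Agent.OddHalf.D7Out.Front
import Cfsg.Agent.OddHalf.Front.OrbitTransfer
import Mathlib
import Cfsg.Agent.LieRecognition.BNCox
import Cfsg.Agent.Nodes.TypeD
import Cfsg.Agent.OddHalf.D7Out.FrGen
import Cfsg.Agent.OddHalf.D7Out.TransGen
import Cfsg.Agent.KFacts.RgdTau

-- merged: Cfsg.Agent.OddHalf.D7Out.TransMin
section

/-!
# D7, the front, Step 1: in the isolated case `T` has no field part (helper868; text: bb ODD 8710)

`lf_eq_one`: `G` perfect, `t` isolated in `Z(T)`, `lf` the field part of `C(t)` (`Defs.Fld`): then `lf` is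
trivial on `T`.  Proof: transfer of `lf` at an element `y` of minimal order with `lf y ≠ 1`.
-/

set_option autoImplicit false

namespace Cfsg.Agent.OddHalf.D7Out.TransMin

open scoped commutatorElement
open Subgroup MulAction Function Cfsg.Agent.OddHalf.D7Out.Defs Cfsg.Agent.OddHalf.D7Out.Front

variable {G : Type*} [Group G] {t v : G} {K U Z T : Subgroup G}

/-- `C(t)` -/
abbrev Ct (t : G) : Subgroup G := centralizer ({t} : Set G)

/-! ### `Z` and `T` -/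

theorem Z_conj (F : Fr t v K U Z T) {x z : G} (hx : x ∈ T) (hz : z ∈ Z) : x * z * x⁻¹ ∈ Z := by
  have hU : ∀ a ∈ T, ∀ u ∈ U, a * u * a⁻¹ ∈ U := by
    intro a ha u hu
    have hu' := hu
    rw [F.U_eq] at hu' ⊢
    exact ⟨T.mul_mem (T.mul_mem ha hu'.1) (T.inv_mem ha),
      (mem_normalizer_iff.1 (F.nK a (F.tc a ha)) u).1 hu'.2⟩
  have h1 := hU x hx z (F.ZU hz)
  obtain ⟨r, hr, z', hz', e⟩ := F.cU (x * z * x⁻¹) (UT F h1) (by
    intro u hu
    have h2 := hU x⁻¹ (T.inv_mem hx) u hu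
    rw [inv_inv] at h2
    have h3 := F.Zc z hz _ h2
    calc x * z * x⁻¹ * u = x * (z * (x⁻¹ * u * x)) * x⁻¹ := by group
      _ = x * (x⁻¹ * u * x * z) * x⁻¹ := by rw [h3]
      _ = u * (x * z * x⁻¹) := by group)
  have h4 : r = 1 := by
    apply F.KR r _ hr
    have : r = x * z * x⁻¹ * z'⁻¹ := by rw [e]; group
    rw [this]
    exact K.mul_mem (UK F h1) (K.inv_mem (ZK F hz'))
  rw [e, h4, one_mul]
  exact hz'

/-- `C_Z(T) ≠ 1` -/
theorem exists_central [Finite G] (F : Fr t v K U Z T) :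
    ∃ z ∈ Z, z ≠ 1 ∧ ∀ x ∈ T, x * z = z * x := by
  let act : MulAction T Z :=
    { smul := fun x z => ⟨(x : G) * z * (x : G)⁻¹, Z_conj F x.2 z.2⟩
      one_smul := fun z => Subtype.ext (by show (1 : G) * z * (1 : G)⁻¹ = z; group)
      mul_smul := fun x y z => Subtype.ext (by
        show ((x : G) * y) * z * ((x : G) * y)⁻¹ = x * (y * z * (y : G)⁻¹) * (x : G)⁻¹
        group) }
  have hp : IsPGroup 2 T := F.pT
  have hZp : IsPGroup 2 Z := F.pT.to_le (F.ZU.trans (UT F))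
  have hdvd : 2 ∣ Nat.card Z := by
    obtain ⟨n, hn⟩ := IsPGroup.iff_card.1 hZp
    rw [hn]
    have hn0 : n ≠ 0 := by
      rintro rfl
      rw [pow_zero, Subgroup.card_eq_one] at hn
      exact F.Z1 hn
    exact dvd_pow_self 2 hn0
  have h1 : (1 : Z) ∈ fixedPoints T Z := by
    rw [MulAction.mem_fixedPoints]
    intro x
    exact Subtype.ext (by show (x : G) * 1 * (x : G)⁻¹ = 1; group)
  have : Fact (Nat.Prime 2) := ⟨Nat.prime_two⟩
  obtain ⟨b, hb, hne⟩ := hp.exists_fixed_point_of_prime_dvd_card_of_fixed_point Z hdvd h1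
  refine ⟨b, b.2, fun h => hne (Subtype.ext h.symm), ?_⟩
  intro x hx
  have h2 : (x : G) * b * x⁻¹ = b := congrArg Subtype.val (MulAction.mem_fixedPoints.1 hb ⟨x, hx⟩)
  rwa [mul_inv_eq_iff_eq_mul] at h2

/-- a 2-subgroup of `C(t)` is conjugate in `C(t)` to a subgroup of `T` -/
theorem exists_conj_le [Finite G] (F : Fr t v K U Z T) {Q : Subgroup G} (hQ : IsPGroup 2 Q)
    (hQt : ∀ x ∈ Q, x * t = t * x) : ∃ c : G, c * t = t * c ∧ ∀ x ∈ Q, c * x * c⁻¹ ∈ T := by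
  set C : Subgroup G := centralizer ({t} : Set G) with hC
  have hTC : T ≤ C := fun x hx => mem_centralizer_singleton_iff.2 (F.tc x hx)
  have hQC : Q ≤ C := fun x hx => mem_centralizer_singleton_iff.2 (hQt x hx)
  let TS : Sylow 2 C :=
    { toSubgroup := T.subgroupOf C
      isPGroup' := F.pT.comap_of_injective C.subtype C.subtype_injective
      is_maximal' := by
        intro R hR hle
        apply le_antisymm _ hle
        have h1 : R.map C.subtype ≤ T := by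
          apply F.max
          · exact hR.map C.subtype
          · intro y hy
            exact ⟨⟨y, hTC hy⟩, hle (by exact hy), rfl⟩
          · rintro _ ⟨y, -, rfl⟩
            exact mem_centralizer_singleton_iff.1 y.2
        intro y hy
        exact h1 ⟨y, hy, rfl⟩ }
  obtain ⟨R, hR⟩ := (hQ.comap_of_injective C.subtype C.subtype_injective).exists_le_sylow
  obtain ⟨c, hc⟩ := MulAction.exists_smul_eq C R TS
  refine ⟨c, mem_centralizer_singleton_iff.1 c.2, ?_⟩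
  intro x hx
  have h1 : (⟨x, hQC hx⟩ : C) ∈ (R : Subgroup C) := hR (by exact hx)
  have h2 : c * ⟨x, hQC hx⟩ * c⁻¹ ∈ (TS : Subgroup C) := by
    rw [← hc]
    exact ⟨_, h1, rfl⟩
  exact h2

/-! ### orders -/

section orders

variable {H : Type*} [Group H] {A : Type*} [CommGroup A]

theorem two_dvd_orderOf (f : H →* A) (l2 : ∀ x, ∃ n : ℕ, f x ^ 2 ^ n = 1) {w : H} (hw : f w ≠ 1) :
    2 ∣ orderOf w := by
  obtain ⟨n, hn⟩ := l2 w
  have h1 : orderOf (f w) ∣ 2 ^ n := orderOf_dvd_of_pow_eq_one hn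
  obtain ⟨k, -, hk⟩ := (Nat.dvd_prime_pow Nat.prime_two).1 h1
  have hk0 : k ≠ 0 := by
    rintro rfl
    rw [pow_zero, orderOf_eq_one_iff] at hk
    exact hw hk
  have h2 : orderOf (f w) ∣ orderOf w := orderOf_map_dvd f w
  exact (by rw [hk]; exact dvd_pow_self 2 hk0 : 2 ∣ orderOf (f w)).trans h2

theorem orderOf_pow_lt [Finite H] {w : H} {k : ℕ} (hk : 1 < k) (hdvd : k ∣ orderOf w) :
    orderOf (w ^ k) < orderOf w := by
  rw [orderOf_pow_of_dvd (by omega) hdvd]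
  exact Nat.div_lt_self (orderOf_pos w) hk

end orders

/-- a good element of minimal order, with `C_T(y)` a Sylow subgroup of `C(t, y)` -/
theorem exists_good [Finite G] (F : Fr t v K U Z T) {A : Type*} [CommGroup A]
    {lf : centralizer ({t} : Set G) →* A} {hT : T ≤ centralizer ({t} : Set G)} (L : Fld F lf hT)
    {x0 : G} (h0 : x0 ∈ T) (hne : lf ⟨x0, hT h0⟩ ≠ 1) :
    ∃ y : G, GoodY (v := v) lf hT y ∧
      (∀ w : centralizer ({t} : Set G), lf w ≠ 1 → orderOf y ≤ orderOf (w : G)) ∧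
      (∀ P : Subgroup G, IsPGroup 2 P → T ⊓ centralizer ({y} : Set G) ≤ P →
        (∀ x ∈ P, x * t = t * x) → (∀ x ∈ P, x * y = y * x) → P ≤ T ⊓ centralizer ({y} : Set G)) := by
  classical
  have hex : ∃ n : ℕ, ∃ w : (Ct t), lf w ≠ 1 ∧ orderOf (w : G) = n := ⟨_, _, hne, rfl⟩
  set n0 := Nat.find hex with hn0
  obtain ⟨w, hw, hwn⟩ := Nat.find_spec hex
  rw [← hn0] at hwn
  have hmin : ∀ w' : (Ct t), lf w' ≠ 1 → n0 ≤ orderOf (w' : G) := fun w' hw' =>
    Nat.find_min' hex ⟨w', hw', rfl⟩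
  have hord : ∀ x : (Ct t), orderOf x = orderOf (x : G) := fun x =>
    (orderOf_injective (Ct t).subtype (Ct t).subtype_injective x).symm
  have hww : lf w * lf w = 1 := by
    by_contra h1
    have h2 : lf (w ^ 2) ≠ 1 := by rwa [map_pow, pow_two]
    have h3 := hmin _ h2
    have h4 := orderOf_pow_lt one_lt_two (two_dvd_orderOf lf L.l2 hw)
    rw [hord, hord, hwn] at h4
    omega
  -- `w` is a 2-element
  obtain ⟨a, m, hm, ham⟩ := Nat.exists_eq_two_pow_mul_odd (orderOf_pos (w : G)).ne'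
  have hm1 : m = 1 := by
    by_contra hne1
    have hm2 : 1 < m := by
      rcases hm with ⟨k, hk⟩
      omega
    have h2 : lf (w ^ m) ≠ 1 := by
      rw [map_pow]
      obtain ⟨k, hk⟩ := hm
      rw [hk, pow_succ, pow_mul, pow_two, hww, one_pow, one_mul]
      exact hw
    have h3 := hmin _ h2
    have h4 : orderOf (w ^ m) < orderOf w := orderOf_pow_lt hm2 (by
      rw [hord, ham]; exact dvd_mul_left m _)
    rw [hord, hord, hwn] at h4
    omega
  have hwp : IsPGroup 2 (zpowers (w : G)) := by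
    apply IsPGroup.of_card (n := a)
    rw [Nat.card_zpowers, ham, hm1, mul_one]
  have hwt : ∀ x ∈ zpowers (w : G), x * t = t * x := by
    intro x hx
    have : zpowers (w : G) ≤ (Ct t) := by rw [zpowers_le]; exact w.2
    exact mem_centralizer_singleton_iff.1 (this hx)
  obtain ⟨c, hc, hcT⟩ := exists_conj_le F hwp hwt
  have hw1T := hcT w (mem_zpowers _)
  have hcC : c ∈ (Ct t) := mem_centralizer_singleton_iff.2 hc
  have hlw : lf ⟨c * w * c⁻¹, hT hw1T⟩ = lf w := by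
    have e : (⟨c * w * c⁻¹, hT hw1T⟩ : (Ct t)) = ⟨c, hcC⟩ * w * ⟨c, hcC⟩⁻¹ := rfl
    rw [e, map_mul, map_mul, map_inv, mul_comm, ← mul_assoc, inv_mul_cancel, one_mul]
  obtain ⟨y', ⟨hy'T, hy'1, hy'2, hy'R⟩, hy'o⟩ := L.good _ hw1T (by rw [hlw]; exact hw)
    (by rw [hlw]; exact hww)
  have hy'n : orderOf y' = n0 := by
    apply le_antisymm
    · refine hy'o.trans ?_
      rw [← hwn]
      apply le_of_eq
      exact orderOf_injective (MulAut.conj c).toMonoidHom (MulAut.conj c).injective (w : G)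
    · exact hmin ⟨y', hT hy'T⟩ hy'1
  -- a Sylow subgroup of `(Ct t)(t, y')`
  set D : Subgroup G := (Ct t) ⊓ centralizer ({y'} : Set G) with hD
  have hy'D : y' ∈ D := ⟨hT hy'T, mem_centralizer_singleton_iff.2 rfl⟩
  have hy'p : IsPGroup 2 (zpowers y') := F.pT.to_le (by rw [zpowers_le]; exact hy'T)
  obtain ⟨S, hS⟩ : ∃ S : Sylow 2 D, (zpowers y').subgroupOf D ≤ S :=
    (hy'p.comap_of_injective D.subtype D.subtype_injective).exists_le_sylow
  set Q : Subgroup G := (S : Subgroup D).map D.subtype with hQ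
  have hQp : IsPGroup 2 Q := S.isPGroup'.map _
  have hQD : Q ≤ D := by
    rintro _ ⟨x, -, rfl⟩
    exact x.2
  have hy'Q : y' ∈ Q := ⟨⟨y', hy'D⟩, hS (by exact mem_zpowers y'), rfl⟩
  have hQmax : ∀ P : Subgroup G, IsPGroup 2 P → Q ≤ P → P ≤ D → P ≤ Q := by
    intro P hP hQP hPD x hx
    have h1 : P.subgroupOf D = S := by
      apply S.is_maximal' (hP.comap_of_injective D.subtype D.subtype_injective)
      intro z hz
      exact hQP ⟨z, hz, rfl⟩
    have h2 : (⟨x, hPD hx⟩ : D) ∈ (S : Subgroup D) := by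
      rw [← h1]; exact hx
    exact ⟨_, h2, rfl⟩
  obtain ⟨d, hd, hdT⟩ := exists_conj_le F hQp fun x hx =>
    mem_centralizer_singleton_iff.1 (mem_inf.1 (hQD hx)).1
  have hdC : d ∈ (Ct t) := mem_centralizer_singleton_iff.2 hd
  have hyT := hdT y' hy'Q
  have hly : lf ⟨d * y' * d⁻¹, hT hyT⟩ = lf ⟨y', hT hy'T⟩ := by
    have e : (⟨d * y' * d⁻¹, hT hyT⟩ : (Ct t)) = ⟨d, hdC⟩ * ⟨y', hT hy'T⟩ * ⟨d, hdC⟩⁻¹ := rfl
    rw [e, map_mul, map_mul, map_inv, mul_comm, ← mul_assoc, inv_mul_cancel, one_mul]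
  refine ⟨d * y' * d⁻¹, ⟨hyT, by rw [hly]; exact hy'1, by rw [hly]; exact hy'2, ?_⟩, ?_, ?_⟩
  · have e : d * y' * d⁻¹ * (d * y' * d⁻¹) = d * (y' * y') * d⁻¹ := by group
    rw [e]
    exact conj_R F hd hy'R
  · intro w' hw'
    have e : orderOf (d * y' * d⁻¹) = orderOf y' :=
      orderOf_injective (MulAut.conj d).toMonoidHom (MulAut.conj d).injective y'
    rw [e, hy'n]
    exact hmin w' hw'
  · intro P hP hle hPt hPy
    -- conjugate back
    set P' : Subgroup G := P.map (MulAut.conj d⁻¹).toMonoidHom with hP'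
    have hP'p : IsPGroup 2 P' := hP.map _
    have hdi : d⁻¹ * t = t * d⁻¹ := ((show Commute d t from hd).inv_left).eq
    have h1 : P' ≤ Q := by
      apply hQmax P' hP'p
      · intro x hx
        refine ⟨d * x * d⁻¹, hle ⟨hdT x hx, ?_⟩, ?_⟩
        · refine mem_centralizer_singleton_iff.2 ?_
          have h2 := mem_centralizer_singleton_iff.1 (mem_inf.1 (hQD hx)).2
          calc d * x * d⁻¹ * (d * y' * d⁻¹) = d * (x * y') * d⁻¹ := by group
            _ = d * (y' * x) * d⁻¹ := by rw [h2]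
            _ = d * y' * d⁻¹ * (d * x * d⁻¹) := by group
        · show d⁻¹ * (d * x * d⁻¹) * d⁻¹⁻¹ = x
          group
      · rintro _ ⟨x, hx, rfl⟩
        refine ⟨?_, ?_⟩
        · show d⁻¹ * x * d⁻¹⁻¹ ∈ (Ct t)
          exact (Ct t).mul_mem ((Ct t).mul_mem ((Ct t).inv_mem hdC) (mem_centralizer_singleton_iff.2 (hPt x hx)))
            ((Ct t).inv_mem ((Ct t).inv_mem hdC))
        · refine mem_centralizer_singleton_iff.2 ?_
          show d⁻¹ * x * d⁻¹⁻¹ * y' = y' * (d⁻¹ * x * d⁻¹⁻¹)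
          have h2 := hPy x hx
          calc d⁻¹ * x * d⁻¹⁻¹ * y' = d⁻¹ * (x * (d * y' * d⁻¹)) * d := by group
            _ = d⁻¹ * (d * y' * d⁻¹ * x) * d := by rw [h2]
            _ = y' * (d⁻¹ * x * d⁻¹⁻¹) := by group
    intro x hx
    refine ⟨?_, mem_centralizer_singleton_iff.2 (hPy x hx)⟩
    have h2 : d⁻¹ * x * d ∈ Q := h1 ⟨x, hx, by show d⁻¹ * x * d⁻¹⁻¹ = _; rw [inv_inv]⟩
    have h3 := hdT _ h2
    have e : d * (d⁻¹ * x * d) * d⁻¹ = x := by group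
    rwa [e] at h3

/-! ### the conjugates of `t` centralised by `C_T(y)` -/

/-- the value at a fixed coset -/
theorem val [Finite G] (F : Fr t v K U Z T) {A : Type*} [CommGroup A]
    {lf : centralizer ({t} : Set G) →* A} {hT : T ≤ centralizer ({t} : Set G)} (L : Fld F lf hT)
    {y g r z : G} (hy : GoodY (v := v) lf hT y)
    (hg : ∀ x ∈ T ⊓ centralizer ({y} : Set G), x * (g * t * g⁻¹) = g * t * g⁻¹ * x)
    (hr : r ∈ zpowers v) (hz : z ∈ Z) (hzy : z * y = y * z) (hu : g * t * g⁻¹ = y * r * z)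
    (m : g⁻¹ * y * g ∈ centralizer ({t} : Set G)) (m' : g⁻¹ * r⁻¹ * g ∈ centralizer ({t} : Set G)) :
    lf ⟨_, m⟩ = lf ⟨_, m'⟩ := by
  have hmem : ∀ x : G, x * (g * t * g⁻¹) = g * t * g⁻¹ * x → g⁻¹ * x * g ∈ (Ct t) := by
    intro x hx
    rw [mem_centralizer_singleton_iff]
    calc g⁻¹ * x * g * t = g⁻¹ * (x * (g * t * g⁻¹)) * g := by group
      _ = g⁻¹ * (g * t * g⁻¹ * x) * g := by rw [hx]
      _ = t * (g⁻¹ * x * g) := by group
  have hzT : z ∈ T ⊓ centralizer ({y} : Set G) :=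
    ⟨(F.ZU.trans (UT F)) hz, mem_centralizer_singleton_iff.2 hzy⟩
  have hzC := hmem z (hg z hzT)
  have htC : t ∈ (Ct t) := mem_centralizer_singleton_iff.2 rfl
  -- `lf (g⁻¹ z g) = 1`
  have hz1 : lf ⟨_, hzC⟩ = 1 := by
    have hle : (⁅U ⊓ centralizer ({y} : Set G), U ⊓ centralizer ({y} : Set G)⁆).map
        (MulAut.conj g⁻¹).toMonoidHom ≤ (lf.ker).map (Ct t).subtype := by
      rw [map_commutator, commutator_le]
      rintro _ ⟨a, ha, rfl⟩ _ ⟨b, hb, rfl⟩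
      have ha' := hmem a (hg a ⟨UT F (mem_inf.1 ha).1, (mem_inf.1 ha).2⟩)
      have hb' := hmem b (hg b ⟨UT F (mem_inf.1 hb).1, (mem_inf.1 hb).2⟩)
      refine ⟨⁅(⟨_, ha'⟩ : (Ct t)), (⟨_, hb'⟩ : (Ct t))⁆, ?_, ?_⟩
      · rw [SetLike.mem_coe, MonoidHom.mem_ker, map_commutatorElement, commutatorElement_eq_one_iff_mul_comm,
          mul_comm]
      · show ⁅g⁻¹ * a * g, g⁻¹ * b * g⁆ = ⁅g⁻¹ * a * g⁻¹⁻¹, g⁻¹ * b * g⁻¹⁻¹⁆
        rw [inv_inv]
    obtain ⟨w, hw, hwz⟩ := hle ⟨z, L.der y hy z hz hzy, rfl⟩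
    have e : (⟨_, hzC⟩ : (Ct t)) = w := by
      apply Subtype.ext
      rw [show ((w : (Ct t)) : G) = g⁻¹ * z * g⁻¹⁻¹ from hwz, inv_inv]
    rw [e]
    exact hw
  have hti : lf ⟨t, htC⟩ = 1 := L.lv ⟨t, htC⟩ F.tR
  have hzr : z⁻¹ * r⁻¹ = r⁻¹ * z⁻¹ := by
    have := K_comm_R F (ZK F hz) hr
    rw [← mul_inv_rev, ← mul_inv_rev, this]
  have e : (⟨g⁻¹ * y * g, m⟩ : (Ct t)) = ⟨t, htC⟩ * ⟨_, hzC⟩⁻¹ * ⟨g⁻¹ * r⁻¹ * g, m'⟩ := by
    apply Subtype.ext
    show g⁻¹ * y * g = t * (g⁻¹ * z * g)⁻¹ * (g⁻¹ * r⁻¹ * g)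
    have h1 : t = g⁻¹ * (y * r * z) * g := by rw [← hu]; group
    calc g⁻¹ * y * g = g⁻¹ * (y * r * z) * g * (g⁻¹ * (z⁻¹ * r⁻¹) * g) := by group
      _ = t * (g⁻¹ * (z⁻¹ * r⁻¹) * g) := by rw [← h1]
      _ = t * (g⁻¹ * z * g)⁻¹ * (g⁻¹ * r⁻¹ * g) := by group
  rw [e, map_mul, map_mul, map_inv, hti, hz1, inv_one, one_mul, one_mul]

/-- the conjugates of `t` centralised by `C_T(y)` -/
theorem cases [Finite G] (F : Fr t v K U Z T)
    (hrep : ∀ z ∈ Z, z ≠ 1 → ∃ z0 ∈ Z, z0 ≠ 1 ∧ (∀ x ∈ T, x * z0 = z0 * x) ∧ ∃ k ∈ K, k * z * k⁻¹ = z0)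
    (hiso : Iso t T) {A : Type*} [CommGroup A]
    {lf : centralizer ({t} : Set G) →* A} {hT : T ≤ centralizer ({t} : Set G)} (L : Fld F lf hT)
    {y g : G} (hy : GoodY (v := v) lf hT y)
    (hmax : ∀ P : Subgroup G, IsPGroup 2 P → T ⊓ centralizer ({y} : Set G) ≤ P →
        (∀ x ∈ P, x * t = t * x) → (∀ x ∈ P, x * y = y * x) → P ≤ T ⊓ centralizer ({y} : Set G))
    (hg : ∀ x ∈ T ⊓ centralizer ({y} : Set G), x * (g * t * g⁻¹) = g * t * g⁻¹ * x)
    (hgt : g * t * g⁻¹ ≠ t) :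
    ∃ r ∈ zpowers v, ∃ z ∈ Z, z * y = y * z ∧ g * t * g⁻¹ = y * r * z := by
  obtain ⟨hyT, hy1, hy2, hyR⟩ := id hy
  set D : Subgroup G := T ⊓ centralizer ({y} : Set G) with hD
  set u : G := g * t * g⁻¹ with hu
  have huu : u * u = 1 := by
    rw [hu]
    calc g * t * g⁻¹ * (g * t * g⁻¹) = g * (t * t) * g⁻¹ := by group
      _ = 1 := by rw [F.tt]; group
  have htD : t ∈ D := ⟨tT F, mem_centralizer_singleton_iff.2 (F.tc y hyT).symm⟩
  have hyD : y ∈ D := ⟨hyT, mem_centralizer_singleton_iff.2 rfl⟩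
  have hut := hg t htD
  have huy := hg y hyD
  -- `u ∈ D`
  have huD : u ∈ D := by
    have hp : IsPGroup 2 (zpowers u) := isPGroup_zpowers huu
    have hDp : IsPGroup 2 D := F.pT.to_le inf_le_left
    have h1 : IsPGroup 2 (zpowers u ⊔ D : Subgroup G) := by
      apply hp.to_sup_of_normal_right' hDp
      rw [zpowers_le, mem_normalizer_iff]
      intro x
      constructor
      · intro hx
        have : u * x * u⁻¹ = x := by rw [← hg x hx]; group
        rw [this]; exact hx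
      · intro hx
        have h3 := hg _ hx
        have h4 : x = u * x * u⁻¹ := by
          have h5 : u * x = u * (u * x * u⁻¹) := by rw [← h3]; group
          exact mul_left_cancel h5
        rw [h4]; exact hx
    have h2 := hmax _ h1 le_sup_right ?_ ?_
    · exact h2 ((le_sup_left : zpowers u ≤ _) (mem_zpowers u))
    · have : zpowers u ⊔ D ≤ centralizer ({t} : Set G) := by
        rw [sup_le_iff, zpowers_le]
        exact ⟨mem_centralizer_singleton_iff.2 hut.symm, fun x hx =>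
          mem_centralizer_singleton_iff.2 (F.tc x (mem_inf.1 hx).1)⟩
      intro x hx
      exact mem_centralizer_singleton_iff.1 (this hx)
    · have : zpowers u ⊔ D ≤ centralizer ({y} : Set G) := by
        rw [sup_le_iff, zpowers_le]
        exact ⟨mem_centralizer_singleton_iff.2 huy.symm, inf_le_right⟩
      intro x hx
      exact mem_centralizer_singleton_iff.1 (this hx)
  obtain ⟨r, hr, z, hz, hzy, h | h⟩ := L.cent y hy u (mem_inf.1 huD).1 huy.symm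
    (fun x hx hxy => hg x ⟨UT F hx, mem_centralizer_singleton_iff.2 hxy⟩)
  · exfalso
    have hzr := K_comm_R F (ZK F hz) hr
    have hrr : r * r = 1 := by
      have h1 : r * z * (r * z) = r * r * (z * z) := by
        calc r * z * (r * z) = r * (z * r) * z := by group
          _ = r * r * (z * z) := by rw [hzr]; group
      rw [h, h1, F.Zsq z hz, mul_one] at huu
      exact huu
    rcases eq_t F hr hrr with h1 | h1
    · rw [h1, one_mul] at h
      exact F.nconj z hz g (hu.symm.trans h)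
    · rw [h1] at h
      have hz1 : z ≠ 1 := by
        rintro rfl
        rw [mul_one] at h
        exact hgt h
      obtain ⟨z0, hz0, hz01, hz0c, k, hk, hkz⟩ := hrep z hz hz1
      have h2 : (k * g) * t * (k * g)⁻¹ = t * z0 := by
        calc (k * g) * t * (k * g)⁻¹ = k * (g * t * g⁻¹) * k⁻¹ := by group
          _ = (k * t) * z * k⁻¹ := by rw [← hu, h]; group
          _ = t * (k * z * k⁻¹) := by rw [Kt F hk]; group
          _ = t * z0 := by rw [hkz]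
      have h3 := hiso (k * g) (by rw [h2]; exact T.mul_mem (tT F) ((F.ZU.trans (UT F)) hz0)) (by
        intro x hx
        rw [h2]
        calc x * (t * z0) = (x * t) * z0 := by group
          _ = t * (x * z0) := by rw [F.tc x hx]; group
          _ = t * z0 * x := by rw [hz0c x hx]; group)
      rw [h2] at h3
      exact hz01 (mul_eq_left.1 h3)
  · exact ⟨r, hr, z, hz, hzy, h⟩

/-- **Step 1**, general form -/
theorem lf_eq_one_of [Finite G] (hG : commutator G = ⊤) (F : Fr t v K U Z T)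
    (hrep : ∀ z ∈ Z, z ≠ 1 → ∃ z0 ∈ Z, z0 ≠ 1 ∧ (∀ x ∈ T, x * z0 = z0 * x) ∧ ∃ k ∈ K, k * z * k⁻¹ = z0)
    (hiso : Iso t T)
    {A : Type*} [CommGroup A] {lf : centralizer ({t} : Set G) →* A}
    {hT : T ≤ centralizer ({t} : Set G)} (L : Fld F lf hT) :
    ∀ (x : G) (h : x ∈ T), lf ⟨x, hT h⟩ = 1 := by
  classical
  intro x0 h0
  by_contra hne
  obtain ⟨y, hy, hmin, hmax⟩ := exists_good F L h0 hne
  obtain ⟨hyT, hy1, hy2, hyR⟩ := id hy
  set D : Subgroup G := T ⊓ centralizer ({y} : Set G) with hD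
  have hDp : IsPGroup 2 D := F.pT.to_le inf_le_left
  have hDy : ∀ d ∈ D, d * y = y * d := fun d hd => mem_centralizer_singleton_iff.1 (mem_inf.1 hd).2
  have hyD : y ∈ D := ⟨hyT, mem_centralizer_singleton_iff.2 rfl⟩
  obtain ⟨z0, hz0, hz01, hz0c⟩ := exists_central F
  have hord : ∀ x : (Ct t), orderOf x = orderOf (x : G) := fun x =>
    (orderOf_injective (Ct t).subtype (Ct t).subtype_injective x).symm
  have horde : 2 ∣ orderOf y := by
    have := two_dvd_orderOf lf L.l2 hy1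
    rwa [hord] at this
  have hoc : ∀ (g x : G), orderOf (g⁻¹ * x * g) = orderOf x := by
    intro g x
    have := orderOf_injective (MulAut.conj g⁻¹).toMonoidHom (MulAut.conj g⁻¹).injective x
    rw [← this]
    congr 1
    show g⁻¹ * x * g = g⁻¹ * x * g⁻¹⁻¹
    rw [inv_inv]
  -- values at powers
  have hlt : ∀ (g : G) (k : ℕ) (h : g⁻¹ * y ^ k * g ∈ (Ct t)), orderOf (y ^ k) < orderOf y →
      lf ⟨_, h⟩ = 1 := by
    intro g k h hk
    by_contra h1
    have h2 := hmin _ h1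
    have h3 : orderOf (g⁻¹ * y ^ k * g) = orderOf (y ^ k) := hoc g _
    change orderOf y ≤ orderOf (g⁻¹ * y ^ k * g) at h2
    omega
  have hper : ∀ (g : G) (k : ℕ), minimalPeriod (y • ·) (g : G ⧸ (Ct t)) = k → k ∣ orderOf y := by
    intro g k hk
    rw [← hk, ← pow_smul_eq_iff_minimalPeriod_dvd, pow_orderOf_eq_one, one_smul]
  have hsq1 : ∀ (g : G) (h : g⁻¹ * y * g ∈ (Ct t)), lf ⟨_, h⟩ * lf ⟨_, h⟩ = 1 := by
    intro g h
    have h2 : g⁻¹ * y ^ 2 * g ∈ (Ct t) := by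
      have := (Ct t).mul_mem h h
      have e : g⁻¹ * y * g * (g⁻¹ * y * g) = g⁻¹ * y ^ 2 * g := by rw [pow_two]; group
      rwa [e] at this
    have h3 := hlt g 2 h2 (orderOf_pow_lt one_lt_two horde)
    rw [← map_mul, ← h3]
    congr 1
    apply Subtype.ext
    show g⁻¹ * y * g * (g⁻¹ * y * g) = g⁻¹ * y ^ 2 * g
    rw [pow_two]
    group
  have hFval : ∀ g : G, ∃ k : ℕ, minimalPeriod (y • ·) (g : G ⧸ (Ct t)) = k ∧
      ∃ h : g⁻¹ * y ^ k * g ∈ (Ct t),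
        Front.OrbitTransfer.F (Ct t) lf y (Quotient.mk'' (g : G ⧸ (Ct t))) = lf ⟨_, h⟩ := by
    intro g
    have h : g⁻¹ * y ^ (minimalPeriod (y • ·) (g : G ⧸ (Ct t))) * g ∈ (Ct t) := by
      rw [← Front.OrbitTransfer.smul_mk_eq]
      exact pow_smul_eq_iff_minimalPeriod_dvd.2 dvd_rfl
    exact ⟨_, rfl, h, Front.OrbitTransfer.F_mk (Ct t) lf y g rfl h⟩
  have : Fintype (Front.OrbitTransfer.Orb (Ct t) y) := Fintype.ofFinite _
  have : Fintype (G ⧸ (Ct t)) := Fintype.ofFinite _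
  have hF : MonoidHom.transfer lf y =
      ∏ o : Front.OrbitTransfer.Orb (Ct t) y, Front.OrbitTransfer.F (Ct t) lf y o := by
    rw [MonoidHom.transfer_eq_prod_quotient_orbitRel_zpowers_quot]
    rfl
  -- values of nontrivial orbits
  have hbig : ∀ g : G, minimalPeriod (y • ·) (g : G ⧸ (Ct t)) ≠ 1 →
      Front.OrbitTransfer.F (Ct t) lf y (Quotient.mk'' (g : G ⧸ (Ct t))) = 1 := by
    intro g hk1
    obtain ⟨k, hk, h, e⟩ := hFval g
    rw [e]
    apply hlt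
    have hkd := hper g k hk
    have hk0 : k ≠ 0 := by
      rintro rfl
      exact (orderOf_pos y).ne' (zero_dvd_iff.1 hkd)
    exact orderOf_pow_lt (by rw [hk] at hk1; omega) hkd
  have hone : ∀ (g : G), minimalPeriod (y • ·) (g : G ⧸ (Ct t)) = 1 → ∃ h : g⁻¹ * y * g ∈ (Ct t),
      Front.OrbitTransfer.F (Ct t) lf y (Quotient.mk'' (g : G ⧸ (Ct t))) = lf ⟨_, h⟩ := by
    intro g hk1
    obtain ⟨k, hk, h, e⟩ := hFval g
    rw [hk] at hk1
    subst hk1
    have h' : g⁻¹ * y * g ∈ (Ct t) := by rwa [pow_one] at h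
    refine ⟨h', e.trans ?_⟩
    congr 1
    apply Subtype.ext
    show g⁻¹ * y ^ 1 * g = g⁻¹ * y * g
    rw [pow_one]
  let act := Front.OrbitTransfer.orbAction (Ct t) y D hDy
  -- only the cosets fixed by `D` count
  set s : Finset (G ⧸ (Ct t)) := Finset.univ.filter (fun q => ∀ d ∈ D, d • q = q) with hs
  have hsy : ∀ q ∈ s, y • q = q := fun q hq => (Finset.mem_filter.1 hq).2 y hyD
  have hsper : ∀ g : G, (g : G ⧸ (Ct t)) ∈ s → minimalPeriod (y • ·) (g : G ⧸ (Ct t)) = 1 := by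
    intro g hg
    rw [Function.minimalPeriod_eq_one_iff_isFixedPt]
    exact hsy _ hg
  let ι : G ⧸ (Ct t) → Front.OrbitTransfer.Orb (Ct t) y := fun q => Quotient.mk'' q
  have hι : Set.InjOn ι (s : Set (G ⧸ (Ct t))) := by
    intro q hq q' hq' h
    obtain ⟨⟨_, i, rfl⟩, hi⟩ := Quotient.exact h
    have h1 : y ^ i • q' = q := hi
    have h2 : y ^ i • q' = q' := by
      have h3 : y ∈ stabilizer G q' := hsy q' hq'
      exact zpow_mem h3 i
    rw [← h1, h2]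
  have hprod : MonoidHom.transfer lf y = ∏ q ∈ s, Front.OrbitTransfer.F (Ct t) lf y (ι q) := by
    rw [hF, Front.OrbitTransfer.prod_fixed hDp Finset.univ (fun _ _ _ => Finset.mem_univ _)
      (Front.OrbitTransfer.F (Ct t) lf y), ← Finset.prod_image (g := ι) (f := Front.OrbitTransfer.F (Ct t) lf y) hι]
    · symm
      apply Finset.prod_subset
      · intro o ho
        obtain ⟨q, hq, rfl⟩ := Finset.mem_image.1 ho
        rw [Finset.mem_filter]
        refine ⟨Finset.mem_univ _, ?_⟩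
        rintro ⟨d, hd⟩
        show (Quotient.mk'' (d • q) : Front.OrbitTransfer.Orb (Ct t) y) = Quotient.mk'' q
        rw [(Finset.mem_filter.1 hq).2 d hd]
      · intro o ho hno
        obtain ⟨q, rfl⟩ := Quotient.exists_rep o
        obtain ⟨g, rfl⟩ := QuotientGroup.mk_surjective q
        change Front.OrbitTransfer.F (Ct t) lf y (Quotient.mk'' (g : G ⧸ (Ct t))) = 1
        apply hbig
        intro hk1
        apply hno
        rw [Finset.mem_image]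
        refine ⟨(g : G ⧸ (Ct t)), ?_, rfl⟩
        rw [hs, Finset.mem_filter]
        refine ⟨Finset.mem_univ _, ?_⟩
        intro d hd
        have h1 := (Finset.mem_filter.1 ho).2 ⟨d, hd⟩
        have h2 : (Quotient.mk'' (d • (g : G ⧸ (Ct t))) : Front.OrbitTransfer.Orb (Ct t) y) =
          Quotient.mk'' (g : G ⧸ (Ct t)) := h1
        obtain ⟨⟨_, i, rfl⟩, hi⟩ := Quotient.exact h2
        have h3 : y ^ i • (g : G ⧸ (Ct t)) = d • (g : G ⧸ (Ct t)) := hi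
        have h4 : y • (g : G ⧸ (Ct t)) = (g : G ⧸ (Ct t)) :=
          (Function.minimalPeriod_eq_one_iff_isFixedPt.1 hk1)
        have h5 : y ∈ stabilizer G (g : G ⧸ (Ct t)) := h4
        rw [← h3]
        exact zpow_mem h5 i
    · intro d o _
      obtain ⟨q, rfl⟩ := Quotient.exists_rep o
      obtain ⟨g, rfl⟩ := QuotientGroup.mk_surjective q
      have e0 : (d • (Quotient.mk'' (g : G ⧸ (Ct t)) : Front.OrbitTransfer.Orb (Ct t) y)) =
        Quotient.mk'' (((d : G) * g : G) : G ⧸ (Ct t)) := rfl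
      change Front.OrbitTransfer.F (Ct t) lf y (d • (Quotient.mk'' (g : G ⧸ (Ct t)) : Front.OrbitTransfer.Orb (Ct t) y)) =
        Front.OrbitTransfer.F (Ct t) lf y (Quotient.mk'' (g : G ⧸ (Ct t)))
      rw [e0]
      obtain ⟨k, hk, h, e⟩ := hFval g
      have hdy := hDy d d.2
      have hk' : minimalPeriod (y • ·) (((d : G) * g : G) : G ⧸ (Ct t)) = k := by
        rw [← hk]
        exact Front.OrbitTransfer.period_smul hdy (g : G ⧸ (Ct t))
      have h3 : ((d : G) * g)⁻¹ * y ^ k * ((d : G) * g) = g⁻¹ * y ^ k * g := by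
        have h4 : (d : G) * y ^ k = y ^ k * d := ((show Commute (d : G) y from hdy).pow_right _).eq
        calc ((d : G) * g)⁻¹ * y ^ k * ((d : G) * g)
            = g⁻¹ * ((d : G)⁻¹ * (y ^ k * d)) * g := by group
          _ = _ := by rw [← h4, inv_mul_cancel_left]
      have h5 : ((d : G) * g)⁻¹ * y ^ k * ((d : G) * g) ∈ (Ct t) := by rw [h3]; exact h
      rw [e, Front.OrbitTransfer.F_mk (Ct t) lf y _ hk' h5]
      congr 1
      exact Subtype.ext h3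
    · intro o _
      obtain ⟨q, rfl⟩ := Quotient.exists_rep o
      obtain ⟨g, rfl⟩ := QuotientGroup.mk_surjective q
      change Front.OrbitTransfer.F (Ct t) lf y (Quotient.mk'' (g : G ⧸ (Ct t))) ^ 2 = 1
      by_cases hk1 : minimalPeriod (y • ·) (g : G ⧸ (Ct t)) = 1
      · obtain ⟨h, e⟩ := hone g hk1
        rw [e, pow_two]
        exact hsq1 g h
      · rw [hbig g hk1, one_pow]
  -- the base coset
  set q0 : G ⧸ (Ct t) := ((1 : G) : G ⧸ (Ct t)) with hq0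
  have hq0s : q0 ∈ s := by
    rw [hs, Finset.mem_filter]
    refine ⟨Finset.mem_univ _, ?_⟩
    intro d hd
    rw [hq0, Front.OrbitTransfer.smul_mk_eq]
    have : (1 : G)⁻¹ * d * 1 = d := by group
    rw [this]
    exact hT (mem_inf.1 hd).1
  have hq0v : Front.OrbitTransfer.F (Ct t) lf y (ι q0) = lf ⟨y, hT hyT⟩ := by
    obtain ⟨h, e⟩ := hone 1 (hsper 1 hq0s)
    show Front.OrbitTransfer.F (Ct t) lf y (Quotient.mk'' ((1 : G) : G ⧸ (Ct t))) = _
    rw [e]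
    congr 1
    apply Subtype.ext
    show (1 : G)⁻¹ * y * 1 = y
    group
  -- the other ones cancel in pairs
  obtain ⟨k, hk, hky⟩ := L.conj y hy z0 hz0 (hz0c y hyT).symm
  have hkz : ∀ z ∈ Z, k * z = z * k := fun z hz => F.Zc z hz k hk
  have hkr : ∀ r ∈ zpowers v, k * r = r * k := fun r hr => K_comm_R F (UK F hk) hr
  have hrest : ∏ q ∈ s.erase q0, Front.OrbitTransfer.F (Ct t) lf y (ι q) = 1 := by
    -- data of a fixed coset
    have hdat : ∀ g : G, (g : G ⧸ (Ct t)) ∈ s.erase q0 →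
        (∀ x ∈ D, x * (g * t * g⁻¹) = g * t * g⁻¹ * x) ∧
        ∃ r ∈ zpowers v, ∃ z ∈ Z, z * y = y * z ∧ g * t * g⁻¹ = y * r * z := by
      intro g hg
      rw [Finset.mem_erase, hs, Finset.mem_filter] at hg
      have h1 : ∀ x ∈ D, x * (g * t * g⁻¹) = g * t * g⁻¹ * x := by
        intro x hx
        have h2 := (Front.OrbitTransfer.smul_mk_eq (Ct t) x g).1 (hg.2.2 x hx)
        rw [mem_centralizer_singleton_iff] at h2
        calc x * (g * t * g⁻¹) = g * (g⁻¹ * x * g * t) * g⁻¹ := by group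
          _ = g * (t * (g⁻¹ * x * g)) * g⁻¹ := by rw [h2]
          _ = g * t * g⁻¹ * x := by group
      refine ⟨h1, cases F hrep hiso L hy hmax h1 ?_⟩
      intro h2
      apply hg.1
      rw [hq0, eq_comm, QuotientGroup.eq, inv_one, one_mul, mem_centralizer_singleton_iff]
      rwa [mul_inv_eq_iff_eq_mul] at h2
    -- the shifted coset
    have hsh : ∀ g : G, (g : G ⧸ (Ct t)) ∈ s.erase q0 →
        (k * g) * t * (k * g)⁻¹ = g * t * g⁻¹ * z0 := by
      intro g hg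
      obtain ⟨-, r, hr, z, hz, hzy, hu⟩ := hdat g hg
      have hz0r := K_comm_R F (ZK F hz0) hr
      have hzz0 : z0 * z = z * z0 := F.Zc z hz z0 (F.ZU hz0)
      calc (k * g) * t * (k * g)⁻¹ = k * (g * t * g⁻¹) * k⁻¹ := by group
        _ = k * (y * r * z) * k⁻¹ := by rw [hu]
        _ = k * y * r * (z * k⁻¹) := by group
        _ = k * y * (r * k⁻¹) * z := by
            have : z * k⁻¹ = k⁻¹ * z := by
              rw [mul_inv_eq_iff_eq_mul, mul_assoc, ← hkz z hz]; group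
            rw [this]; group
        _ = (k * y * k⁻¹) * r * z := by
            have : r * k⁻¹ = k⁻¹ * r := by
              rw [mul_inv_eq_iff_eq_mul, mul_assoc, ← hkr r hr]; group
            rw [this]; group
        _ = y * (z0 * r) * z := by rw [hky]; group
        _ = y * r * (z0 * z) := by rw [hz0r]; group
        _ = y * r * z * z0 := by rw [hzz0]; group
        _ = g * t * g⁻¹ * z0 := by rw [hu]
    have hz0u : ∀ g : G, (g : G ⧸ (Ct t)) ∈ s.erase q0 → z0 * (g * t * g⁻¹) = g * t * g⁻¹ * z0 := by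
      intro g hg
      apply (hdat g hg).1
      exact ⟨(F.ZU.trans (UT F)) hz0, mem_centralizer_singleton_iff.2 (hz0c y hyT).symm⟩
    refine Finset.prod_involution (fun q _ => k • q) ?_ ?_ ?_ ?_
    · -- values
      intro q hq
      obtain ⟨g, rfl⟩ := QuotientGroup.mk_surjective q
      obtain ⟨h1, r, hr, z, hz, hzy, hu⟩ := hdat g hq
      have hqs := (Finset.mem_erase.1 hq).2
      obtain ⟨m, e⟩ := hone g (hsper g hqs)
      -- `r` commutes with `u`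
      have hry : r * y = y * r := by
        have h2 : r = y⁻¹ * (g * t * g⁻¹) * z⁻¹ := by rw [hu]; group
        have h3 := h1 y hyD
        have hyi : y⁻¹ * y = y * y⁻¹ := by group
        rw [h2]
        calc y⁻¹ * (g * t * g⁻¹) * z⁻¹ * y = y⁻¹ * (g * t * g⁻¹) * (z⁻¹ * y) := by group
          _ = y⁻¹ * (g * t * g⁻¹ * y) * z⁻¹ := by
              have : z⁻¹ * y = y * z⁻¹ := ((show Commute z y from hzy).inv_left).eq
              rw [this]; group
          _ = y * (y⁻¹ * (g * t * g⁻¹) * z⁻¹) := by rw [← h3]; group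
      have hrD : r⁻¹ ∈ D := by
        refine ⟨T.inv_mem (RT F hr), ?_⟩
        exact (centralizer ({y} : Set G)).inv_mem (mem_centralizer_singleton_iff.2 hry)
      have hcC : ∀ g' : G, (∀ x ∈ D, x * (g' * t * g'⁻¹) = g' * t * g'⁻¹ * x) →
          g'⁻¹ * r⁻¹ * g' ∈ (Ct t) := by
        intro g' h2
        have h3 := h2 _ hrD
        rw [mem_centralizer_singleton_iff]
        calc g'⁻¹ * r⁻¹ * g' * t = g'⁻¹ * (r⁻¹ * (g' * t * g'⁻¹)) * g' := by group
          _ = g'⁻¹ * (g' * t * g'⁻¹ * r⁻¹) * g' := by rw [h3]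
          _ = t * (g'⁻¹ * r⁻¹ * g') := by group
      -- the shifted coset
      have hsh1 := hsh g hq
      have hu' : (k * g) * t * (k * g)⁻¹ = y * r * (z * z0) := by rw [hsh1, hu]; group
      have h1' : ∀ x ∈ D, x * ((k * g) * t * (k * g)⁻¹) = (k * g) * t * (k * g)⁻¹ * x := by
        intro x hx
        rw [hsh1]
        have h2 := h1 x hx
        have h3 := hz0c x (mem_inf.1 hx).1
        calc x * (g * t * g⁻¹ * z0) = x * (g * t * g⁻¹) * z0 := by group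
          _ = g * t * g⁻¹ * (x * z0) := by rw [h2]; group
          _ = g * t * g⁻¹ * z0 * x := by rw [h3]; group
      have m' : (k * g)⁻¹ * y * (k * g) ∈ (Ct t) := by
        have h2 := h1' y hyD
        rw [mem_centralizer_singleton_iff]
        calc (k * g)⁻¹ * y * (k * g) * t = (k * g)⁻¹ * (y * ((k * g) * t * (k * g)⁻¹)) * (k * g) := by
              group
          _ = (k * g)⁻¹ * ((k * g) * t * (k * g)⁻¹ * y) * (k * g) := by rw [h2]
          _ = t * ((k * g)⁻¹ * y * (k * g)) := by group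
      have hper' : minimalPeriod (y • ·) ((k * g : G) : G ⧸ (Ct t)) = 1 := by
        rw [Function.minimalPeriod_eq_one_iff_isFixedPt]
        exact (Front.OrbitTransfer.smul_mk_eq (Ct t) y (k * g)).2 m'
      obtain ⟨m'', e'⟩ := hone (k * g) hper'
      have hzz0y : z * z0 * y = y * (z * z0) := by
        have h2 := hz0c y hyT
        calc z * z0 * y = z * (z0 * y) := by group
          _ = (z * y) * z0 := by rw [← h2]; group
          _ = y * (z * z0) := by rw [hzy]; group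
      have v1 := val F L hy h1 hr hz hzy hu m (hcC g h1)
      have v2 := val F L hy h1' hr (Z.mul_mem hz hz0) hzz0y hu' m'' (hcC (k * g) h1')
      have v3 : lf ⟨_, hcC (k * g) h1'⟩ = lf ⟨_, hcC g h1⟩ := by
        congr 1
        apply Subtype.ext
        show (k * g)⁻¹ * r⁻¹ * (k * g) = g⁻¹ * r⁻¹ * g
        have h2 : k⁻¹ * r⁻¹ * k = r⁻¹ := by
          have : k * r⁻¹ = r⁻¹ * k := hkr _ ((zpowers v).inv_mem hr)
          rw [mul_assoc, ← this]; group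
        calc (k * g)⁻¹ * r⁻¹ * (k * g) = g⁻¹ * (k⁻¹ * r⁻¹ * k) * g := by group
          _ = _ := by rw [h2]
      have e2 : Front.OrbitTransfer.F (Ct t) lf y (ι (g : G ⧸ (Ct t))) = lf ⟨_, m⟩ := e
      have e3 : Front.OrbitTransfer.F (Ct t) lf y (ι (k • (g : G ⧸ (Ct t)))) = lf ⟨_, m''⟩ := e'
      rw [e2, e3, v2, v3, ← v1]
      exact hsq1 g m
    · -- fixed-point-free
      intro q hq _ hfix
      obtain ⟨g, rfl⟩ := QuotientGroup.mk_surjective q
      have h2 : ((k * g : G) : G ⧸ (Ct t)) = (g : G ⧸ (Ct t)) := hfix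
      rw [eq_comm, QuotientGroup.eq, mem_centralizer_singleton_iff] at h2
      have h3 := hsh g hq
      have h4 : (k * g) * t * (k * g)⁻¹ = g * t * g⁻¹ := by
        calc (k * g) * t * (k * g)⁻¹ = g * (g⁻¹ * (k * g) * t) * (k * g)⁻¹ := by group
          _ = g * (t * (g⁻¹ * (k * g))) * (k * g)⁻¹ := by rw [h2]
          _ = g * t * g⁻¹ := by group
      rw [h3] at h4
      exact hz01 (mul_eq_left.1 h4)
    · -- the set is preserved
      intro q hq
      obtain ⟨g, rfl⟩ := QuotientGroup.mk_surjective q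
      obtain ⟨h1, r, hr, z, hz, hzy, hu⟩ := hdat g hq
      have h3 := hsh g hq
      show ((k * g : G) : G ⧸ (Ct t)) ∈ s.erase q0
      rw [Finset.mem_erase]
      constructor
      · intro h2
        rw [hq0, eq_comm, QuotientGroup.eq, inv_one, one_mul, mem_centralizer_singleton_iff] at h2
        have h4 : (k * g) * t * (k * g)⁻¹ = t := by rw [h2]; group
        rw [h3, hu] at h4
        -- then `lf y = 1`
        apply hy1
        have e : (⟨y, hT hyT⟩ : (Ct t)) = ⟨t, mem_centralizer_singleton_iff.2 rfl⟩ *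
            (⟨z * z0, hT ((F.ZU.trans (UT F)) (Z.mul_mem hz hz0))⟩)⁻¹ * (⟨r, hT (RT F hr)⟩)⁻¹ := by
          apply Subtype.ext
          show y = t * (z * z0)⁻¹ * r⁻¹
          rw [← h4]; group
        rw [e, map_mul, map_mul, map_inv, map_inv, L.lv ⟨t, _⟩ F.tR, L.lv ⟨r, _⟩ hr,
          L.lK ⟨z * z0, _⟩ (ZK F (Z.mul_mem hz hz0))]
        simp
      · rw [hs, Finset.mem_filter]
        refine ⟨Finset.mem_univ _, ?_⟩
        intro d hd
        rw [Front.OrbitTransfer.smul_mk_eq, mem_centralizer_singleton_iff]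
        have h5 : d * ((k * g) * t * (k * g)⁻¹) = (k * g) * t * (k * g)⁻¹ * d := by
          rw [h3]
          have h6 := h1 d hd
          have h7 := hz0c d (mem_inf.1 hd).1
          calc d * (g * t * g⁻¹ * z0) = d * (g * t * g⁻¹) * z0 := by group
            _ = g * t * g⁻¹ * (d * z0) := by rw [h6]; group
            _ = g * t * g⁻¹ * z0 * d := by rw [h7]; group
        calc (k * g)⁻¹ * d * (k * g) * t = (k * g)⁻¹ * (d * ((k * g) * t * (k * g)⁻¹)) * (k * g) := by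
              group
          _ = (k * g)⁻¹ * ((k * g) * t * (k * g)⁻¹ * d) * (k * g) := by rw [h5]
          _ = t * ((k * g)⁻¹ * d * (k * g)) := by group
    · -- involution
      intro q hq
      obtain ⟨g, rfl⟩ := QuotientGroup.mk_surjective q
      have h3 := hsh g hq
      have hkz0 := hkz z0 hz0
      show ((k * (k * g) : G) : G ⧸ (Ct t)) = (g : G ⧸ (Ct t))
      rw [eq_comm, QuotientGroup.eq, mem_centralizer_singleton_iff]
      have h4 : k * (k * g) * t * (k * (k * g))⁻¹ = g * t * g⁻¹ := by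
        calc k * (k * g) * t * (k * (k * g))⁻¹ = k * ((k * g) * t * (k * g)⁻¹) * k⁻¹ := by group
          _ = k * (g * t * g⁻¹) * (z0 * k⁻¹) := by rw [h3]; group
          _ = (k * g * t * (k * g)⁻¹) * z0 := by
              have : z0 * k⁻¹ = k⁻¹ * z0 := by
                rw [mul_inv_eq_iff_eq_mul, mul_assoc, ← hkz0]; group
              rw [this]; group
          _ = g * t * g⁻¹ * (z0 * z0) := by rw [h3]; group
          _ = g * t * g⁻¹ := by rw [F.Zsq z0 hz0, mul_one]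
      calc g⁻¹ * (k * (k * g)) * t = g⁻¹ * (k * (k * g) * t * (k * (k * g))⁻¹) * (k * (k * g)) := by
            group
        _ = g⁻¹ * (g * t * g⁻¹) * (k * (k * g)) := by rw [h4]
        _ = t * (g⁻¹ * (k * (k * g))) := by group
  have hfin : MonoidHom.transfer lf y = lf ⟨y, hT hyT⟩ := by
    rw [hprod, ← Finset.mul_prod_erase s _ hq0s, hrest, mul_one, hq0v]
  apply hy1
  rw [← hfin]
  exact TFormula.hom_eq_one hG _ y

/-- **Step 1** -/
theorem lf_eq_one [Finite G] (hG : commutator G = ⊤) (F : FrT t v K U Z T) (hiso : Iso t T)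
    {A : Type*} [CommGroup A] {lf : centralizer ({t} : Set G) →* A}
    {hT : T ≤ centralizer ({t} : Set G)} (L : Fld F.toFr lf hT) :
    ∀ (x : G) (h : x ∈ T), lf ⟨x, hT h⟩ = 1 := by
  refine lf_eq_one_of hG F.toFr ?_ hiso L
  intro z hz hz1
  obtain ⟨z0, hz0, hz01, hz0c⟩ := exists_central F.toFr
  obtain ⟨k, hk, hkz⟩ := F.trans z hz z0 hz0 hz1 hz01
  exact ⟨z0, hz0, hz01, hz0c, k, hk, hkz⟩

end Cfsg.Agent.OddHalf.D7Out.TransMin

end

-- merged: Cfsg.Agent.OddHalf.D7Out.Diagram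
section

/-!
# Symmetries of the simply laced diagrams (helper875)

`DiagTwo M` : 2-groups of symmetries of the diagram have order at most two; `diagTwo_A`, `diagTwo_D`, `diagTwo_E6`,
`diagTwo_E7`, `diagTwo_E8`.
-/

set_option autoImplicit false

namespace Cfsg.Agent.OddHalf.D7Out.Diagram

/-- 2-groups of diagram symmetries have order at most two -/
def DiagTwo {I : Type*} (M : CoxeterMatrix I) : Prop :=
  ∀ P : Subgroup (Equiv.Perm I), IsPGroup 2 P → (∀ σ ∈ P, ∀ i j, M (σ i) (σ j) = M i j) →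
    ∀ σ ∈ P, ∀ τ ∈ P, σ ≠ 1 → τ ≠ 1 → σ = τ

section Gen

variable {I : Type*} {M : CoxeterMatrix I} {σ τ : Equiv.Perm I}

theorem sym_mul (h : ∀ i j, M (σ i) (σ j) = M i j) (h' : ∀ i j, M (τ i) (τ j) = M i j) (i j : I) :
    M ((σ * τ) i) ((σ * τ) j) = M i j := by
  rw [Equiv.Perm.mul_apply, Equiv.Perm.mul_apply, h, h']

theorem sym_inv (h : ∀ i j, M (σ i) (σ j) = M i j) (i j : I) : M (σ⁻¹ i) (σ⁻¹ j) = M i j := by
  have h1 : ∀ k, σ (σ⁻¹ k) = k := fun k => σ.apply_symm_apply k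
  rw [← h, h1, h1]

/-- a node which is the only new neighbour of a fixed node is fixed -/
theorem grow (h : ∀ i j, M (σ i) (σ j) = M i j) {S : Set I} (hS : ∀ j ∈ S, σ j = j) {s k : I} (hs : s ∈ S)
    (hk : k ∉ S) (hsk : M s k ≠ 2) (hn : ∀ j, M s j ≠ 2 → j ∈ S ∨ j = k) : σ k = k := by
  have h1 : M s (σ k) ≠ 2 := by
    have := h s k
    rw [hS s hs] at this
    rw [this]; exact hsk
  rcases hn _ h1 with h2 | h2
  · exfalso
    have h3 := σ.injective (hS _ h2)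
    rw [h3] at h2
    exact hk h2
  · exact h2

/-- rigidity at a node -/
theorem diagTwo_of {c c' : I} (h1 : ∀ σ : Equiv.Perm I, (∀ i j, M (σ i) (σ j) = M i j) → σ c = c → σ = 1)
    (h2 : ∀ σ : Equiv.Perm I, (∀ i j, M (σ i) (σ j) = M i j) → σ c = c ∨ σ c = c') : DiagTwo M := by
  intro P _ hP σ hσ τ hτ hσ1 hτ1
  have e1 := (h2 σ (hP σ hσ)).resolve_left fun e => hσ1 (h1 σ (hP σ hσ) e)
  have e2 := (h2 τ (hP τ hτ)).resolve_left fun e => hτ1 (h1 τ (hP τ hτ) e)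
  have h3 := h1 (τ⁻¹ * σ) (sym_mul (sym_inv (hP τ hτ)) (hP σ hσ)) (by
    rw [Equiv.Perm.mul_apply, e1, ← e2]
    exact τ.symm_apply_apply c)
  exact (inv_mul_eq_one.1 h3).symm

/-- a rigid diagram -/
theorem diagTwo_of_rigid (h1 : ∀ σ : Equiv.Perm I, (∀ i j, M (σ i) (σ j) = M i j) → σ = 1) : DiagTwo M :=
  fun _ _ hP σ hσ _ _ hσ1 _ => absurd (h1 σ (hP σ hσ)) hσ1

end Gen

/-! ### Type `A` -/

open Cfsg.Agent.LieRecognition.BNCox (cA cA_apply)

theorem cA_ne_two {n : ℕ} (i j : Fin n) : cA n i j ≠ 2 ↔ (i = j ∨ (i : ℕ) + 1 = j ∨ (j : ℕ) + 1 = i) := by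
  rw [cA_apply]
  unfold Cfsg.Agent.LieRecognition.CoxClass.mA
  rw [Fin.ext_iff]
  split_ifs <;> omega

theorem rigid_A {n : ℕ} (σ : Equiv.Perm (Fin (n + 1))) (h : ∀ i j, cA (n + 1) (σ i) (σ j) = cA (n + 1) i j)
    (h0 : σ 0 = 0) : σ = 1 := by
  have key : ∀ m : ℕ, ∀ i : Fin (n + 1), (i : ℕ) ≤ m → σ i = i := by
    intro m
    induction m with
    | zero =>
      intro i hi
      have : i = 0 := Fin.ext (by simpa using hi)
      rw [this, h0]
    | succ m ih =>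
      intro i hi
      rcases Nat.lt_or_ge (i : ℕ) (m + 1) with h1 | h1
      · exact ih i (by omega)
      have hi' : (i : ℕ) = m + 1 := by omega
      have hs : m < n + 1 := by have := i.2; omega
      refine grow (S := {j : Fin (n + 1) | (j : ℕ) ≤ m}) h (fun j hj => ih j hj) (s := ⟨m, hs⟩) (le_refl m) ?_ ?_ ?_
      · intro h2
        have h2' : (i : ℕ) ≤ m := h2
        omega
      · rw [cA_ne_two]
        exact Or.inr (Or.inl hi'.symm)
      · intro j hj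
        rw [cA_ne_two] at hj
        show (j : ℕ) ≤ m ∨ j = i
        rcases hj with h2 | h2 | h2
        · left
          rw [← h2]
        · right
          apply Fin.ext
          have : m + 1 = (j : ℕ) := h2
          omega
        · left
          have : (j : ℕ) + 1 = m := h2
          omega
  ext i
  rw [key n i (by have := i.2; omega)]
  rfl

theorem diagTwo_A (n : ℕ) (hn : 2 ≤ n) : DiagTwo (cA (n + 1)) := by
  refine diagTwo_of (c := 0) (c' := Fin.last n) rigid_A fun σ h => ?_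
  by_contra hcon
  push Not at hcon
  obtain ⟨h0, hl⟩ := hcon
  set m := σ 0 with hm
  have hm0 : (m : ℕ) ≠ 0 := fun e => h0 (Fin.ext e)
  have hmn : (m : ℕ) ≠ n := fun e => hl (Fin.ext e)
  have hmlt := m.2
  have key : ∀ j : Fin (n + 1), cA (n + 1) m j ≠ 2 → j ≠ m → σ.symm j = 1 := by
    intro j hj hjm
    have h1 : cA (n + 1) 0 (σ.symm j) ≠ 2 := by
      rw [← h 0 (σ.symm j), Equiv.apply_symm_apply]
      exact hj
    rw [cA_ne_two] at h1
    rcases h1 with h2 | h2 | h2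
    · exfalso
      apply hjm
      rw [hm, h2, Equiv.apply_symm_apply]
    · apply Fin.ext
      rw [← h2]
      show (0 : ℕ) + 1 = ((1 : Fin (n + 1)) : ℕ)
      rw [Fin.val_one', Nat.mod_eq_of_lt (by omega)]
    · have h3 : ((σ.symm j : Fin (n + 1)) : ℕ) + 1 = 0 := h2
      omega
  have e1 := key ⟨m - 1, by omega⟩ (by rw [cA_ne_two]; right; right; show (m : ℕ) - 1 + 1 = m; omega)
    (fun e => by have := congrArg Fin.val e; simp only at this; omega)
  have e2 := key ⟨m + 1, by omega⟩ (by rw [cA_ne_two]; right; left; rfl)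
    (fun e => by have := congrArg Fin.val e; simp only at this; omega)
  have e3 := σ.symm.injective (e1.trans e2.symm)
  have := congrArg Fin.val e3
  simp only at this
  omega

/-! ### Type `D` -/

open Cfsg.Agent.Nodes.TypeD (M M_apply Adj)

theorem M_ne_two {n : ℕ} (i j : Fin (n + 2)) : M n i j ≠ 2 ↔ (i = j ∨ Adj i j ∨ Adj j i) := by
  rw [M_apply]
  split_ifs with h1 h2
  · simp [h1]
  · simp [h2]
  · simp [h1, h2]

/-- the neighbours -/
theorem adj_iff {n : ℕ} (i j : Fin (n + 2)) : M n i j ≠ 2 ↔ ((i : ℕ) = j ∨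
    ((j : ℕ) < n + 1 ∧ (i : ℕ) + 1 = j ∨ (j : ℕ) = n + 1 ∧ (i : ℕ) + 2 = j) ∨
    ((i : ℕ) < n + 1 ∧ (j : ℕ) + 1 = i ∨ (i : ℕ) = n + 1 ∧ (j : ℕ) + 2 = i)) := by
  rw [M_ne_two, Fin.ext_iff]
  rfl

theorem fix_chain {n : ℕ} (hn : 1 ≤ n) (σ : Equiv.Perm (Fin (n + 2))) (h : ∀ i j, M n (σ i) (σ j) = M n i j)
    (h0 : σ 0 = 0) : ∀ i : Fin (n + 2), (i : ℕ) ≤ n - 1 → σ i = i := by
  have key : ∀ m : ℕ, m ≤ n - 1 → ∀ i : Fin (n + 2), (i : ℕ) ≤ m → σ i = i := by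
    intro m
    induction m with
    | zero =>
      intro _ i hi
      have : i = 0 := Fin.ext (by simpa using hi)
      rw [this, h0]
    | succ m ih =>
      intro hm i hi
      rcases Nat.lt_or_ge (i : ℕ) (m + 1) with h1 | h1
      · exact ih (by omega) i (by omega)
      have hi' : (i : ℕ) = m + 1 := by omega
      refine grow (S := {j : Fin (n + 2) | (j : ℕ) ≤ m}) h (fun j hj => ih (by omega) j hj) (s := ⟨m, by omega⟩) (le_refl m) ?_ ?_ ?_
      · intro h2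
        have h2' : (i : ℕ) ≤ m := h2
        omega
      · rw [adj_iff]
        show m = (i : ℕ) ∨ ((i : ℕ) < n + 1 ∧ m + 1 = i ∨ (i : ℕ) = n + 1 ∧ m + 2 = i) ∨ _
        omega
      · intro j hj
        rw [adj_iff] at hj
        have hj' : m = (j : ℕ) ∨ ((j : ℕ) < n + 1 ∧ m + 1 = j ∨ (j : ℕ) = n + 1 ∧ m + 2 = j) ∨
          (m < n + 1 ∧ (j : ℕ) + 1 = m ∨ m = n + 1 ∧ (j : ℕ) + 2 = m) := hj
        show (j : ℕ) ≤ m ∨ j = i
        by_cases h2 : (j : ℕ) ≤ m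
        · exact Or.inl h2
        · right
          apply Fin.ext
          omega
  exact key (n - 1) (le_refl _)

/-- a symmetry fixing the end of the long arm and an end of the fork is trivial -/
theorem rigid_D {n : ℕ} (hn : 1 ≤ n) (σ : Equiv.Perm (Fin (n + 2))) (h : ∀ i j, M n (σ i) (σ j) = M n i j)
    (h0 : σ 0 = 0) (hl : σ (Fin.last (n + 1)) = Fin.last (n + 1)) : σ = 1 := by
  have h1 := fix_chain hn σ h h0
  have h2 : σ ⟨n, by omega⟩ = ⟨n, by omega⟩ := by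
    refine grow (S := {j : Fin (n + 2) | (j : ℕ) ≤ n - 1 ∨ (j : ℕ) = n + 1}) h ?_ (s := ⟨n - 1, by omega⟩) (Or.inl (le_refl _)) ?_ ?_ ?_
    · rintro j (hj | hj)
      · exact h1 j hj
      · have : j = Fin.last (n + 1) := Fin.ext hj
        rw [this, hl]
    · rintro (h3 | h3)
      · have : n ≤ n - 1 := h3
        omega
      · have : n = n + 1 := h3
        omega
    · rw [adj_iff]
      show n - 1 = n ∨ (n < n + 1 ∧ n - 1 + 1 = n ∨ n = n + 1 ∧ n - 1 + 2 = n) ∨ _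
      omega
    · intro j hj
      rw [adj_iff] at hj
      have hj' : n - 1 = (j : ℕ) ∨ ((j : ℕ) < n + 1 ∧ n - 1 + 1 = j ∨ (j : ℕ) = n + 1 ∧ n - 1 + 2 = j) ∨
        (n - 1 < n + 1 ∧ (j : ℕ) + 1 = n - 1 ∨ n - 1 = n + 1 ∧ (j : ℕ) + 2 = n - 1) := hj
      show ((j : ℕ) ≤ n - 1 ∨ (j : ℕ) = n + 1) ∨ j = ⟨n, _⟩
      by_cases h3 : (j : ℕ) ≤ n - 1 ∨ (j : ℕ) = n + 1
      · exact Or.inl h3
      · right
        apply Fin.ext
        show (j : ℕ) = n
        omega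
  ext i
  have hi := i.2
  rcases Nat.lt_or_ge (i : ℕ) n with h3 | h3
  · rw [h1 i (by omega)]; rfl
  rcases Nat.lt_or_ge (i : ℕ) (n + 1) with h4 | h4
  · have : i = ⟨n, by omega⟩ := Fin.ext (by show (i : ℕ) = n; omega)
    rw [this, h2]; rfl
  · have : i = Fin.last (n + 1) := Fin.ext (by show (i : ℕ) = n + 1; omega)
    rw [this, hl]; rfl

/-- two nontrivial symmetries fixing the end of the long arm are equal -/
theorem eq_of_fix {n : ℕ} (hn : 1 ≤ n) {σ τ : Equiv.Perm (Fin (n + 2))} (h : ∀ i j, M n (σ i) (σ j) = M n i j)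
    (h' : ∀ i j, M n (τ i) (τ j) = M n i j) (h0 : σ 0 = 0) (h0' : τ 0 = 0) (h1 : σ ≠ 1) (h1' : τ ≠ 1) : σ = τ := by
  have key : ∀ ν : Equiv.Perm (Fin (n + 2)), (∀ i j, M n (ν i) (ν j) = M n i j) → ν 0 = 0 → ν ≠ 1 →
      ν (Fin.last (n + 1)) = ⟨n, by omega⟩ := by
    intro ν hν hν0 hν1
    have h2 := fix_chain hn ν hν hν0 ⟨n - 1, by omega⟩ (le_refl _)
    have h3 : M n (⟨n - 1, by omega⟩ : Fin (n + 2)) (ν (Fin.last (n + 1))) ≠ 2 := by
      have h4 := hν ⟨n - 1, by omega⟩ (Fin.last (n + 1))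
      rw [h2] at h4
      rw [h4, adj_iff]
      show n - 1 = n + 1 ∨ (n + 1 < n + 1 ∧ n - 1 + 1 = n + 1 ∨ n + 1 = n + 1 ∧ n - 1 + 2 = n + 1) ∨ _
      omega
    have h5 : ν (Fin.last (n + 1)) ≠ Fin.last (n + 1) := fun e => hν1 (rigid_D hn ν hν hν0 e)
    have h6 : ¬ ((ν (Fin.last (n + 1)) : Fin (n + 2)) : ℕ) ≤ n - 1 := by
      intro h7
      have h8 := fix_chain hn ν hν hν0 _ h7
      have h9 := ν.injective h8
      rw [h9] at h7
      have : n + 1 ≤ n - 1 := h7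
      omega
    have h7 : ((ν (Fin.last (n + 1)) : Fin (n + 2)) : ℕ) ≠ n + 1 := fun e => h5 (Fin.ext e)
    apply Fin.ext
    show ((ν (Fin.last (n + 1)) : Fin (n + 2)) : ℕ) = n
    have := (ν (Fin.last (n + 1))).2
    omega
  have h2 := rigid_D hn (τ⁻¹ * σ) (sym_mul (sym_inv h') h) (by
    rw [Equiv.Perm.mul_apply, h0]
    exact (Equiv.symm_apply_eq τ).2 h0'.symm) (by
    rw [Equiv.Perm.mul_apply, key σ h h0 h1, ← key τ h' h0' h1']
    exact τ.symm_apply_apply _)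
  exact (inv_mul_eq_one.1 h2).symm

/-- rank at least five: every symmetry fixes the end of the long arm -/
theorem fix_zero {n : ℕ} (hn : 3 ≤ n) (σ : Equiv.Perm (Fin (n + 2))) (h : ∀ i j, M n (σ i) (σ j) = M n i j) :
    σ 0 = 0 := by
  -- `1` is the only neighbour of `0`
  have key0 : ∀ j : Fin (n + 2), M n (σ 0) j ≠ 2 → j ≠ σ 0 → j = σ ⟨1, by omega⟩ := by
    intro j hj hj0
    have h1 : M n 0 (σ.symm j) ≠ 2 := by
      rw [← h 0 (σ.symm j), Equiv.apply_symm_apply]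
      exact hj
    rw [adj_iff] at h1
    have h1' : 0 = ((σ.symm j : Fin (n + 2)) : ℕ) ∨ (((σ.symm j : Fin (n + 2)) : ℕ) < n + 1 ∧
        0 + 1 = ((σ.symm j : Fin (n + 2)) : ℕ) ∨ ((σ.symm j : Fin (n + 2)) : ℕ) = n + 1 ∧
        0 + 2 = ((σ.symm j : Fin (n + 2)) : ℕ)) ∨ (0 < n + 1 ∧ ((σ.symm j : Fin (n + 2)) : ℕ) + 1 = 0 ∨
        0 = n + 1 ∧ ((σ.symm j : Fin (n + 2)) : ℕ) + 2 = 0) := h1
    have h2 : σ.symm j ≠ 0 := by
      intro e
      apply hj0
      rw [← e, Equiv.apply_symm_apply]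
    have h3 : ((σ.symm j : Fin (n + 2)) : ℕ) ≠ 0 := fun e => h2 (Fin.ext e)
    have h4 : σ.symm j = ⟨1, by omega⟩ := Fin.ext (by show ((σ.symm j : Fin (n + 2)) : ℕ) = 1; omega)
    rw [← h4, Equiv.apply_symm_apply]
  by_contra h0
  have hm0 : ((σ 0 : Fin (n + 2)) : ℕ) ≠ 0 := fun e => h0 (Fin.ext e)
  have hlt := (σ 0).2
  -- `σ 0` is an end of the fork
  have hend : ((σ 0 : Fin (n + 2)) : ℕ) = n ∨ ((σ 0 : Fin (n + 2)) : ℕ) = n + 1 := by
    by_contra hcon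
    push Not at hcon
    have e1 := key0 ⟨(σ 0 : Fin (n + 2)) - 1, by omega⟩ (by
      rw [adj_iff]
      show ((σ 0 : Fin (n + 2)) : ℕ) = (σ 0 : Fin (n + 2)) - 1 ∨ _ ∨
        (((σ 0 : Fin (n + 2)) : ℕ) < n + 1 ∧ ((σ 0 : Fin (n + 2)) : ℕ) - 1 + 1 = (σ 0 : Fin (n + 2)) ∨ _)
      right; right; left
      exact ⟨by omega, by omega⟩) (fun e => by
        have := congrArg Fin.val e
        simp only at this
        omega)
    have e2 := key0 ⟨(σ 0 : Fin (n + 2)) + 1, by omega⟩ (by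
      rw [adj_iff]
      show ((σ 0 : Fin (n + 2)) : ℕ) = (σ 0 : Fin (n + 2)) + 1 ∨
        (((σ 0 : Fin (n + 2)) : ℕ) + 1 < n + 1 ∧ ((σ 0 : Fin (n + 2)) : ℕ) + 1 = (σ 0 : Fin (n + 2)) + 1 ∨ _) ∨ _
      right; left; left
      exact ⟨by omega, rfl⟩) (fun e => by
        have := congrArg Fin.val e
        simp only at this
        omega)
    have := congrArg Fin.val (e1.trans e2.symm)
    simp only at this
    omega
  -- so `σ 1` is the branch node
  have hb : σ ⟨1, by omega⟩ = ⟨n - 1, by omega⟩ := by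
    symm
    apply key0
    · rw [adj_iff]
      show ((σ 0 : Fin (n + 2)) : ℕ) = n - 1 ∨ _ ∨
        (((σ 0 : Fin (n + 2)) : ℕ) < n + 1 ∧ n - 1 + 1 = ((σ 0 : Fin (n + 2)) : ℕ) ∨
          ((σ 0 : Fin (n + 2)) : ℕ) = n + 1 ∧ n - 1 + 2 = ((σ 0 : Fin (n + 2)) : ℕ))
      right; right
      omega
    · intro e
      have := congrArg Fin.val e
      simp only at this
      omega
  -- `1` has two neighbours, the branch node has three
  have key1 : ∀ j : Fin (n + 2), M n (⟨n - 1, by omega⟩ : Fin (n + 2)) j ≠ 2 → (j : ℕ) ≠ n - 1 →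
      j = σ 0 ∨ j = σ ⟨2, by omega⟩ := by
    intro j hj hj0
    have h1 : M n (⟨1, by omega⟩ : Fin (n + 2)) (σ.symm j) ≠ 2 := by
      rw [← h ⟨1, by omega⟩ (σ.symm j), Equiv.apply_symm_apply, hb]
      exact hj
    rw [adj_iff] at h1
    have h1' : 1 = ((σ.symm j : Fin (n + 2)) : ℕ) ∨ (((σ.symm j : Fin (n + 2)) : ℕ) < n + 1 ∧
        1 + 1 = ((σ.symm j : Fin (n + 2)) : ℕ) ∨ ((σ.symm j : Fin (n + 2)) : ℕ) = n + 1 ∧
        1 + 2 = ((σ.symm j : Fin (n + 2)) : ℕ)) ∨ (1 < n + 1 ∧ ((σ.symm j : Fin (n + 2)) : ℕ) + 1 = 1 ∨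
        1 = n + 1 ∧ ((σ.symm j : Fin (n + 2)) : ℕ) + 2 = 1) := h1
    have h2 : ((σ.symm j : Fin (n + 2)) : ℕ) ≠ 1 := by
      intro e
      have e' : σ.symm j = ⟨1, by omega⟩ := Fin.ext e
      apply hj0
      rw [← Equiv.apply_symm_apply σ j, e', hb]
    have h3 : ((σ.symm j : Fin (n + 2)) : ℕ) = 0 ∨ ((σ.symm j : Fin (n + 2)) : ℕ) = 2 := by omega
    rcases h3 with h4 | h4
    · left
      have e' : σ.symm j = 0 := Fin.ext h4
      rw [← e', Equiv.apply_symm_apply]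
    · right
      have e' : σ.symm j = ⟨2, by omega⟩ := Fin.ext h4
      rw [← e', Equiv.apply_symm_apply]
  have e1 := key1 ⟨n - 2, by omega⟩ (by
    rw [adj_iff]
    show n - 1 = n - 2 ∨ _ ∨ (n - 1 < n + 1 ∧ n - 2 + 1 = n - 1 ∨ _)
    right; right; left
    exact ⟨by omega, by omega⟩) (by show n - 2 ≠ n - 1; omega)
  have e2 := key1 ⟨n, by omega⟩ (by
    rw [adj_iff]
    show n - 1 = n ∨ (n < n + 1 ∧ n - 1 + 1 = n ∨ _) ∨ _
    right; left; left
    exact ⟨by omega, by omega⟩) (by show n ≠ n - 1; omega)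
  have e3 := key1 ⟨n + 1, by omega⟩ (by
    rw [adj_iff]
    show n - 1 = n + 1 ∨ (_ ∨ n + 1 = n + 1 ∧ n - 1 + 2 = n + 1) ∨ _
    right; left; right
    exact ⟨rfl, by omega⟩) (by show n + 1 ≠ n - 1; omega)
  have hne : ∀ {a b : ℕ} (ha : a < n + 2) (hb : b < n + 2), a ≠ b → (⟨a, ha⟩ : Fin (n + 2)) ≠ ⟨b, hb⟩ :=
    fun ha hb h e => h (congrArg Fin.val e)
  rcases e1 with e1 | e1 <;> rcases e2 with e2 | e2 <;> rcases e3 with e3 | e3
  · exact hne _ _ (by omega) (e1.trans e2.symm)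
  · exact hne _ _ (by omega) (e1.trans e2.symm)
  · exact hne _ _ (by omega) (e1.trans e3.symm)
  · exact hne _ _ (by omega) (e2.trans e3.symm)
  · exact hne _ _ (by omega) (e2.trans e3.symm)
  · exact hne _ _ (by omega) (e1.trans e3.symm)
  · exact hne _ _ (by omega) (e1.trans e2.symm)
  · exact hne _ _ (by omega) (e1.trans e2.symm)

/-- the entries of `D₄` -/
abbrev E4 (i j : Fin (2 + 2)) : ℕ := M 2 i j

/-- symmetries of `D₄` -/
abbrev Sym4 (σ : Equiv.Perm (Fin (2 + 2))) : Prop := ∀ i j : Fin (2 + 2), E4 (σ i) (σ j) = E4 i j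

theorem D4_search : ∀ σ : Equiv.Perm (Fin (2 + 2)), Sym4 σ → ∀ τ : Equiv.Perm (Fin (2 + 2)), Sym4 τ → σ ≠ 1 → τ ≠ 1 → σ ≠ τ →
    σ ^ 3 = 1 ∨ τ ^ 3 = 1 ∨ ((σ * τ) ^ 3 = 1 ∧ σ * τ ≠ 1) := by
  decide +kernel

theorem diagTwo_D (n : ℕ) (hn : 2 ≤ n) : DiagTwo (M n) := by
  rcases Nat.lt_or_ge n 3 with h3 | h3
  · obtain rfl : n = 2 := by omega
    intro P hP hs σ hσ τ hτ hσ1 hτ1
    by_contra hne
    have key : ∀ ν ∈ P, ν ^ 3 = 1 → ν = 1 := by
      intro ν hν h3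
      obtain ⟨k, hk⟩ := hP ⟨ν, hν⟩
      have hk' : ν ^ 2 ^ k = 1 := congrArg Subtype.val hk
      have h1 : orderOf ν ∣ 2 ^ k := orderOf_dvd_of_pow_eq_one hk'
      have h2 : orderOf ν ∣ 3 := orderOf_dvd_of_pow_eq_one h3
      have h4 : Nat.Coprime (2 ^ k) 3 := Nat.Coprime.pow_left k (by norm_num)
      have h5 := Nat.dvd_gcd h1 h2
      rw [h4] at h5
      exact orderOf_eq_one_iff.1 (Nat.dvd_one.1 h5)
    rcases D4_search σ (hs σ hσ) τ (hs τ hτ) hσ1 hτ1 hne with h1 | h1 | ⟨h1, h2⟩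
    · exact hσ1 (key σ hσ h1)
    · exact hτ1 (key τ hτ h1)
    · exact h2 (key _ (mul_mem hσ hτ) h1)
  · intro P _ hs σ hσ τ hτ hσ1 hτ1
    exact eq_of_fix (by omega) (hs σ hσ) (hs τ hτ) (fix_zero h3 σ (hs σ hσ)) (fix_zero h3 τ (hs τ hτ)) hσ1 hτ1

/-! ### Type `E` -/

/-- the entries of `E₆` -/
abbrev E6 (i j : Fin 6) : ℕ := CoxeterMatrix.E₆ i j

/-- the entries of `E₇` -/
abbrev E7 (i j : Fin 7) : ℕ := CoxeterMatrix.E₇ i j

/-- the entries of `E₈` -/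
abbrev E8 (i j : Fin 8) : ℕ := CoxeterMatrix.E₈ i j

set_option maxRecDepth 100000

set_option maxSynthPendingDepth 100 in
set_option synthInstance.maxHeartbeats 2000000 in
set_option synthInstance.maxSize 100000 in
theorem e6_search : ∀ s3 : Fin 6, ∀ s1 : Fin 6, (E6 s3 s1 = E6 3 1) → ∀ s2 : Fin 6, (E6 s3 s2 = E6 3 2 ∧ E6 s1 s2 = E6 1 2) → ∀ s4 : Fin 6, (E6 s3 s4 = E6 3 4 ∧ E6 s1 s4 = E6 1 4 ∧ E6 s2 s4 = E6 2 4) → ∀ s0 : Fin 6, (E6 s3 s0 = E6 3 0 ∧ E6 s1 s0 = E6 1 0 ∧ E6 s2 s0 = E6 2 0 ∧ E6 s4 s0 = E6 4 0) → ∀ s5 : Fin 6, (E6 s3 s5 = E6 3 5 ∧ E6 s1 s5 = E6 1 5 ∧ E6 s2 s5 = E6 2 5 ∧ E6 s4 s5 = E6 4 5 ∧ E6 s0 s5 = E6 0 5) → (s0 = 0 ∧ s1 = 1 ∧ s2 = 2 ∧ s3 = 3 ∧ s4 = 4 ∧ s5 = 5) ∨ (s0 = 5 ∧ s1 = 1 ∧ s2 = 4 ∧ s3 = 3 ∧ s4 = 2 ∧ s5 = 0) := by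
  decide +kernel

set_option maxSynthPendingDepth 100 in
set_option synthInstance.maxHeartbeats 2000000 in
set_option synthInstance.maxSize 100000 in
theorem e7_search : ∀ s3 : Fin 7, ∀ s1 : Fin 7, (E7 s3 s1 = E7 3 1) → ∀ s2 : Fin 7, (E7 s3 s2 = E7 3 2 ∧ E7 s1 s2 = E7 1 2) → ∀ s4 : Fin 7, (E7 s3 s4 = E7 3 4 ∧ E7 s1 s4 = E7 1 4 ∧ E7 s2 s4 = E7 2 4) → ∀ s0 : Fin 7, (E7 s3 s0 = E7 3 0 ∧ E7 s1 s0 = E7 1 0 ∧ E7 s2 s0 = E7 2 0 ∧ E7 s4 s0 = E7 4 0) → ∀ s5 : Fin 7, (E7 s3 s5 = E7 3 5 ∧ E7 s1 s5 = E7 1 5 ∧ E7 s2 s5 = E7 2 5 ∧ E7 s4 s5 = E7 4 5 ∧ E7 s0 s5 = E7 0 5) → ∀ s6 : Fin 7, (E7 s3 s6 = E7 3 6 ∧ E7 s1 s6 = E7 1 6 ∧ E7 s2 s6 = E7 2 6 ∧ E7 s4 s6 = E7 4 6 ∧ E7 s0 s6 = E7 0 6 ∧ E7 s5 s6 = E7 5 6) → (s0 = 0 ∧ s1 = 1 ∧ s2 = 2 ∧ s3 = 3 ∧ s4 = 4 ∧ s5 = 5 ∧ s6 = 6) := by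
  decide +kernel

set_option maxSynthPendingDepth 100 in
set_option synthInstance.maxHeartbeats 2000000 in
set_option synthInstance.maxSize 100000 in
theorem e8_search : ∀ s3 : Fin 8, ∀ s1 : Fin 8, (E8 s3 s1 = E8 3 1) → ∀ s2 : Fin 8, (E8 s3 s2 = E8 3 2 ∧ E8 s1 s2 = E8 1 2) → ∀ s4 : Fin 8, (E8 s3 s4 = E8 3 4 ∧ E8 s1 s4 = E8 1 4 ∧ E8 s2 s4 = E8 2 4) → ∀ s0 : Fin 8, (E8 s3 s0 = E8 3 0 ∧ E8 s1 s0 = E8 1 0 ∧ E8 s2 s0 = E8 2 0 ∧ E8 s4 s0 = E8 4 0) → ∀ s5 : Fin 8, (E8 s3 s5 = E8 3 5 ∧ E8 s1 s5 = E8 1 5 ∧ E8 s2 s5 = E8 2 5 ∧ E8 s4 s5 = E8 4 5 ∧ E8 s0 s5 = E8 0 5) → ∀ s6 : Fin 8, (E8 s3 s6 = E8 3 6 ∧ E8 s1 s6 = E8 1 6 ∧ E8 s2 s6 = E8 2 6 ∧ E8 s4 s6 = E8 4 6 ∧ E8 s0 s6 = E8 0 6 ∧ E8 s5 s6 = E8 5 6) → ∀ s7 : Fin 8, (E8 s3 s7 = E8 3 7 ∧ E8 s1 s7 = E8 1 7 ∧ E8 s2 s7 = E8 2 7 ∧ E8 s4 s7 = E8 4 7 ∧ E8 s0 s7 = E8 0 7 ∧ E8 s5 s7 = E8 5 7 ∧ E8 s6 s7 = E8 6 7) → (s0 = 0 ∧ s1 = 1 ∧ s2 = 2 ∧ s3 = 3 ∧ s4 = 4 ∧ s5 = 5 ∧ s6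 = 6 ∧ s7 = 7) := by
  decide +kernel


theorem diagTwo_E6 : DiagTwo CoxeterMatrix.E₆ := by
  have key : ∀ σ : Equiv.Perm (Fin 6), (∀ i j, CoxeterMatrix.E₆ (σ i) (σ j) = CoxeterMatrix.E₆ i j) →
      (σ 0 = 0 ∧ σ 1 = 1 ∧ σ 2 = 2 ∧ σ 3 = 3 ∧ σ 4 = 4 ∧ σ 5 = 5) ∨
        (σ 0 = 5 ∧ σ 1 = 1 ∧ σ 2 = 4 ∧ σ 3 = 3 ∧ σ 4 = 2 ∧ σ 5 = 0) := fun σ h =>
    e6_search (σ 3) (σ 1) (h _ _) (σ 2) ⟨h _ _, h _ _⟩ (σ 4) ⟨h _ _, h _ _, h _ _⟩ (σ 0)
      ⟨h _ _, h _ _, h _ _, h _ _⟩ (σ 5) ⟨h _ _, h _ _, h _ _, h _ _, h _ _⟩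
  refine diagTwo_of (c := 0) (c' := 5) (fun σ h h0 => ?_) fun σ h => (key σ h).imp (fun h1 => h1.1) fun h1 => h1.1
  rcases key σ h with ⟨-, h1, h2, h3, h4, h5⟩ | ⟨h1, -⟩
  · ext i
    fin_cases i
    · exact congrArg Fin.val h0
    · exact congrArg Fin.val h1
    · exact congrArg Fin.val h2
    · exact congrArg Fin.val h3
    · exact congrArg Fin.val h4
    · exact congrArg Fin.val h5
  · rw [h0] at h1
    exact absurd h1 (by decide)

theorem diagTwo_E7 : DiagTwo CoxeterMatrix.E₇ := by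
  refine diagTwo_of_rigid fun σ h => ?_
  obtain ⟨h0, h1, h2, h3, h4, h5, h6⟩ := e7_search (σ 3) (σ 1) (h _ _) (σ 2) ⟨h _ _, h _ _⟩ (σ 4)
    ⟨h _ _, h _ _, h _ _⟩ (σ 0) ⟨h _ _, h _ _, h _ _, h _ _⟩ (σ 5) ⟨h _ _, h _ _, h _ _, h _ _, h _ _⟩ (σ 6)
    ⟨h _ _, h _ _, h _ _, h _ _, h _ _, h _ _⟩
  ext i
  fin_cases i
  · exact congrArg Fin.val h0
  · exact congrArg Fin.val h1
  · exact congrArg Fin.val h2
  · exact congrArg Fin.val h3
  · exact congrArg Fin.val h4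
  · exact congrArg Fin.val h5
  · exact congrArg Fin.val h6

theorem diagTwo_E8 : DiagTwo CoxeterMatrix.E₈ := by
  refine diagTwo_of_rigid fun σ h => ?_
  obtain ⟨h0, h1, h2, h3, h4, h5, h6, h7⟩ := e8_search (σ 3) (σ 1) (h _ _) (σ 2) ⟨h _ _, h _ _⟩ (σ 4)
    ⟨h _ _, h _ _, h _ _⟩ (σ 0) ⟨h _ _, h _ _, h _ _, h _ _⟩ (σ 5) ⟨h _ _, h _ _, h _ _, h _ _, h _ _⟩ (σ 6)
    ⟨h _ _, h _ _, h _ _, h _ _, h _ _, h _ _⟩ (σ 7) ⟨h _ _, h _ _, h _ _, h _ _, h _ _, h _ _, h _ _⟩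
  ext i
  fin_cases i
  · exact congrArg Fin.val h0
  · exact congrArg Fin.val h1
  · exact congrArg Fin.val h2
  · exact congrArg Fin.val h3
  · exact congrArg Fin.val h4
  · exact congrArg Fin.val h5
  · exact congrArg Fin.val h6
  · exact congrArg Fin.val h7

end Cfsg.Agent.OddHalf.D7Out.Diagram

end

-- merged: Cfsg.Agent.OddHalf.D7Out.Outer
section

/-!
# D7, the front: the outer part `T / R U` for a group `K` with a root group datum (helper875)

* `exists_g` : `T → Sym I × Aut F` with kernel `R U`;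
* `hcyc_of` : the form of `TransGen.false_of_cyclic`;
* `false_of_small` : the isolated case is impossible if the image is cyclic.
-/

set_option autoImplicit false
set_option linter.unusedSectionVars false

namespace Cfsg.Agent.OddHalf.D7Out.Outer

open CoxeterSystem Cfsg.Agent.ChevalleyStructure.CoxeterGeom Cfsg.Agent.Tits.Roots Cfsg.Agent.Tits.Core
  Cfsg.Agent.Tits.Exchange Cfsg.Agent.Nodes.Reps Cfsg.Agent.Nodes.BNOf Cfsg.Agent.Nodes.StabComb
  Cfsg.Agent.Nodes.Bruhat Cfsg.Agent.Nodes.OppDec Cfsg.Agent.Nodes.LeviDec Cfsg.Agent.Nodes.NormalForm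
  Cfsg.Agent.KFacts.RgdOpp Cfsg.Agent.KFacts.RgdAut Cfsg.Agent.KFacts.RgdDiag Cfsg.Agent.KFacts.RgdRigid
  Cfsg.Agent.KFacts.RgdField Cfsg.Agent.KFacts.RgdTau
open scoped commutatorElement

section Abstract

variable {G : Type*} [Group G] {t v : G} {K U Z T : Subgroup G}

/-- `T` normalizes `U` -/
theorem U_conj (E : Defs.Fr t v K U Z T) {y u : G} (hy : y ∈ T) : y * u * y⁻¹ ∈ U ↔ u ∈ U := by
  have key : ∀ y ∈ T, ∀ u ∈ U, y * u * y⁻¹ ∈ U := by
    intro y hy u hu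
    rw [E.U_eq] at hu ⊢
    exact ⟨T.mul_mem (T.mul_mem hy hu.1) (T.inv_mem hy),
      (Subgroup.mem_normalizer_iff.1 (E.nK y (E.tc y hy)) u).1 hu.2⟩
  refine ⟨fun h => ?_, key y hy u⟩
  have := key y⁻¹ (T.inv_mem hy) _ h
  have e : y⁻¹ * (y * u * y⁻¹) * y⁻¹⁻¹ = u := by group
  rwa [e] at this

/-- the kernel: `y` acts on `K` as an element of `U` iff `y ∈ R U` -/
theorem conj_iff (E : Defs.Fr t v K U Z T) {y : G} (hy : y ∈ T) {P : Subgroup ↥K} (hU : U = P.map K.subtype) :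
    (∃ u ∈ P, FrGen.cjK (E.nK y (E.tc y hy)) = MulAut.conj u) ↔ ∃ r ∈ Subgroup.zpowers v, ∃ u ∈ U, y = r * u := by
  constructor
  · rintro ⟨u, hu, e⟩
    have huU : (u : G) ∈ U := by rw [hU]; exact ⟨u, hu, rfl⟩
    have hr : y * (u : G)⁻¹ ∈ Subgroup.zpowers v := by
      apply E.cK
      · have h1 := E.tc y hy
        have h2 := Front.Kt E u.2
        have h3 : (u : G)⁻¹ * t = t * (u : G)⁻¹ := by
          rw [inv_mul_eq_iff_eq_mul, ← mul_assoc, h2, mul_inv_cancel_right]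
        calc y * (u : G)⁻¹ * t = y * (t * (u : G)⁻¹) := by rw [mul_assoc, h3]
          _ = t * (y * (u : G)⁻¹) := by rw [← mul_assoc, h1, mul_assoc]
      · intro k hk
        have h1 : (u : G)⁻¹ * k * u ∈ K := K.mul_mem (K.mul_mem (K.inv_mem u.2) hk) u.2
        have h2 : y * ((u : G)⁻¹ * k * u) * y⁻¹ = u * ((u : G)⁻¹ * k * u) * (u : G)⁻¹ :=
          congrArg Subtype.val (DFunLike.congr_fun e (⟨(u : G)⁻¹ * k * u, h1⟩ : ↥K))
        have h3 : y * ((u : G)⁻¹ * k * u) * y⁻¹ = k := by rw [h2]; group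
        calc k * (y * (u : G)⁻¹) = (y * ((u : G)⁻¹ * k * u) * y⁻¹) * (y * (u : G)⁻¹) := by rw [h3]
          _ = y * (u : G)⁻¹ * k := by group
    exact ⟨y * (u : G)⁻¹, hr, u, huU, by group⟩
  · rintro ⟨r, hr, u, hu, e⟩
    rw [hU] at hu
    obtain ⟨u, huP, rfl⟩ := hu
    refine ⟨u, huP, ?_⟩
    ext k
    show y * k * y⁻¹ = u * k * (u : G)⁻¹
    have h1 : ((u : G) * k * (u : G)⁻¹) * r = r * ((u : G) * k * (u : G)⁻¹) :=
      Front.K_comm_R E (mul_mem (mul_mem u.2 k.2) (inv_mem u.2)) hr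
    have e' : y = r * (u : G) := e
    rw [e']
    calc r * (u : G) * k * (r * (u : G))⁻¹ = r * ((u : G) * k * (u : G)⁻¹) * r⁻¹ := by group
      _ = (u : G) * k * (u : G)⁻¹ := by rw [← h1]; group

/-- the form of the hypothesis of `TransGen.false_of_cyclic` -/
theorem hcyc_of {B : Type*} [Group B] (g : ↥T →* B)
    (hg : ∀ y : ↥T, g y = 1 → ∃ r ∈ Subgroup.zpowers v, ∃ u ∈ U, (y : G) = r * u)
    {s : ↥T} (hs : ∀ y : ↥T, g y ∈ Subgroup.zpowers (g s)) :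
    ∃ s ∈ T, ∀ x ∈ T, ∃ k : ℤ, ∃ r ∈ Subgroup.zpowers v, ∃ u ∈ U, x = s ^ k * r * u := by
  refine ⟨s, s.2, fun x hx => ?_⟩
  obtain ⟨k, hk⟩ := Subgroup.mem_zpowers_iff.1 (hs ⟨x, hx⟩)
  obtain ⟨r, hr, u, hu, e⟩ := hg ((s ^ k)⁻¹ * ⟨x, hx⟩) (by
    rw [map_mul, map_inv, map_zpow, hk, inv_mul_cancel])
  refine ⟨k, r, hr, u, hu, ?_⟩
  have e' : ((s : G) ^ k)⁻¹ * x = r * u := e
  rw [mul_assoc, ← e']; group

/-- a subgroup `{1, b}` is cyclic -/
theorem exists_gen {B : Type*} [Group B] (g : ↥T →* B)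
    (h2 : ∀ y y' : ↥T, g y ≠ 1 → g y' ≠ 1 → g y = g y') :
    ∃ s : ↥T, ∀ y : ↥T, g y ∈ Subgroup.zpowers (g s) := by
  by_cases h : ∃ s : ↥T, g s ≠ 1
  · obtain ⟨s, hs⟩ := h
    refine ⟨s, fun y => ?_⟩
    by_cases hy : g y = 1
    · rw [hy]; exact one_mem _
    · rw [h2 y s hy hs]; exact Subgroup.mem_zpowers _
  · push Not at h
    exact ⟨1, fun y => by rw [h y]; exact one_mem _⟩

end Abstract

variable {I W : Type*} [Fintype I] [DecidableEq I] [Group W] {M : CoxeterMatrix I}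
  {cs : CoxeterSystem M W} {A : I → I → ℤ} {h : IsCartan M A}
  {G : Type*} [Group G] {K : Subgroup G} {T₀ : Subgroup ↥K} {n : I → ↥K} {X : (I → ℤ) → Subgroup ↥K}
  {F : Type*} [Field F] {x : (I → ℤ) → F → ↥K} {χ : (I → ℤ) → ↥K → F} {hh : I → F → ↥K}
  {t v : G} {U Z T : Subgroup G}

/-- the action of `T` on `K` -/
def act (E : Defs.Fr t v K U Z T) : ↥T →* MulAut ↥K :=
  FrGen.actK (fun y hy => E.nK y (E.tc y hy))

theorem act_apply (E : Defs.Fr t v K U Z T) (y : ↥T) (k : ↥K) :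
    ((act E y k : ↥K) : G) = (y : G) * k * (y : G)⁻¹ := rfl

theorem act_eq (E : Defs.Fr t v K U Z T) (y : ↥T) : act E y = FrGen.cjK (E.nK y (E.tc y y.2)) := rfl

theorem fix_act (E : Defs.Fr t v K U Z T) {P : Subgroup ↥K} (hU : U = P.map K.subtype) (y : ↥T) :
    Fix (act E y) P := by
  intro k
  have h1 : ∀ k : ↥K, (k : G) ∈ U ↔ k ∈ P := by
    intro k
    rw [hU]
    constructor
    · rintro ⟨k', hk', e⟩
      rwa [← Subtype.ext e]
    · intro hk
      exact ⟨k, hk, rfl⟩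
  rw [← h1, ← h1]
  exact U_conj E y.2

/-- **The outer part of `T`.** -/
theorem exists_g [Finite G] [Finite W] [Nonempty I] [CharP F 2] (E : Defs.Fr t v K U Z T)
    (hU : U = (RGD.Sup X (RGD.Pos cs h)).map K.subtype) (R : RGD cs h 2 T₀ n X)
    (hG1 : RGD.Sup X {x | IsRoot cs h x} = ⊤) (C : Coords cs h T₀ n X x χ) (H : Coroots A T₀ X χ hh)
    (hconn : ∀ J : Set I, J.Nonempty → J ≠ Set.univ → ∃ a ∈ J, ∃ b, b ∉ J ∧ M a b ≠ 2)
    (hA : ∀ σ : Equiv.Perm I, (∀ i j, M (σ i) (σ j) = M i j) → ∀ i j, A (σ i) (σ j) = A i j) :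
    ∃ g : ↥T →* Equiv.Perm I × (F ≃+* F), ∀ y : ↥T,
      (∃ u ∈ RGD.Sup X (RGD.Pos cs h), Tau T₀ X χ A (MulAut.conj u * act E y) (g y).1 (g y).2) ∧
      (g y = 1 ↔ ∃ r ∈ Subgroup.zpowers v, ∃ u ∈ U, (y : G) = r * u) := by
  have : Fact (Nat.Prime 2) := ⟨Nat.prime_two⟩
  have hSp : IsPGroup 2 ↥(act E).range := by
    have h1 : IsPGroup 2 ↥(⊤ : Subgroup ↥T) := E.pT.of_equiv Subgroup.topEquiv.symm
    have h2 := h1.map (act E)
    rwa [← MonoidHom.range_eq_map] at h2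
  obtain ⟨f, hf⟩ := exists_outer R hG1 C H hconn hA hSp (fun α hα => by
    obtain ⟨y, rfl⟩ := hα
    exact fix_act E hU y)
  refine ⟨f.comp (act E).rangeRestrict, fun y => ?_⟩
  obtain ⟨h1, h2⟩ := hf ((act E).rangeRestrict y)
  refine ⟨h1, ?_⟩
  rw [MonoidHom.comp_apply, h2]
  exact conj_iff E y.2 hU

/-- 2-groups of diagram symmetries have order at most two -/
abbrev DiagTwo {I : Type*} (M : CoxeterMatrix I) : Prop := Diagram.DiagTwo M

/-- the diagram symmetries of the elements of `T` -/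
theorem diag_eq [Finite W] (R : RGD cs h 2 T₀ n X) (hM : DiagTwo M) (E : Defs.Fr t v K U Z T)
    (g : ↥T →* Equiv.Perm I × (F ≃+* F))
    (hg : ∀ y : ↥T, ∃ u ∈ RGD.Sup X (RGD.Pos cs h), Tau T₀ X χ A (MulAut.conj u * act E y) (g y).1 (g y).2)
    {y y' : ↥T} (hy : (g y).1 ≠ 1) (hy' : (g y').1 ≠ 1) : (g y).1 = (g y').1 := by
  set γ : ↥T →* Equiv.Perm I := (MonoidHom.fst _ _).comp g with hγ
  refine hM γ.range ?_ ?_ _ ⟨y, rfl⟩ _ ⟨y', rfl⟩ hy hy'
  · have h1 : IsPGroup 2 ↥(⊤ : Subgroup ↥T) := E.pT.of_equiv Subgroup.topEquiv.symm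
    have h2 := h1.map γ
    rwa [← MonoidHom.range_eq_map] at h2
  · rintro _ ⟨y, rfl⟩
    obtain ⟨u, -, hu⟩ := hg y
    exact hu.diag.matrix R

/-- **(F1)**: `t` is not isolated in `Z(T)`. -/
theorem not_iso [Finite G] [Finite W] (hG : commutator G = ⊤) (R : RGD cs h 2 T₀ n X) (hM : DiagTwo M)
    (E : Defs.FrT t v K U Z T)
    (g : ↥T →* Equiv.Perm I × (F ≃+* F))
    (hg : ∀ y : ↥T, ∃ u ∈ RGD.Sup X (RGD.Pos cs h), Tau T₀ X χ A (MulAut.conj u * act E.toFr y) (g y).1 (g y).2)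
    (hg1 : ∀ y : ↥T, g y = 1 → ∃ r ∈ Subgroup.zpowers v, ∃ u ∈ U, (y : G) = r * u)
    {B : Type*} [CommGroup B] {lf : Subgroup.centralizer ({t} : Set G) →* B}
    {hT : T ≤ Subgroup.centralizer ({t} : Set G)} (L : Defs.Fld E.toFr lf hT)
    (hlf : ∀ y : ↥T, lf ⟨y, hT y.2⟩ = 1 → (g y).2 = 1) : ¬ Defs.Iso t T := by
  intro hiso
  have h1 := TransMin.lf_eq_one hG E hiso L
  have h2 : ∀ y : ↥T, (g y).2 = 1 := fun y => hlf y (h1 y y.2)
  obtain ⟨s, hs⟩ := exists_gen g (fun y y' hy hy' => by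
    refine Prod.ext (diag_eq R hM E.toFr g hg ?_ ?_) ((h2 y).trans (h2 y').symm)
    · exact fun h3 => hy (Prod.ext h3 (h2 y))
    · exact fun h3 => hy' (Prod.ext h3 (h2 y')))
  exact TransGen.false_of_cyclic hG E.toFr hiso (hcyc_of g hg1 hs)

end Cfsg.Agent.OddHalf.D7Out.Outer

end
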