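import Cfsg.Agent.OddHalf.D7Out.FrontSL
import Cfsg.Agent.KFacts.RgdFld.Fld
import Cfsg.Agent.OddHalf.D7Ex.KTwo
import Cfsg.Agent.StdL3.OneParity
import Cfsg.Agent.OddHalf.TFormula
import Cfsg.Agent.OddHalf.SL.Defs
import Cfsg.Agent.OddHalf.SL.Bridge
import Cfsg.Agent.OddHalf.D7End.CaseB
import Cfsg.Agent.OddHalf.SL.PreOf
import Cfsg.Agent.OddHalf.D7Out.FrOf
import Cfsg.Agent.OddHalf.D7Out.Outer
import Cfsg.Agent.KFacts.SLRow.Def
import Cfsg.Agent.OddHalf.D7Out.RingSL
import Cfsg.Agent.KFacts.RgdSys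
import Cfsg.Agent.OddHalf.D7Out.FrGen
import Cfsg.Agent.OddHalf.D7Ex.OfFront

-- merged: Cfsg.Agent.OddHalf.D7Out.HasFldOf
section

/-!
# The field part for simply laced `K` with coordinates (helper875; facts of helper909)
-/

set_option autoImplicit false
set_option linter.unusedSectionVars false

namespace Cfsg.Agent.OddHalf.D7Out.HasFldOf

open CoxeterSystem Cfsg.Agent.ChevalleyStructure.CoxeterGeom Cfsg.Agent.Tits.Roots Cfsg.Agent.Tits.Core
  Cfsg.Agent.Tits.Exchange Cfsg.Agent.Nodes.Reps Cfsg.Agent.Nodes.BNOf Cfsg.Agent.Nodes.StabComb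
  Cfsg.Agent.Nodes.Bruhat Cfsg.Agent.KFacts.RgdCent Cfsg.Agent.KFacts.RgdSL Cfsg.Agent.KFacts.RgdTI
  Cfsg.Agent.KFacts.SLRow.Def Cfsg.Agent.KFacts.ChevTwo Cfsg.Agent.KFacts.RgdSys Cfsg.Agent.KFacts.RgdTau
  Cfsg.Agent.KFacts.RgdField Cfsg.Agent.OddHalf.SL.Index Cfsg.Agent.OddHalf.SL.PreOf
  Cfsg.Agent.Nodes.Coroot Cfsg.Agent.Tits.RootComb Cfsg.Agent.Nodes.Comb
open scoped commutatorElement

variable {I W : Type*} [Fintype I] [DecidableEq I] [Group W] {M : CoxeterMatrix I}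
  {cs : CoxeterSystem M W} {A : I → I → ℤ} {h : IsCartan M A}
  {G : Type*} [Group G] {K : Subgroup G} {T₀ : Subgroup ↥K} {n : I → ↥K} {X : (I → ℤ) → Subgroup ↥K} {q : ℕ}
  {F : Type*} [Field F] {e : (I → ℤ) → F → ↥K} {t v : G}

/-- an element of 2-power order of a diagram with `DiagTwo` is an involution -/
theorem sq_eq_one {M : CoxeterMatrix I} (hM : Outer.DiagTwo M) {σ : Equiv.Perm I}
    (hσ : ∀ i j, M (σ i) (σ j) = M i j) {k : ℕ} (hk : σ ^ 2 ^ k = 1) : σ * σ = 1 := by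
  by_contra hne
  have h1 : σ ≠ 1 := by rintro rfl; exact hne (mul_one 1)
  have h2 : IsPGroup 2 (Subgroup.zpowers σ) := by
    rintro ⟨τ, hτ⟩
    obtain ⟨i, rfl⟩ := Subgroup.mem_zpowers_iff.1 hτ
    refine ⟨k, Subtype.ext ?_⟩
    show (σ ^ i) ^ 2 ^ k = 1
    rw [← zpow_natCast, ← zpow_mul, mul_comm, zpow_mul, zpow_natCast, hk, one_zpow]
  have h3 : ∀ τ ∈ Subgroup.zpowers σ, ∀ i j, M (τ i) (τ j) = M i j := by
    have h4 : ∀ τ : Equiv.Perm I, (∀ i j, M (τ i) (τ j) = M i j) → ∀ i j, M (τ⁻¹ i) (τ⁻¹ j) = M i j :=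
      fun τ hτ => Diagram.sym_inv hτ
    let S : Subgroup (Equiv.Perm I) :=
      { carrier := {τ | ∀ i j, M (τ i) (τ j) = M i j}
        one_mem' := fun _ _ => rfl
        mul_mem' := fun {a b} ha hb => Diagram.sym_mul ha hb
        inv_mem' := fun {a} ha => h4 a ha }
    have h5 : Subgroup.zpowers σ ≤ S := by rw [Subgroup.zpowers_le]; exact hσ
    exact fun τ hτ => h5 hτ
  have h4 := hM _ h2 h3 σ (Subgroup.mem_zpowers σ) (σ * σ) (mul_mem (Subgroup.mem_zpowers σ) (Subgroup.mem_zpowers σ))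
    h1 hne
  exact h1 (left_eq_mul.1 h4)

/-- **The field part.** -/
theorem hasFld [Finite G] [Finite W] [Finite F] [CharP F 2] (D : Datum (⊤ : Subgroup ↥K) q cs h T₀ n X)
    (Sy : Sys D.rgd e) (hM : Outer.DiagTwo M) : FrontSL.HasFld cs h T₀ X e t v := by
  intro ρ T g hρ hd E hg
  have hnt : Nontrivial I := Fintype.one_lt_card_iff_nontrivial.1 (lt_of_lt_of_le (by norm_num) D.three)
  have hconn : ∀ J : Set I, J.Nonempty → J ≠ Set.univ → ∃ a ∈ J, ∃ b, b ∉ J ∧ M a b ≠ 2 := by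
    intro J hJ hJ'
    obtain ⟨i, hi, j, hj, hij⟩ := D.irr J hJ (Set.nonempty_compl.2 hJ')
    exact ⟨i, hi, j, hj, hij⟩
  have hA : ∀ σ : Equiv.Perm I, (∀ i j, M (σ i) (σ j) = M i j) → ∀ i j, A (σ i) (σ j) = A i j := by
    intro σ hσ i j
    refine cartan_of_laced h ?_ hσ i j
    intro i j hij
    rcases h.rel i j hij with ⟨h0, -⟩ | ⟨h0, -⟩ | ⟨h0, -⟩ | ⟨h0, -⟩
    · exact Or.inl h0
    · exact Or.inr h0
    · exact absurd h0 (D.h4 _ _)
    · exact absurd h0 (D.h6 _ _)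
  have hsl := OddHalf.SL.PreOf.sl (cs := cs) (h := h) D.h4 D.h6
  obtain ⟨B, hB, lf, hT, hFld, h1⟩ := Cfsg.Agent.KFacts.RgdFld.Fld.exists_fld E rfl rfl D.rgd D.gen (coords Sy D.gen)
    (coroots Sy D.gen D.cent) hconn hA hsl (by
      intro a b ha hb hab
      have hba : cpr cs h b a = -1 := by
        have h2 := roots cs h D.h4 D.h6
        rw [← bf_eq_cpr D.h4 D.h6 _ hb] at hab
        rw [← bf_eq_cpr D.h4 D.h6 _ ha, h2.symm]
        exact hab
      exact ⟨1, one_ne_zero, fun l m => by rw [one_mul]; exact Sy.data.comm1 a b ha hb hab hba l m⟩) hρ hd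
    fun σ hσ k hk => sq_eq_one hM hσ hk
  refine ⟨B, hB, lf, hT, hFld, fun y hy => ?_⟩
  obtain ⟨u, hu, S⟩ := hg y
  refine h1 y y.2 u (g y).1 (g y).2 ?_ hy
  have e1 : Outer.act E y = Cfsg.Agent.KFacts.RgdFld.Fld.actC E ⟨y, hT y.2⟩ := by
    ext k
    rfl
  rwa [← e1]

end Cfsg.Agent.OddHalf.D7Out.HasFldOf

end

-- merged: Cfsg.Agent.OddHalf.D7Out.HasPOf
section

/-!
# Perfect subgroups of `C_K(X r)` containing `X r` (helper875)

`hasP_big` : `q > 2`; `hasP_two` : `q = 2`, every root orthogonal to `r` has a neighbour orthogonal to `r`.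
-/

set_option autoImplicit false
set_option linter.unusedSectionVars false

namespace Cfsg.Agent.OddHalf.D7Out.HasPOf

open CoxeterSystem Cfsg.Agent.ChevalleyStructure.CoxeterGeom Cfsg.Agent.Tits.Roots Cfsg.Agent.Tits.Core
  Cfsg.Agent.Tits.RootComb Cfsg.Agent.Nodes.Reps Cfsg.Agent.Nodes.BNOf Cfsg.Agent.Nodes.Coroot
  Cfsg.Agent.OddHalf.SL.Index Cfsg.Agent.OddHalf.SL.OfRGD Cfsg.Agent.KFacts.SLRow.Def
  Cfsg.Agent.OddHalf.D7Ex Cfsg.Agent.OddHalf.SL.PreOf

variable {I W : Type*} [Fintype I] [DecidableEq I] [Group W] {M : CoxeterMatrix I}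
  {cs : CoxeterSystem M W} {A : I → I → ℤ} {h : IsCartan M A}
  {G : Type*} [Group G] {K : Subgroup G} {T₀ : Subgroup ↥K} {n : I → ↥K} {X : (I → ℤ) → Subgroup ↥K} {q : ℕ}

theorem hasP_of [Finite G] [Finite W] (D : Datum (⊤ : Subgroup ↥K) q cs h T₀ n X)
    (hp : ∀ r, IsRoot cs h r → PR (Bf A) {x | IsRoot cs h x} X r ≤
      ⁅PR (Bf A) {x | IsRoot cs h x} X r, PR (Bf A) {x | IsRoot cs h x} X r⁆) : FrontSL.HasP cs h X := by
  intro r hr
  have hR := roots cs h D.h4 D.h6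
  refine ⟨PR (Bf A) {x | IsRoot cs h x} X r, le_antisymm ?_ (hp r hr), le_PR X hr (by rw [hR.two r hr]; norm_num),
    fun y hy x hx => ((KData.rg D).XP hr hx hy).symm⟩
  rw [Subgroup.commutator_le]
  intro a ha b hb
  rw [commutatorElement_def]
  exact mul_mem (mul_mem (mul_mem ha hb) (inv_mem ha)) (inv_mem hb)

theorem hasP_big [Finite G] [Finite W] (D : Datum (⊤ : Subgroup ↥K) q cs h T₀ n X) (hq : 2 < q) :
    FrontSL.HasP cs h X := hasP_of D fun _ hr => KData.perf D hq hr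

theorem hasP_two [Finite G] [Finite W] (D : Datum (⊤ : Subgroup ↥K) 2 cs h T₀ n X)
    (hirr : ∀ r, IsRoot cs h r → ∀ b, IsRoot cs h b → Bf A b r = 0 →
      ∃ d, IsRoot cs h d ∧ Bf A d r = 0 ∧ Bf A b d = 1) : FrontSL.HasP cs h X :=
  hasP_of D fun r hr => KTwo.perfTwo D hr (hirr r hr)

end Cfsg.Agent.OddHalf.D7Out.HasPOf

end

-- merged: Cfsg.Agent.OddHalf.D7End.CaseA
section

/-!
# The end of the outer part, case A (helper163, bb ODD 9501)

`t` an involution of `G`, `K ≤ C(t)` simple, containing all perfect subgroups of `C(t)`, `C_{C(t)}(K) = ⟨t⟩`. `K1` is a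
perfect group commuting with `K2 = t K1 t`, and `K = {k k^t}`. `W ≤ K1 K2` is the doubled root group of a subgroup `X` of
`K`, characterised by `t, K, X`. Then the stabiliser `N` of the pair `{K1, K2}` has the property: every conjugate
`u = t^g ∈ N` swapping `K1` and `K2` has `g ∈ N`. So the transfer of the sign `N → {±1}` at `t` is `-1`.
-/

set_option autoImplicit false
set_option linter.unusedSectionVars false

namespace Cfsg.Agent.OddHalf.D7End.CaseA

open Subgroup MulAction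
open scoped commutatorElement

variable {G : Type*} [Group G]

/-- the conjugate `g H g⁻¹` -/
def cj (g : G) (H : Subgroup G) : Subgroup G := H.map (MulAut.conj g).toMonoidHom

theorem mem_cj {g : G} {H : Subgroup G} {x : G} : x ∈ cj g H ↔ g⁻¹ * x * g ∈ H := by
  constructor
  · rintro ⟨y, hy, rfl⟩
    show g⁻¹ * (g * y * g⁻¹) * g ∈ H
    have : g⁻¹ * (g * y * g⁻¹) * g = y := by group
    rwa [this]
  · intro h
    refine ⟨_, h, ?_⟩
    show g * (g⁻¹ * x * g) * g⁻¹ = x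
    group

theorem cj_mem {g : G} {H : Subgroup G} {x : G} (hx : x ∈ H) : g * x * g⁻¹ ∈ cj g H := ⟨x, hx, rfl⟩

theorem cj_mul (g h : G) (H : Subgroup G) : cj (g * h) H = cj g (cj h H) := by
  ext x
  rw [mem_cj, mem_cj, mem_cj]
  have : (g * h)⁻¹ * x * (g * h) = h⁻¹ * (g⁻¹ * x * g) * h := by group
  rw [this]

theorem cj_one (H : Subgroup G) : cj 1 H = H := by
  ext x; rw [mem_cj]; simp

theorem cj_inv_cj (g : G) (H : Subgroup G) : cj g⁻¹ (cj g H) = H := by
  rw [← cj_mul, inv_mul_cancel, cj_one]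

theorem cj_cj_inv (g : G) (H : Subgroup G) : cj g (cj g⁻¹ H) = H := by
  rw [← cj_mul, mul_inv_cancel, cj_one]

theorem cj_mono {g : G} {H H' : Subgroup G} (h : H ≤ H') : cj g H ≤ cj g H' := map_mono h

theorem cj_injective (g : G) : Function.Injective (cj g) := fun H H' h => by
  have := congrArg (cj g⁻¹) h
  rwa [cj_inv_cj, cj_inv_cj] at this

theorem card_cj (g : G) (H : Subgroup G) : Nat.card (cj g H) = Nat.card H :=
  (Nat.card_congr (H.equivMapOfInjective _ (MulAut.conj g).injective).toEquiv).symm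

theorem cj_commutator (g : G) (H : Subgroup G) : ⁅cj g H, cj g H⁆ = cj g ⁅H, H⁆ := (map_commutator _ _ _).symm

/-- the data of case A -/
structure AData (t : G) (K K1 X W : Subgroup G) : Prop where
  tt : t * t = 1
  Kt : ∀ x ∈ K, x * t = t * x
  cK : ∀ c, c * t = t * c → (∀ x ∈ K, x * c = c * x) → c = 1 ∨ c = t
  tK : t ∉ K
  simp : ∀ L ≤ K, (∀ k ∈ K, ∀ l ∈ L, k * l * k⁻¹ ∈ L) → L = ⊥ ∨ L = K
  perf : ∀ P : Subgroup G, ⁅P, P⁆ = P → (∀ x ∈ P, x * t = t * x) → P ≤ K
  K1p : ⁅K1, K1⁆ = K1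
  K1n : K1 ≠ ⊥
  K12 : ∀ a ∈ K1, ∀ b ∈ K1, a * (t * b * t) = t * b * t * a
  K1K : ∀ x ∈ K, ∃ k ∈ K1, x = k * (t * k * t)
  XK : X ≤ K
  X1 : X ≠ ⊥
  Xsq : ∀ x ∈ X, x * x = 1
  WE : W ≤ K1 ⊔ cj t K1
  EW : ∀ H : Subgroup G, (∀ k ∈ K, ∀ w ∈ W, k * w * k⁻¹ ∈ H) → K1 ≤ H
  cardW : Nat.card W = Nat.card X * Nat.card X
  can : ∀ V : Subgroup G, (∀ v ∈ V, v * v = 1) →
    (∀ v ∈ V, ∀ k ∈ K, (∀ x ∈ X, k * x = x * k) → k * v = v * k) →
    (∀ v ∈ V, v⁻¹ * (t * v * t) ∈ X) → t ∉ V → Nat.card V = Nat.card W → V = W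

/-- the homomorphism `k ↦ k · u k u⁻¹` -/
def phi (u : G) (K1 : Subgroup G) (h : ∀ a ∈ K1, ∀ b ∈ K1, a * (u * b * u⁻¹) = u * b * u⁻¹ * a) : K1 →* G where
  toFun k := k * (u * k * u⁻¹)
  map_one' := by simp
  map_mul' a b := by
    show (a : G) * b * (u * (a * b) * u⁻¹) = a * (u * a * u⁻¹) * (b * (u * b * u⁻¹))
    calc (a : G) * b * (u * (a * b) * u⁻¹) = a * (b * (u * a * u⁻¹)) * (u * b * u⁻¹) := by group
      _ = a * ((u * a * u⁻¹) * b) * (u * b * u⁻¹) := by rw [h b b.2 a a.2]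
      _ = a * (u * a * u⁻¹) * (b * (u * b * u⁻¹)) := by group

theorem phi_apply {u : G} {K1 : Subgroup G} {h : ∀ a ∈ K1, ∀ b ∈ K1, a * (u * b * u⁻¹) = u * b * u⁻¹ * a} (k : K1) :
    phi u K1 h k = k * (u * k * u⁻¹) := rfl

/-- An element of odd order with trivial square is trivial. -/
theorem eq_one_of_sq {Z : Subgroup G} (hodd : Odd (Nat.card Z)) {z : G} (hz : z ∈ Z) (h2 : z * z = 1) : z = 1 := by
  obtain ⟨m, hm⟩ := hodd
  have h1 : z ^ Nat.card Z = 1 := by
    have := pow_card_eq_one' (x := (⟨z, hz⟩ : Z))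
    exact congrArg Subtype.val this
  rw [hm, pow_succ, pow_mul, pow_two, h2, one_pow, one_mul] at h1
  exact h1

namespace AData

variable {t : G} {K K1 X W : Subgroup G} (D : AData t K K1 X W)

include D

theorem tinv : t⁻¹ = t := inv_eq_of_mul_eq_one_left D.tt

theorem cj_tt (H : Subgroup G) : cj t (cj t H) = H := by rw [← cj_mul, D.tt, cj_one]

theorem mem_cj_t {H : Subgroup G} {x : G} : x ∈ cj t H ↔ t * x * t ∈ H := by rw [mem_cj, D.tinv]

/-- `[K1, K2] = 1` -/
theorem comm {a b : G} (ha : a ∈ K1) (hb : b ∈ cj t K1) : a * b = b * a := by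
  rw [D.mem_cj_t] at hb
  have h1 := D.K12 a ha _ hb
  have h2 : t * (t * b * t) * t = b := by
    calc t * (t * b * t) * t = t * t * b * (t * t) := by group
      _ = b := by rw [D.tt]; group
  rwa [h2] at h1

/-- `K1 ∩ K2` is central in `K1 K2` and inverted by `t` -/
theorem Z0_comm {z : G} (_ : z ∈ K1) (hz2 : z ∈ cj t K1) {a : G} (ha : a ∈ K1) : a * z = z * a := D.comm ha hz2

theorem Z0_comm' {z : G} (hz1 : z ∈ K1) (_ : z ∈ cj t K1) {a : G} (ha : a ∈ cj t K1) : a * z = z * a :=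
  (D.comm hz1 ha).symm

theorem phi_mem {k : G} (hk : k ∈ K1) : k * (t * k * t) ∈ K := by
  have h : ∀ a ∈ K1, ∀ b ∈ K1, a * (t * b * t⁻¹) = t * b * t⁻¹ * a := by rw [D.tinv]; exact D.K12
  have h1 : (phi t K1 h).range ≤ K := by
    apply D.perf
    · rw [MonoidHom.range_eq_map, ← map_commutator]
      congr 1
      have h2 := D.K1p
      apply map_injective K1.subtype_injective
      rw [map_commutator, ← MonoidHom.range_eq_map, K1.range_subtype]
      exact h2
    · rintro _ ⟨k, rfl⟩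
      rw [phi_apply, D.tinv]
      have h3 := D.K12 k k.2 k k.2
      calc (k : G) * (t * k * t) * t = k * t * k * (t * t) := by group
        _ = (t * t) * k * (t * k) := by rw [D.tt]; group
        _ = t * (t * k * t * k) := by group
        _ = t * (k * (t * k * t)) := by rw [← h3]
  apply h1
  refine ⟨⟨k, hk⟩, ?_⟩
  rw [phi_apply, D.tinv]

/-- a subgroup normalised by and centralising `K` is trivial -/
theorem cent_K {x : G} (hx : x ∈ K) (hc : ∀ k ∈ K, k * x = x * k) : x = 1 := by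
  rcases D.cK x (D.Kt x hx) hc with h | h
  · exact h
  · exact absurd (h ▸ hx) D.tK

/-- elements commuting with `K1` and `K2` commute with `K` -/
theorem comm_K {z : G} (h1 : ∀ a ∈ K1, a * z = z * a) (h2 : ∀ a ∈ cj t K1, a * z = z * a) :
    ∀ k ∈ K, k * z = z * k := by
  intro x hx
  obtain ⟨k, hk, rfl⟩ := D.K1K x hx
  have h3 : t * k * t ∈ cj t K1 := by
    rw [D.mem_cj_t]
    have : t * (t * k * t) * t = k := by
      calc t * (t * k * t) * t = t * t * k * (t * t) := by group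
        _ = k := by rw [D.tt]; group
    rwa [this]
  calc k * (t * k * t) * z = k * (t * k * t * z) := by group
    _ = k * (z * (t * k * t)) := by rw [h2 _ h3]
    _ = k * z * (t * k * t) := by group
    _ = z * k * (t * k * t) := by rw [h1 k hk]
    _ = z * (k * (t * k * t)) := by group

/-- `t` inverts `K1 ∩ K2` -/
theorem Z0_inv {z : G} (hz1 : z ∈ K1) (hz2 : z ∈ cj t K1) : z * (t * z * t) = 1 := by
  apply D.cent_K (D.phi_mem hz1)
  apply D.comm_K
  · intro a ha
    have h2 : t * z * t ∈ K1 := by rw [← D.mem_cj_t]; exact hz2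
    have h3 : t * z * t ∈ cj t K1 := by
      rw [D.mem_cj_t]
      have : t * (t * z * t) * t = z := by
        calc t * (t * z * t) * t = t * t * z * (t * t) := by group
          _ = z := by rw [D.tt]; group
      rwa [this]
    calc a * (z * (t * z * t)) = (a * z) * (t * z * t) := by group
      _ = z * (a * (t * z * t)) := by rw [D.Z0_comm hz1 hz2 ha]; group
      _ = z * ((t * z * t) * a) := by rw [D.Z0_comm h2 h3 ha]
      _ = z * (t * z * t) * a := by group
  · intro a ha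
    have h2 : t * z * t ∈ K1 := by rw [← D.mem_cj_t]; exact hz2
    have h3 : t * z * t ∈ cj t K1 := by
      rw [D.mem_cj_t]
      have : t * (t * z * t) * t = z := by
        calc t * (t * z * t) * t = t * t * z * (t * t) := by group
          _ = z := by rw [D.tt]; group
      rwa [this]
    calc a * (z * (t * z * t)) = (a * z) * (t * z * t) := by group
      _ = z * (a * (t * z * t)) := by rw [D.Z0_comm' hz1 hz2 ha]; group
      _ = z * ((t * z * t) * a) := by rw [D.Z0_comm' h2 h3 ha]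
      _ = z * (t * z * t) * a := by group

theorem ne : K1 ≠ cj t K1 := by
  intro h
  have h1 : ⁅K1, K1⁆ = ⊥ := by
    rw [commutator_eq_bot_iff_le_centralizer]
    intro a ha
    rw [mem_centralizer_iff]
    intro b hb
    rw [SetLike.mem_coe, h] at hb
    exact (D.comm ha hb).symm
  exact D.K1n (D.K1p.symm.trans h1)

/-- `K1 ∩ K2` has odd order -/
theorem odd_Z0 [Finite G] : Odd (Nat.card ↥(K1 ⊓ cj t K1)) := by
  rw [← Nat.not_even_iff_odd, even_iff_two_dvd]
  intro h2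
  have : Fact (Nat.Prime 2) := ⟨Nat.prime_two⟩
  obtain ⟨⟨z, hz⟩, ho⟩ := exists_prime_orderOf_dvd_card' 2 h2
  have hzz : z * z = 1 := by
    have h3 := pow_orderOf_eq_one (⟨z, hz⟩ : ↥(K1 ⊓ cj t K1))
    rw [ho] at h3
    have h4 := congrArg Subtype.val h3
    rw [← pow_two]; simpa using h4
  have hz1 : z ≠ 1 := by
    rintro rfl
    have : (⟨1, hz⟩ : ↥(K1 ⊓ cj t K1)) = 1 := rfl
    rw [this, orderOf_one] at ho
    omega
  have h5 := D.Z0_inv hz.1 hz.2
  have h6 : z * t = t * z := by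
    have h7 : t * z * t = z⁻¹ := eq_inv_of_mul_eq_one_right h5
    have h8 : z⁻¹ = z := inv_eq_of_mul_eq_one_left hzz
    rw [h8] at h7
    calc z * t = t * z * t * t := by rw [h7]
      _ = t * z * (t * t) := by group
      _ = t * z := by rw [D.tt, mul_one]
  rcases D.cK z h6 (D.comm_K (fun a ha => D.Z0_comm hz.1 hz.2 ha) (fun a ha => D.Z0_comm' hz.1 hz.2 ha)) with h | h
  · exact hz1 h
  · -- `t` centralises `K1`
    apply D.ne
    ext a
    rw [D.mem_cj_t]
    subst h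
    constructor
    · intro ha
      have h8 := D.Z0_comm hz.1 hz.2 ha
      have : z * a * z = a := by
        calc z * a * z = z * (a * z) := by group
          _ = z * (z * a) := by rw [h8]
          _ = (z * z) * a := by group
          _ = a := by rw [D.tt, one_mul]
      rwa [this]
    · intro ha
      have h8 := D.Z0_comm hz.1 hz.2 ha
      have : z * a * z = a := by
        have h9 : z * (z * a * z) * z = a := by
          calc z * (z * a * z) * z = z * z * a * (z * z) := by group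
            _ = a := by rw [D.tt]; group
        calc z * a * z = z * a * z * z * z := by
              rw [mul_assoc (z * a * z), D.tt, mul_one]
          _ = z * (z * a * z) * z := by rw [h8]
          _ = a := h9
      rwa [this] at ha

/-- quasisimplicity of `K1` -/
theorem K1_simple {L : Subgroup G} (hL : L ≤ K1) (hn : ∀ k ∈ K1, ∀ l ∈ L, k * l * k⁻¹ ∈ L) :
    L ≤ K1 ⊓ cj t K1 ∨ L = K1 := by
  have h : ∀ a ∈ K1, ∀ b ∈ K1, a * (t * b * t⁻¹) = t * b * t⁻¹ * a := by rw [D.tinv]; exact D.K12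
  set f := phi t K1 h with hf
  have hfa : ∀ k (hk : k ∈ K1), f ⟨k, hk⟩ = k * (t * k * t) := fun k hk => by rw [hf, phi_apply, D.tinv]
  have hfr : ∀ x ∈ K, ∃ k : K1, f k = x := by
    intro x hx
    obtain ⟨k, hk, rfl⟩ := D.K1K x hx
    exact ⟨⟨k, hk⟩, hfa k hk⟩
  have hker : ∀ k (hk : k ∈ K1), f ⟨k, hk⟩ = 1 → k ∈ K1 ⊓ cj t K1 := by
    intro k hk h1
    refine ⟨hk, ?_⟩
    show k ∈ cj t K1
    rw [D.mem_cj_t]
    rw [hfa] at h1
    have h2 : t * k * t = k⁻¹ := eq_inv_of_mul_eq_one_right h1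
    rw [h2]; exact inv_mem hk
  have hM := D.simp ((L.subgroupOf K1).map f) (by
      rintro _ ⟨k, -, rfl⟩
      rw [← Subtype.coe_eta k k.2, hfa]
      exact D.phi_mem k.2) (by
      intro x hx l hl
      obtain ⟨k, rfl⟩ := hfr x hx
      obtain ⟨l, hl, rfl⟩ := hl
      refine ⟨k * l * k⁻¹, ?_, by rw [map_mul, map_mul, map_inv]⟩
      rw [SetLike.mem_coe, mem_subgroupOf] at hl ⊢
      exact hn k k.2 l hl)
  rcases hM with hM | hM
  · left
    intro l hl
    apply hker l (hL hl)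
    have : f ⟨l, hL hl⟩ ∈ (L.subgroupOf K1).map f := ⟨⟨l, hL hl⟩, hl, rfl⟩
    rw [hM, mem_bot] at this
    exact this
  · right
    apply le_antisymm hL
    rw [← D.K1p, commutator_le]
    -- every element of `K1` is in `L Z0`
    have key : ∀ a ∈ K1, ∃ l ∈ L, ∃ z ∈ K1 ⊓ cj t K1, a = l * z := by
      intro a ha
      have h1 : f ⟨a, ha⟩ ∈ (L.subgroupOf K1).map f := by
        rw [hM, hfa]; exact D.phi_mem ha
      obtain ⟨l, hl, hla⟩ := h1
      refine ⟨l, hl, (l : G)⁻¹ * a, ?_, by group⟩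
      have h2 : f (l⁻¹ * ⟨a, ha⟩) = 1 := by rw [map_mul, map_inv, hla, inv_mul_cancel]
      exact hker _ (mul_mem (inv_mem l.2) ha) h2
    intro a ha b hb
    obtain ⟨l, hl, z, hz, rfl⟩ := key a ha
    obtain ⟨m, hm, y, hy, rfl⟩ := key b hb
    have hlK := hL hl
    have hmK := hL hm
    have e1 := D.Z0_comm hz.1 hz.2 hlK
    have e2 := D.Z0_comm hz.1 hz.2 hmK
    have e3 := D.Z0_comm hy.1 hy.2 hlK
    have e4 := D.Z0_comm hy.1 hy.2 hmK
    have e5 := D.Z0_comm hy.1 hy.2 hz.1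
    have : ⁅l * z, m * y⁆ = ⁅l, m⁆ := by
      have h1 : ⁅l * z, m * y⁆ = l * (z * (m * y) * z⁻¹) * l⁻¹ * (m * y)⁻¹ := by
        rw [commutatorElement_def]; group
      have h2 : z * (m * y) * z⁻¹ = m * y := by
        calc z * (m * y) * z⁻¹ = (z * m) * y * z⁻¹ := by group
          _ = m * (z * y) * z⁻¹ := by rw [← e2]; group
          _ = m * (y * z) * z⁻¹ := by rw [e5]
          _ = m * y := by group
      rw [h1, h2, commutatorElement_def]
      calc l * (m * y) * l⁻¹ * (m * y)⁻¹ = l * m * (y * l⁻¹) * y⁻¹ * m⁻¹ := by group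
        _ = l * m * (l⁻¹ * y) * y⁻¹ * m⁻¹ := by
            have : y * l⁻¹ = l⁻¹ * y := by
              calc y * l⁻¹ = l⁻¹ * (l * y) * l⁻¹ := by group
                _ = l⁻¹ * (y * l) * l⁻¹ := by rw [e3]
                _ = l⁻¹ * y := by group
            rw [this]
        _ = l * m * l⁻¹ * m⁻¹ := by group
    rw [this]
    exact (commutator_le.1 (le_refl ⁅L, L⁆) l hl m hm |> fun h => (commutator_le.2 fun a ha b hb => by
      rw [commutatorElement_def]
      exact mul_mem (mul_mem (mul_mem ha hb) (inv_mem ha)) (inv_mem hb) : ⁅L, L⁆ ≤ L) h)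

theorem phi_odd [Finite G] : Nat.card K1 = Nat.card K * Nat.card ↥(K1 ⊓ cj t K1) := by
  have h : ∀ a ∈ K1, ∀ b ∈ K1, a * (t * b * t⁻¹) = t * b * t⁻¹ * a := by rw [D.tinv]; exact D.K12
  set f := phi t K1 h with hf
  have hfa : ∀ k (hk : k ∈ K1), f ⟨k, hk⟩ = k * (t * k * t) := fun k hk => by rw [hf, phi_apply, D.tinv]
  have hr : f.range = K := by
    ext x
    constructor
    · rintro ⟨k, rfl⟩
      rw [← Subtype.coe_eta k k.2, hfa]
      exact D.phi_mem k.2
    · intro hx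
      obtain ⟨k, hk, rfl⟩ := D.K1K x hx
      exact ⟨⟨k, hk⟩, hfa k hk⟩
  have hk : f.ker.map K1.subtype = K1 ⊓ cj t K1 := by
    ext z
    constructor
    · rintro ⟨k, hk, rfl⟩
      rw [SetLike.mem_coe, MonoidHom.mem_ker, ← Subtype.coe_eta k k.2, hfa] at hk
      refine ⟨k.2, ?_⟩
      show (k : G) ∈ cj t K1
      rw [D.mem_cj_t, eq_inv_of_mul_eq_one_right hk]
      exact inv_mem k.2
    · rintro ⟨hz1, hz2⟩
      refine ⟨⟨z, hz1⟩, ?_, rfl⟩
      rw [SetLike.mem_coe, MonoidHom.mem_ker, hfa]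
      exact D.Z0_inv hz1 hz2
  have h1 := f.ker.card_mul_index
  rw [Subgroup.index_ker, hr] at h1
  rw [← hk, Nat.card_congr (f.ker.equivMapOfInjective _ K1.subtype_injective).toEquiv.symm, ← h1, mul_comm]

section Swap

variable {g u : G} (hug : g⁻¹ * t * g = u) (hsw : cj u K1 = cj t K1)

include hug in
theorem uu : u * u = 1 := by
  rw [← hug]
  calc g⁻¹ * t * g * (g⁻¹ * t * g) = g⁻¹ * (t * t) * g := by group
    _ = 1 := by rw [D.tt]; group

include hug in
theorem uinv : u⁻¹ = u := inv_eq_of_mul_eq_one_left (D.uu hug)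

include hug hsw in
theorem cju : cj u (cj t K1) = K1 := by rw [← hsw, ← cj_mul, D.uu hug, cj_one]

include hsw in
theorem u_mem {b : G} (hb : b ∈ K1) : u * b * u⁻¹ ∈ cj t K1 := by rw [← hsw]; exact cj_mem hb

include hug hsw in
theorem u_mem' {b : G} (hb : b ∈ cj t K1) : u * b * u⁻¹ ∈ K1 := by
  have := cj_mem (g := u) hb
  rwa [D.cju hug hsw] at this

include hsw in
theorem hcomm : ∀ a ∈ K1, ∀ b ∈ K1, a * (u * b * u⁻¹) = u * b * u⁻¹ * a := fun _ ha _ hb =>
  D.comm ha (D.u_mem hsw hb)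

include hug in
theorem ker_le {k : G} (hk : k ∈ K1) (h1 : k * (u * k * u⁻¹) = 1) (hsw : cj u K1 = cj t K1) :
    k ∈ K1 ⊓ cj t K1 := by
  refine ⟨hk, ?_⟩
  have h2 : k = (u * k * u⁻¹)⁻¹ := eq_inv_of_mul_eq_one_left h1
  show k ∈ cj t K1
  rw [h2]
  exact inv_mem (D.u_mem hsw hk)

include hug in
theorem range_le (hsw : cj u K1 = cj t K1) : (phi u K1 (D.hcomm hsw)).range ≤ cj g⁻¹ K := by
  have h1 : cj g (phi u K1 (D.hcomm hsw)).range ≤ K := by
    apply D.perf
    · rw [cj_commutator]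
      congr 1
      rw [MonoidHom.range_eq_map, ← map_commutator]
      congr 1
      apply map_injective K1.subtype_injective
      rw [map_commutator, ← MonoidHom.range_eq_map, K1.range_subtype]
      exact D.K1p
    · rintro _ ⟨_, ⟨k, rfl⟩, rfl⟩
      show g * phi u K1 (D.hcomm hsw) k * g⁻¹ * t = t * (g * phi u K1 (D.hcomm hsw) k * g⁻¹)
      rw [phi_apply]
      have h3 := D.hcomm hsw k k.2 k k.2
      have h4 : (k : G) * (u * k * u⁻¹) * u = u * (k * (u * k * u⁻¹)) := by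
        rw [D.uinv hug] at h3 ⊢
        calc (k : G) * (u * k * u) * u = k * u * k * (u * u) := by group
          _ = (u * u) * k * (u * k) := by rw [D.uu hug]; group
          _ = u * (u * k * u * k) := by group
          _ = u * (k * (u * k * u)) := by rw [← h3]
      have h5 : t = g * u * g⁻¹ := by rw [← hug]; group
      calc g * (k * (u * k * u⁻¹)) * g⁻¹ * t = g * (k * (u * k * u⁻¹) * u) * g⁻¹ := by rw [h5]; group
        _ = g * (u * (k * (u * k * u⁻¹))) * g⁻¹ := by rw [h4]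
        _ = t * (g * (k * (u * k * u⁻¹)) * g⁻¹) := by rw [h5]; group
  have h2 := cj_mono (g := g⁻¹) h1
  rwa [cj_inv_cj] at h2

include hug in
theorem range_eq [Finite G] (hsw : cj u K1 = cj t K1) : (phi u K1 (D.hcomm hsw)).range = cj g⁻¹ K := by
  apply Subgroup.eq_of_le_of_card_ge (D.range_le hug hsw)
  rw [card_cj]
  have h1 := (phi u K1 (D.hcomm hsw)).ker.card_mul_index
  rw [Subgroup.index_ker] at h1
  have h2 := D.phi_odd
  have h3 : Nat.card (phi u K1 (D.hcomm hsw)).ker ≤ Nat.card ↥(K1 ⊓ cj t K1) := by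
    have h4 : (phi u K1 (D.hcomm hsw)).ker.map K1.subtype ≤ K1 ⊓ cj t K1 := by
      rintro _ ⟨k, hk, rfl⟩
      exact D.ker_le hug k.2 hk hsw
    rw [← Nat.card_congr ((phi u K1 (D.hcomm hsw)).ker.equivMapOfInjective _ K1.subtype_injective).toEquiv.symm]
    exact Subgroup.card_le_of_le h4
  rw [h2] at h1
  have hpos : 0 < Nat.card ↥(K1 ⊓ cj t K1) := Nat.card_pos
  by_contra hcon
  push Not at hcon
  have : Nat.card (phi u K1 (D.hcomm hsw)).ker * Nat.card (phi u K1 (D.hcomm hsw)).range <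
      Nat.card ↥(K1 ⊓ cj t K1) * Nat.card K :=
    Nat.mul_lt_mul_of_le_of_lt h3 hcon hpos
  rw [h1, mul_comm] at this
  exact lt_irrefl _ this

include hug in
/-- elements of `K1` with commuting images commute, if one of them is an involution -/
theorem comm_of_phi [Finite G] (hsw : cj u K1 = cj t K1) {a b : G} (ha : a ∈ K1) (hb : b ∈ K1) (haa : a * a = 1)
    (h : a * (u * a * u⁻¹) * (b * (u * b * u⁻¹)) = b * (u * b * u⁻¹) * (a * (u * a * u⁻¹))) : a * b = b * a := by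
  set f := phi u K1 (D.hcomm hsw) with hf
  have h1 : f (⟨a, ha⟩ * ⟨b, hb⟩ * (⟨a, ha⟩)⁻¹ * (⟨b, hb⟩)⁻¹) = 1 := by
    have h2 : f ⟨a, ha⟩ * f ⟨b, hb⟩ = f ⟨b, hb⟩ * f ⟨a, ha⟩ := h
    rw [map_mul, map_mul, map_mul, map_inv, map_inv, h2]
    group
  set c : G := a * b * a⁻¹ * b⁻¹ with hc
  have hcm : c ∈ K1 := mul_mem (mul_mem (mul_mem ha hb) (inv_mem ha)) (inv_mem hb)
  have hcz : c ∈ K1 ⊓ cj t K1 := D.ker_le hug hcm h1 hsw
  have ec := D.Z0_comm hcz.1 hcz.2 ha
  have hcb : a * b * a⁻¹ = c * b := by rw [hc]; group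
  have ha' : a⁻¹ = a := inv_eq_of_mul_eq_one_left haa
  have hcc : c * c = 1 := by
    have h3 : b = c * c * b := by
      calc b = (a * a) * b * (a * a)⁻¹ := by rw [haa]; group
        _ = a * (a * b * a⁻¹) * a⁻¹ := by group
        _ = a * (c * b) * a⁻¹ := by rw [hcb]
        _ = (a * c) * b * a⁻¹ := by group
        _ = c * (a * b * a⁻¹) := by rw [ec]; group
        _ = c * c * b := by rw [hcb]; group
    have := mul_right_cancel ((one_mul b).trans h3)
    exact this.symm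
  have := eq_one_of_sq D.odd_Z0 hcz hcc
  rw [hc, mul_inv_eq_one, mul_inv_eq_iff_eq_mul] at this
  exact this


include hug in
/-- the preimage of `X' = g⁻¹ X g` in the involutions of `K1` -/
theorem exists_Y [Finite G] (hsw : cj u K1 = cj t K1) : ∃ Y : Subgroup G, Y ≤ K1 ∧ (∀ y ∈ Y, y * y = 1) ∧
    (∀ y ∈ Y, y * (u * y * u⁻¹) ∈ cj g⁻¹ X) ∧ Nat.card Y = Nat.card X ∧
    (∀ y ∈ K1, y * y = 1 → y * (u * y * u⁻¹) ∈ cj g⁻¹ X → y ∈ Y) := by
  set f := phi u K1 (D.hcomm hsw) with hf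
  have hXsq : ∀ x ∈ cj g⁻¹ X, x * x = 1 := by
    intro x hx
    rw [mem_cj, inv_inv] at hx
    have h1 := D.Xsq _ hx
    calc x * x = g⁻¹ * (g * x * g⁻¹ * (g * x * g⁻¹)) * g := by group
      _ = 1 := by rw [h1]; group
  have hXab : ∀ x ∈ cj g⁻¹ X, ∀ y ∈ cj g⁻¹ X, x * y = y * x := by
    intro x hx y hy
    have h1 := hXsq _ (mul_mem hx hy)
    have h2 : (x * y)⁻¹ = x * y := inv_eq_of_mul_eq_one_left h1
    have h3 : x⁻¹ = x := inv_eq_of_mul_eq_one_left (hXsq _ hx)
    have h4 : y⁻¹ = y := inv_eq_of_mul_eq_one_left (hXsq _ hy)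
    rw [← h2, mul_inv_rev, h3, h4]
  have hcom : ∀ a ∈ K1, ∀ b ∈ K1, a * a = 1 → a * (u * a * u⁻¹) ∈ cj g⁻¹ X → b * (u * b * u⁻¹) ∈ cj g⁻¹ X →
      a * b = b * a := fun a ha b hb haa hax hbx => D.comm_of_phi hug hsw ha hb haa (hXab _ hax _ hbx)
  let Y : Subgroup G :=
    { carrier := {y | y ∈ K1 ∧ y * y = 1 ∧ y * (u * y * u⁻¹) ∈ cj g⁻¹ X}
      one_mem' := ⟨one_mem _, one_mul 1, by
        have : (1 : G) * (u * 1 * u⁻¹) = 1 := by group
        rw [this]; exact one_mem _⟩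
      mul_mem' := by
        rintro a b ⟨ha, haa, hax⟩ ⟨hb, hbb, hbx⟩
        have e := hcom a ha b hb haa hax hbx
        refine ⟨mul_mem ha hb, ?_, ?_⟩
        · calc a * b * (a * b) = a * (b * a) * b := by group
            _ = a * (a * b) * b := by rw [e]
            _ = (a * a) * (b * b) := by group
            _ = 1 := by rw [haa, hbb, one_mul]
        · have h1 : f (⟨a, ha⟩ * ⟨b, hb⟩) = f ⟨a, ha⟩ * f ⟨b, hb⟩ := map_mul _ _ _
          have h2 : a * b * (u * (a * b) * u⁻¹) = a * (u * a * u⁻¹) * (b * (u * b * u⁻¹)) := h1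
          rw [h2]
          exact mul_mem hax hbx
      inv_mem' := by
        rintro a ⟨ha, haa, hax⟩
        have h3 : a⁻¹ = a := inv_eq_of_mul_eq_one_left haa
        rw [h3]
        exact ⟨ha, haa, hax⟩ }
  refine ⟨Y, fun y hy => hy.1, fun y hy => hy.2.1, fun y hy => hy.2.2, ?_, fun y h1 h2 h3 => ⟨h1, h2, h3⟩⟩
  rw [← card_cj g⁻¹ X]
  apply Nat.card_congr
  refine Equiv.ofBijective (fun y => ⟨f ⟨y, y.2.1⟩, y.2.2.2⟩) ⟨?_, ?_⟩
  · rintro ⟨a, ha, haa, hax⟩ ⟨b, hb, hbb, hbx⟩ h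
    have h1 : f ⟨a, ha⟩ = f ⟨b, hb⟩ := congrArg Subtype.val h
    apply Subtype.ext
    show a = b
    have h2 : f (⟨a, ha⟩⁻¹ * ⟨b, hb⟩) = 1 := by rw [map_mul, map_inv, h1, inv_mul_cancel]
    have h3 : a⁻¹ * b ∈ K1 ⊓ cj t K1 := D.ker_le hug (mul_mem (inv_mem ha) hb) h2 hsw
    have e := hcom a ha b hb haa hax hbx
    have h4 : a⁻¹ = a := inv_eq_of_mul_eq_one_left haa
    have h5 : a⁻¹ * b * (a⁻¹ * b) = 1 := by
      rw [h4]
      calc a * b * (a * b) = a * (b * a) * b := by group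
        _ = a * (a * b) * b := by rw [e]
        _ = (a * a) * (b * b) := by group
        _ = 1 := by rw [haa, hbb, one_mul]
    have h6 := eq_one_of_sq D.odd_Z0 h3 h5
    rw [inv_mul_eq_one] at h6
    exact h6
  · rintro ⟨x, hx⟩
    have hxr : x ∈ f.range := by
      rw [hf, D.range_eq hug hsw]
      exact cj_mono D.XK hx
    obtain ⟨k, hk⟩ := hxr
    have hxx := hXsq x hx
    obtain ⟨m, hm⟩ := D.odd_Z0
    have h1 : (k : G) ^ 2 ∈ K1 ⊓ cj t K1 := by
      apply D.ker_le hug (pow_mem k.2 2) _ hsw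
      have h2 : f (k ^ 2) = 1 := by rw [map_pow, hk, pow_two, hxx]
      exact h2
    have h2 : ((k : G) ^ 2) ^ (2 * m + 1) = 1 := by
      rw [← hm]
      have := pow_card_eq_one' (x := (⟨_, h1⟩ : ↥(K1 ⊓ cj t K1)))
      exact congrArg Subtype.val this
    have h3 : f (k ^ (2 * m + 1)) = x := by
      rw [map_pow, hk, pow_succ, pow_mul, pow_two, hxx, one_pow, one_mul]
    have h4 : ((k ^ (2 * m + 1) : K1) : G) * ((k ^ (2 * m + 1) : K1) : G) = 1 := by
      rw [← pow_two]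
      have : (((k ^ (2 * m + 1) : K1) : G)) ^ 2 = ((k : G) ^ 2) ^ (2 * m + 1) := by
        rw [SubgroupClass.coe_pow, ← pow_mul, ← pow_mul, mul_comm]
      rw [this, h2]
    refine ⟨⟨(k ^ (2 * m + 1) : K1), (k ^ (2 * m + 1)).2, h4, ?_⟩, Subtype.ext h3⟩
    have h5 : ((k ^ (2 * m + 1) : K1) : G) * (u * ((k ^ (2 * m + 1) : K1) : G) * u⁻¹) = x := h3
    rw [h5]
    exact hx

include hug in
/-- the doubled group of `X' = g⁻¹ X g` -/
theorem cj_W_le [Finite G] (hsw : cj u K1 = cj t K1) : cj g⁻¹ W ≤ K1 ⊔ cj t K1 := by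
  obtain ⟨Y, hYK, hYsq, hYX, hYc, hYm⟩ := D.exists_Y hug hsw
  have hu := D.uu hug
  have hui := D.uinv hug
  have hYinv : ∀ y ∈ Y, y⁻¹ = y := fun y hy => inv_eq_of_mul_eq_one_left (hYsq y hy)
  have hYab : ∀ a ∈ Y, ∀ b ∈ Y, a * b = b * a := by
    intro a ha b hb
    have h2 : (a * b)⁻¹ = a * b := hYinv _ (mul_mem ha hb)
    rw [← h2, mul_inv_rev, hYinv a ha, hYinv b hb]
  -- the homomorphism `Y × Y → G`
  let f : Y × Y →* G :=
    { toFun := fun p => p.1 * (u * p.2 * u⁻¹)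
      map_one' := by simp
      map_mul' := by
        rintro ⟨a, b⟩ ⟨c, d⟩
        show (a : G) * c * (u * (b * d) * u⁻¹) = a * (u * b * u⁻¹) * (c * (u * d * u⁻¹))
        calc (a : G) * c * (u * (b * d) * u⁻¹) = a * (c * (u * b * u⁻¹)) * (u * d * u⁻¹) := by group
          _ = a * ((u * b * u⁻¹) * c) * (u * d * u⁻¹) := by
              rw [D.hcomm hsw c (hYK c.2) b (hYK b.2)]
          _ = a * (u * b * u⁻¹) * (c * (u * d * u⁻¹)) := by group }
  have hf : ∀ a b : Y, f (a, b) = a * (u * b * u⁻¹) := fun a b => rfl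
  have hfinj : Function.Injective f := by
    rw [injective_iff_map_eq_one]
    rintro ⟨a, b⟩ h
    rw [hf] at h
    have h1 : (a : G) = (u * b * u⁻¹)⁻¹ := eq_inv_of_mul_eq_one_left h
    have h2 : (a : G) ∈ K1 ⊓ cj t K1 := ⟨hYK a.2, by
      show (a : G) ∈ cj t K1
      rw [h1]; exact inv_mem (D.u_mem hsw (hYK b.2))⟩
    have h3 := eq_one_of_sq D.odd_Z0 h2 (hYsq a a.2)
    rw [h3, one_mul] at h
    have h4 : (b : G) = 1 := by
      calc (b : G) = u⁻¹ * (u * b * u⁻¹) * u := by group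
        _ = 1 := by rw [h]; group
    exact Prod.ext (Subtype.ext h3) (Subtype.ext h4)
  set V : Subgroup G := f.range with hV
  have hVE : V ≤ K1 ⊔ cj t K1 := by
    rintro _ ⟨⟨a, b⟩, rfl⟩
    rw [hf]
    exact mul_mem (mem_sup_left (hYK a.2)) (mem_sup_right (D.u_mem hsw (hYK b.2)))
  have hW : cj g V = W := by
    apply D.can
    · rintro _ ⟨_, ⟨⟨a, b⟩, rfl⟩, rfl⟩
      show g * f (a, b) * g⁻¹ * (g * f (a, b) * g⁻¹) = 1
      have h1 : f (a, b) * f (a, b) = 1 := by
        rw [← map_mul]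
        have : ((a, b) : Y × Y) * (a, b) = 1 :=
          Prod.ext (Subtype.ext (hYsq a a.2)) (Subtype.ext (hYsq b b.2))
        rw [this, map_one]
      calc g * f (a, b) * g⁻¹ * (g * f (a, b) * g⁻¹) = g * (f (a, b) * f (a, b)) * g⁻¹ := by group
        _ = 1 := by rw [h1]; group
    · rintro _ ⟨_, ⟨⟨a, b⟩, rfl⟩, rfl⟩ k hk hkX
      show k * (g * f (a, b) * g⁻¹) = g * f (a, b) * g⁻¹ * k
      -- `g⁻¹ k g = p p^u`
      have h1 : g⁻¹ * k * g ∈ (phi u K1 (D.hcomm hsw)).range := by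
        rw [D.range_eq hug hsw, mem_cj, inv_inv]
        have : g * (g⁻¹ * k * g) * g⁻¹ = k := by group
        rwa [this]
      obtain ⟨p, hp⟩ := h1
      rw [phi_apply] at hp
      have hpY : ∀ y ∈ Y, y * p = p * y := by
        intro y hy
        apply D.comm_of_phi hug hsw (hYK hy) p.2 (hYsq y hy)
        have h2 := hYX y hy
        rw [mem_cj, inv_inv] at h2
        have h3 := hkX _ h2
        have h4 : k = g * (p * (u * p * u⁻¹)) * g⁻¹ := by rw [hp]; group
        calc y * (u * y * u⁻¹) * (p * (u * p * u⁻¹))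
            = g⁻¹ * (g * (y * (u * y * u⁻¹)) * g⁻¹ * k) * g := by rw [h4]; group
          _ = g⁻¹ * (k * (g * (y * (u * y * u⁻¹)) * g⁻¹)) * g := by rw [h3]
          _ = p * (u * p * u⁻¹) * (y * (u * y * u⁻¹)) := by rw [h4]; group
      have ha := hpY a a.2
      have hb := hpY b b.2
      have e1 := D.hcomm hsw p p.2 b (hYK b.2)
      have e2 := D.hcomm hsw a (hYK a.2) p p.2
      have key : p * (u * p * u⁻¹) * (a * (u * b * u⁻¹)) = a * (u * b * u⁻¹) * (p * (u * p * u⁻¹)) := by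
        calc (p : G) * (u * p * u⁻¹) * (a * (u * b * u⁻¹)) = p * ((u * p * u⁻¹) * a) * (u * b * u⁻¹) := by group
          _ = p * (a * (u * p * u⁻¹)) * (u * b * u⁻¹) := by rw [e2]
          _ = (p * a) * (u * (p * b) * u⁻¹) := by group
          _ = (a * p) * (u * (b * p) * u⁻¹) := by rw [ha, hb]
          _ = a * (p * (u * b * u⁻¹)) * (u * p * u⁻¹) := by group
          _ = a * ((u * b * u⁻¹) * p) * (u * p * u⁻¹) := by rw [e1]
          _ = a * (u * b * u⁻¹) * (p * (u * p * u⁻¹)) := by group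
      rw [hf]
      have h4 : k = g * (p * (u * p * u⁻¹)) * g⁻¹ := by rw [hp]; group
      calc k * (g * (a * (u * b * u⁻¹)) * g⁻¹)
          = g * (p * (u * p * u⁻¹) * (a * (u * b * u⁻¹))) * g⁻¹ := by rw [h4]; group
        _ = g * (a * (u * b * u⁻¹) * (p * (u * p * u⁻¹))) * g⁻¹ := by rw [key]
        _ = g * (a * (u * b * u⁻¹)) * g⁻¹ * k := by rw [h4]; group
    · rintro _ ⟨_, ⟨⟨a, b⟩, rfl⟩, rfl⟩
      show (g * f (a, b) * g⁻¹)⁻¹ * (t * (g * f (a, b) * g⁻¹) * t) ∈ X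
      have h5 : t = g * u * g⁻¹ := by rw [← hug]; group
      have h6 : (g * f (a, b) * g⁻¹)⁻¹ * (t * (g * f (a, b) * g⁻¹) * t) =
          g * ((f (a, b))⁻¹ * (u * f (a, b) * u)) * g⁻¹ := by rw [h5]; group
      rw [h6]
      have h7 : (f (a, b))⁻¹ * (u * f (a, b) * u) = (a * b : Y) * (u * (a * b : Y) * u⁻¹) := by
        rw [hf]
        have e1 := D.hcomm hsw a (hYK a.2) b (hYK b.2)
        have e3 := D.hcomm hsw b (hYK b.2) a (hYK a.2)
        have e4 := D.hcomm hsw b (hYK b.2) b (hYK b.2)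
        have ia := hYinv a a.2
        have ib := hYinv b b.2
        have eab := hYab a a.2 b b.2
        rw [Subgroup.coe_mul]
        calc ((a : G) * (u * b * u⁻¹))⁻¹ * (u * (a * (u * b * u⁻¹)) * u)
            = u * (b : G)⁻¹ * u⁻¹ * (a : G)⁻¹ * (u * a * u⁻¹) * ((u * u) * b * (u⁻¹ * u)) := by group
          _ = u * (b : G) * u⁻¹ * a * (u * a * u⁻¹) * b := by rw [ia, ib, hu]; group
          _ = (u * b * u⁻¹) * a * ((u * a * u⁻¹) * b) := by group
          _ = (a * (u * b * u⁻¹)) * (b * (u * a * u⁻¹)) := by rw [← e1, ← e3]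
          _ = a * ((u * b * u⁻¹) * b) * (u * a * u⁻¹) := by group
          _ = a * (b * (u * b * u⁻¹)) * (u * a * u⁻¹) := by rw [e4]
          _ = a * b * (u * (b * a) * u⁻¹) := by group
          _ = a * b * (u * (a * b) * u⁻¹) := by rw [eab]
      rw [h7]
      have h8 := hYX _ (a * b : Y).2
      rw [mem_cj, inv_inv] at h8
      exact h8
    · intro h
      rw [mem_cj, hug] at h
      obtain ⟨⟨a, b⟩, hab⟩ := h
      -- `u` centralises `Y`
      apply D.X1
      rw [eq_bot_iff]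
      have hY1 : ∀ y ∈ Y, y = 1 := by
        intro y hy
        have h1 : u * y = y * u := by
          have h2 : f (a, b) * f (⟨y, hy⟩, 1) = f (⟨y, hy⟩, 1) * f (a, b) := by
            rw [← map_mul, ← map_mul]
            congr 1
            exact Prod.ext (Subtype.ext (hYab _ a.2 _ hy)) (by simp)
          have h3 : f (⟨y, hy⟩, 1) = y := by rw [hf]; simp
          rw [hab, h3] at h2
          exact h2
        have h4 : y ∈ K1 ⊓ cj t K1 := by
          refine ⟨hYK hy, ?_⟩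
          have h5 := D.u_mem hsw (hYK hy)
          have h6 : u * y * u⁻¹ = y := by rw [h1]; group
          rw [h6] at h5
          exact h5
        exact eq_one_of_sq D.odd_Z0 h4 (hYsq y hy)
      have hY2 : Nat.card Y = 1 := by
        have : Y = ⊥ := by
          rw [eq_bot_iff]
          intro y hy
          rw [mem_bot]
          exact hY1 y hy
        rw [this]; exact card_bot
      rw [hYc] at hY2
      rw [Subgroup.card_eq_one] at hY2
      rw [hY2]
    · rw [card_cj, hV, D.cardW, ← hYc, ← Nat.card_prod, ]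
      exact (Nat.card_congr (MonoidHom.ofInjective hfinj).toEquiv).symm
  rw [← hW, cj_inv_cj]
  exact hVE


include hug in
/-- `E = K1 K2` is normalised by `g` -/
theorem cj_E [Finite G] (hsw : cj u K1 = cj t K1) : cj g (K1 ⊔ cj t K1) = K1 ⊔ cj t K1 := by
  have hsup : ∀ (a : G) (H H' : Subgroup G), cj a (H ⊔ H') = cj a H ⊔ cj a H' := fun a H H' => Subgroup.map_sup _ _ _
  have h1 : K1 ≤ cj g (K1 ⊔ cj t K1) := by
    apply D.EW
    intro k hk w hw
    rw [mem_cj]
    have h2 : g⁻¹ * k * g ∈ K1 ⊔ cj t K1 := by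
      have h3 : g⁻¹ * k * g ∈ (phi u K1 (D.hcomm hsw)).range := by
        rw [D.range_eq hug hsw, mem_cj, inv_inv]
        have : g * (g⁻¹ * k * g) * g⁻¹ = k := by group
        rwa [this]
      obtain ⟨p, hp⟩ := h3
      rw [← hp, phi_apply]
      exact mul_mem (mem_sup_left p.2) (mem_sup_right (D.u_mem hsw p.2))
    have h4 : g⁻¹ * w * g ∈ K1 ⊔ cj t K1 := by
      apply D.cj_W_le hug hsw
      rw [mem_cj, inv_inv]
      have : g * (g⁻¹ * w * g) * g⁻¹ = w := by group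
      rwa [this]
    have : g⁻¹ * (k * w * k⁻¹) * g = (g⁻¹ * k * g) * (g⁻¹ * w * g) * (g⁻¹ * k * g)⁻¹ := by group
    rw [this]
    exact mul_mem (mul_mem h2 h4) (inv_mem h2)
  have h2 : cj t K1 ≤ cj g (K1 ⊔ cj t K1) := by
    have h3 := cj_mono (g := t) h1
    rw [← cj_mul] at h3
    have h4 : t * g = g * u := by rw [← hug]; group
    rw [h4, cj_mul, hsup u, hsw, D.cju hug hsw, sup_comm (cj t K1) K1] at h3
    exact h3
  apply (Subgroup.eq_of_le_of_card_ge (sup_le h1 h2) _).symm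
  rw [card_cj]

/-- the commutator subgroup with a perfect group -/
theorem centralises_of_le {M : Subgroup G} (hM : ⁅M, M⁆ = M) (hME : M ≤ K1 ⊔ cj t K1)
    (hc : ∀ m ∈ M, ∀ k ∈ K1, m * k * m⁻¹ * k⁻¹ ∈ K1 ⊓ cj t K1) : ∀ m ∈ M, ∀ k ∈ K1, m * k = k * m := by
  have hZ : ∀ z ∈ K1 ⊓ cj t K1, ∀ e ∈ K1 ⊔ cj t K1, e * z = z * e := by
    intro z hz
    have h1 : K1 ⊔ cj t K1 ≤ centralizer ({z} : Set G) := by
      apply sup_le
      · intro a ha
        rw [mem_centralizer_singleton_iff]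
        exact D.Z0_comm hz.1 hz.2 ha
      · intro a ha
        rw [mem_centralizer_singleton_iff]
        exact D.Z0_comm' hz.1 hz.2 ha
    intro e he
    exact mem_centralizer_singleton_iff.1 (h1 he)
  have h1 : ⁅M, K1⁆ ≤ K1 ⊓ cj t K1 := by
    rw [commutator_le]
    intro m hm k hk
    exact hc m hm k hk
  have h2 : ⁅⁅M, K1⁆, M⁆ = ⊥ := by
    rw [commutator_eq_bot_iff_le_centralizer]
    intro z hz
    rw [mem_centralizer_iff]
    intro m hm
    exact hZ z (h1 hz) m (hME hm)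
  have h3 : ⁅⁅K1, M⁆, M⁆ = ⊥ := by rw [commutator_comm K1 M]; exact h2
  have h4 : ⁅⁅M, M⁆, K1⁆ = ⊥ := commutator_commutator_eq_bot_of_rotate h2 h3
  rw [hM, commutator_eq_bot_iff_le_centralizer] at h4
  intro m hm k hk
  exact (mem_centralizer_iff.1 (h4 hm) k hk).symm

include hug in
/-- **The claim.** -/
theorem mem_stab [Finite G] (hsw : cj u K1 = cj t K1) :
    (cj g K1 = K1 ∧ cj g (cj t K1) = cj t K1) ∨ (cj g K1 = cj t K1 ∧ cj g (cj t K1) = K1) := by
  have hsup : ∀ (a : G) (H H' : Subgroup G), cj a (H ⊔ H') = cj a H ⊔ cj a H' := fun a H H' => Subgroup.map_sup _ _ _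
  have hE := D.cj_E hug hsw
  have hcard1 : Nat.card (cj g K1) = Nat.card K1 := card_cj _ _
  have hcard2 : Nat.card (cj t K1) = Nat.card K1 := card_cj _ _
  -- `M = g K1 g⁻¹`, `M' = t M t = g K2 g⁻¹`
  have hM' : cj g (cj t K1) = cj t (cj g K1) := by
    rw [← hsw, ← cj_mul, ← cj_mul]
    congr 1
    rw [← hug]; group
  set M : Subgroup G := cj g K1 with hM
  have hMp : ⁅M, M⁆ = M := by rw [hM, cj_commutator, D.K1p]
  have hMn : M ≠ ⊥ := by
    intro h
    have h1 : Nat.card M = 1 := by rw [h]; exact card_bot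
    rw [hcard1, Subgroup.card_eq_one] at h1
    exact D.K1n h1
  rw [hsup, hM'] at hE
  have hME : M ≤ K1 ⊔ cj t K1 := by rw [← hE]; exact le_sup_left
  have hMM' : ∀ a ∈ M, ∀ b ∈ cj t M, a * b = b * a := by
    intro a ha b hb
    rw [← hM'] at hb
    rw [hM, mem_cj] at ha
    rw [mem_cj] at hb
    have h1 := D.comm ha hb
    calc a * b = g * (g⁻¹ * a * g * (g⁻¹ * b * g)) * g⁻¹ := by group
      _ = g * (g⁻¹ * b * g * (g⁻¹ * a * g)) * g⁻¹ := by rw [h1]
      _ = b * a := by group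
  -- `E` normalises `M`, `K1`, `K2`
  have hEM : ∀ e ∈ K1 ⊔ cj t K1, ∀ m ∈ M, e * m * e⁻¹ ∈ M := by
    have h1 : K1 ⊔ cj t K1 ≤ normalizer (M : Set G) := by
      rw [← hE]
      apply sup_le le_normalizer
      intro b hb
      rw [mem_normalizer_iff]
      intro a
      constructor
      · intro ha
        have : b * a * b⁻¹ = a := by rw [← hMM' a ha b hb]; group
        rw [this]; exact ha
      · intro ha
        have h2 := hMM' _ ha b hb
        have : b * a * b⁻¹ = a := by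
          have h3 : b * a = b * (b * a * b⁻¹) := by
            calc b * a = b * a * b⁻¹ * b := by group
              _ = b * (b * a * b⁻¹) := h2
          exact (mul_left_cancel h3).symm
        rw [this] at ha; exact ha
    intro e he m hm
    exact (mem_normalizer_iff.1 (h1 he) m).1 hm
  have hK1n : ∀ e ∈ K1 ⊔ cj t K1, ∀ k ∈ K1, e * k * e⁻¹ ∈ K1 := by
    have h1 : K1 ⊔ cj t K1 ≤ normalizer (K1 : Set G) := by
      apply sup_le le_normalizer
      intro b hb
      rw [mem_normalizer_iff]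
      intro a
      constructor
      · intro ha
        have : b * a * b⁻¹ = a := by rw [← D.comm ha hb]; group
        rw [this]; exact ha
      · intro ha
        have h2 := D.comm ha hb
        have : b * a * b⁻¹ = a := by
          have h3 : b * a = b * (b * a * b⁻¹) := by
            calc b * a = b * a * b⁻¹ * b := by group
              _ = b * (b * a * b⁻¹) := h2
          exact (mul_left_cancel h3).symm
        rw [this] at ha; exact ha
    intro e he k hk
    exact (mem_normalizer_iff.1 (h1 he) k).1 hk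
  have htE : cj t (K1 ⊔ cj t K1) = K1 ⊔ cj t K1 := by rw [hsup, D.cj_tt, sup_comm]
  -- the same for `t M t`
  have key : ∀ M₁ : Subgroup G, ⁅M₁, M₁⁆ = M₁ → M₁ ≤ K1 ⊔ cj t K1 → (∀ e ∈ K1 ⊔ cj t K1, ∀ m ∈ M₁, e * m * e⁻¹ ∈ M₁) →
      K1 ≤ M₁ ∨ ∀ m ∈ M₁, ∀ k ∈ K1, m * k = k * m := by
    intro M₁ h1 h2 h3
    rcases D.K1_simple (L := M₁ ⊓ K1) inf_le_right (fun k hk l hl =>
      ⟨h3 k (mem_sup_left hk) l hl.1, K1.mul_mem (K1.mul_mem hk hl.2) (K1.inv_mem hk)⟩) with h4 | h4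
    · right
      apply D.centralises_of_le h1 h2
      intro m hm k hk
      apply h4
      refine ⟨?_, ?_⟩
      · have : m * k * m⁻¹ * k⁻¹ = m * (k * m⁻¹ * k⁻¹) := by group
        show m * k * m⁻¹ * k⁻¹ ∈ M₁
        rw [this]
        exact mul_mem hm (h3 k (mem_sup_left hk) _ (inv_mem hm))
      · exact K1.mul_mem (hK1n m (h2 hm) k hk) (K1.inv_mem hk)
    · left
      rw [← h4]; exact inf_le_left
  have htM : ∀ e ∈ K1 ⊔ cj t K1, ∀ m ∈ cj t M, e * m * e⁻¹ ∈ cj t M := by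
    intro e he m hm
    rw [D.mem_cj_t] at hm ⊢
    have h1 : t * e * t ∈ K1 ⊔ cj t K1 := by
      rw [← D.mem_cj_t, htE]; exact he
    have h2 := hEM _ h1 _ hm
    have : t * (e * m * e⁻¹) * t = t * e * t * (t * m * t) * (t * e * t)⁻¹ := by
      have hti := D.tinv
      calc t * (e * m * e⁻¹) * t = t * e * m * e⁻¹ * t⁻¹ := by rw [hti]; group
        _ = t * e * (t * t) * m * (t * t) * e⁻¹ * t⁻¹ := by rw [D.tt]; group
        _ = t * e * t * (t * m * t) * (t * e⁻¹ * t⁻¹) := by group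
        _ = t * e * t * (t * m * t) * (t * e * t)⁻¹ := by
            congr 1
            rw [mul_inv_rev, mul_inv_rev, hti]; group
    rw [this]; exact h2
  have hcase : K1 ≤ M ∨ K1 ≤ cj t M := by
    rcases key M hMp hME hEM with h1 | h1
    · exact Or.inl h1
    · rcases key (cj t M) (by rw [cj_commutator, hMp]) (by rw [← htE]; exact cj_mono hME) htM with h2 | h2
      · exact Or.inr h2
      · -- `M` is central in `E`
        exfalso
        apply hMn
        rw [← hMp, commutator_eq_bot_iff_le_centralizer]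
        have h3 : K1 ⊔ cj t K1 ≤ centralizer (M : Set G) := by
          apply sup_le
          · intro k hk
            rw [mem_centralizer_iff]
            intro m hm
            exact h1 m hm k hk
          · intro k hk
            rw [mem_centralizer_iff]
            intro m hm
            rw [D.mem_cj_t] at hk
            have h4 := h2 (t * m * t) (by rw [D.mem_cj_t]; have : t * (t * m * t) * t = m := by
                                            calc t * (t * m * t) * t = t * t * m * (t * t) := by group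
                                              _ = m := by rw [D.tt]; group
                                          rw [this]; exact hm) _ hk
            calc m * k = t * t * m * (t * t) * k * (t * t) := by rw [D.tt]; group
              _ = t * (t * m * t * (t * k * t)) * t := by group
              _ = t * (t * k * t * (t * m * t)) * t := by rw [h4]
              _ = (t * t) * k * (t * t) * m * (t * t) := by group
              _ = k * m := by rw [D.tt]; group
        exact hME.trans h3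
  rcases hcase with h1 | h1
  · left
    have h2 : K1 = M := Subgroup.eq_of_le_of_card_ge h1 hcard1.le
    exact ⟨h2.symm, by rw [hM', ← h2]⟩
  · right
    have h2 : K1 = cj t M := Subgroup.eq_of_le_of_card_ge h1 (by rw [card_cj]; exact hcard1.le)
    have h3 : M = cj t K1 := by rw [h2, D.cj_tt]
    exact ⟨h3, by rw [hM', ← h2]⟩

end Swap

end AData

/-- the stabiliser of the pair `{K1, K2}` -/
def stab (t : G) (K1 : Subgroup G) : Subgroup G where
  carrier := {x | (cj x K1 = K1 ∧ cj x (cj t K1) = cj t K1) ∨ (cj x K1 = cj t K1 ∧ cj x (cj t K1) = K1)}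
  one_mem' := Or.inl ⟨cj_one _, cj_one _⟩
  mul_mem' := by
    rintro a b (⟨h1, h2⟩ | ⟨h1, h2⟩) (⟨h3, h4⟩ | ⟨h3, h4⟩)
    · exact Or.inl ⟨by rw [cj_mul, h3, h1], by rw [cj_mul, h4, h2]⟩
    · exact Or.inr ⟨by rw [cj_mul, h3, h2], by rw [cj_mul, h4, h1]⟩
    · exact Or.inr ⟨by rw [cj_mul, h3, h1], by rw [cj_mul, h4, h2]⟩
    · exact Or.inl ⟨by rw [cj_mul, h3, h2], by rw [cj_mul, h4, h1]⟩
  inv_mem' := by
    rintro a (⟨h1, h2⟩ | ⟨h1, h2⟩)
    · exact Or.inl ⟨by nth_rw 1 [← h1]; rw [cj_inv_cj], by nth_rw 1 [← h2]; rw [cj_inv_cj]⟩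
    · exact Or.inr ⟨by nth_rw 1 [← h2]; rw [cj_inv_cj], by nth_rw 1 [← h1]; rw [cj_inv_cj]⟩

theorem mem_stab_iff {t : G} {K1 : Subgroup G} {x : G} : x ∈ stab t K1 ↔
    (cj x K1 = K1 ∧ cj x (cj t K1) = cj t K1) ∨ (cj x K1 = cj t K1 ∧ cj x (cj t K1) = K1) := Iff.rfl

open Classical in
/-- the sign of the action on the pair -/
noncomputable def sign (t : G) (K1 : Subgroup G) (hne : K1 ≠ cj t K1) : stab t K1 →* ℤˣ where
  toFun x := if cj (x : G) K1 = K1 then 1 else -1
  map_one' := if_pos (cj_one _)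
  map_mul' := by
    rintro ⟨a, ha⟩ ⟨b, hb⟩
    show (if cj (a * b) K1 = K1 then (1 : ℤˣ) else -1) = (if cj a K1 = K1 then 1 else -1) * (if cj b K1 = K1 then 1 else -1)
    have hn : ∀ x : G, cj x K1 = cj t K1 → ¬ cj x K1 = K1 := fun x h h' => hne (h'.symm.trans h)
    rcases ha with ⟨h1, h2⟩ | ⟨h1, h2⟩ <;> rcases hb with ⟨h3, h4⟩ | ⟨h3, h4⟩
    · have e : cj (a * b) K1 = K1 := by rw [cj_mul, h3, h1]
      rw [if_pos h1, if_pos h3, if_pos e, one_mul]
    · have e : cj (a * b) K1 = cj t K1 := by rw [cj_mul, h3, h2]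
      rw [if_pos h1, if_neg (hn _ h3), if_neg (hn _ e), one_mul]
    · have e : cj (a * b) K1 = cj t K1 := by rw [cj_mul, h3, h1]
      rw [if_neg (hn _ h1), if_pos h3, if_neg (hn _ e), mul_one]
    · have e : cj (a * b) K1 = K1 := by rw [cj_mul, h3, h2]
      rw [if_neg (hn _ h1), if_neg (hn _ h3), if_pos e]
      rfl

open Classical in
theorem sign_apply {t : G} {K1 : Subgroup G} (hne : K1 ≠ cj t K1) (x : stab t K1) :
    sign t K1 hne x = if cj (x : G) K1 = K1 then 1 else -1 := rfl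

namespace AData

variable {t : G} {K K1 X W : Subgroup G} (D : AData t K K1 X W)

include D

theorem t_mem : t ∈ stab t K1 := Or.inr ⟨rfl, D.cj_tt _⟩

theorem sign_t : sign t K1 D.ne ⟨t, D.t_mem⟩ = -1 := by
  classical
  rw [sign_apply, if_neg]
  exact D.ne.symm

/-- **Case A**: the transfer of the sign at `t` is `-1`. -/
theorem transfer_eq [Finite G] : MonoidHom.transfer (sign t K1 D.ne) t = -1 := by
  classical
  have := Fintype.ofFinite (G ⧸ stab t K1)
  obtain ⟨f, hf, hprod⟩ := StdL3.OneParity.transfer_eq_prod_fixed (stab t K1) (sign t K1 D.ne) t D.tt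
  rw [hprod]
  have hmem : ∀ g : G, t • (g : G ⧸ stab t K1) = g → g⁻¹ * t * g ∈ stab t K1 := by
    intro g hq
    rw [MulAction.Quotient.smul_mk, smul_eq_mul, QuotientGroup.eq] at hq
    have h2 := (stab t K1).inv_mem hq
    have e2 : ((t * g)⁻¹ * g)⁻¹ = g⁻¹ * t * g := by group
    rw [e2] at h2; exact h2
  have h1 : ((1 : G) : G ⧸ stab t K1) ∈ Finset.univ.filter (fun q : G ⧸ stab t K1 => t • q = q) := by
    rw [Finset.mem_filter]
    refine ⟨Finset.mem_univ _, ?_⟩
    rw [MulAction.Quotient.smul_mk, smul_eq_mul, QuotientGroup.eq]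
    have : (t * 1)⁻¹ * 1 = t⁻¹ := by group
    rw [this]; exact inv_mem D.t_mem
  rw [Finset.prod_eq_single ((1 : G) : G ⧸ stab t K1)]
  · have h2 : (1 : G)⁻¹ * t * 1 ∈ stab t K1 := by
      have : (1 : G)⁻¹ * t * 1 = t := by group
      rw [this]; exact D.t_mem
    rw [hf _ 1 rfl h2, ← D.sign_t]
    congr 1
    apply Subtype.ext
    show (1 : G)⁻¹ * t * 1 = t
    group
  · intro q hq hq1
    rw [Finset.mem_filter] at hq
    obtain ⟨g, rfl⟩ := QuotientGroup.mk_surjective q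
    have h3 := hmem g hq.2
    rw [hf _ g rfl h3, sign_apply]
    rw [if_pos]
    by_contra hcon
    apply hq1
    have hsw : cj (g⁻¹ * t * g) K1 = cj t K1 := by
      rcases h3 with h4 | h4
      · exact absurd h4.1 hcon
      · exact h4.1
    have h5 := D.mem_stab (g := g) rfl hsw
    rw [QuotientGroup.eq, mul_one]
    exact (stab t K1).inv_mem h5
  · intro h; exact absurd h1 h

theorem false_of_perfect [Finite G] (hG : commutator G = ⊤) : False := by
  have h1 := D.transfer_eq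
  rw [TFormula.hom_eq_one hG] at h1
  exact absurd h1 (by decide)

end AData

end Cfsg.Agent.OddHalf.D7End.CaseA

end

-- merged: Cfsg.Agent.OddHalf.D7End.Half
section

/-!
# Case A from one half of the doubled root group (helper163, bb ODD 9501)

`W` is the doubled root group of `X ≤ K`, `A ≤ W` a half of it: `|A|² = |W|`, `A ∩ A^t = 1`, such that all `K`-conjugates
of `A` commute with all `K`-conjugates of `A^t`. No frame: the theorem applies to every `K` generated by the conjugates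
of `X`.
-/

set_option autoImplicit false
set_option linter.unusedSectionVars false

namespace Cfsg.Agent.OddHalf.D7End.Half

open Subgroup Cfsg.Agent.OddHalf.D7End.CaseA
open scoped commutatorElement

variable {G : Type*} [Group G]

/-- the subgroup generated by the `K`-conjugates of `A` -/
def span (K A : Subgroup G) : Subgroup G := ⨆ k : K, cj (k : G) A

theorem cj_le_span {K A : Subgroup G} {k : G} (hk : k ∈ K) : cj k A ≤ span K A :=
  le_iSup (fun k : K => cj (k : G) A) ⟨k, hk⟩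

theorem le_span {K A : Subgroup G} : A ≤ span K A := by
  have := cj_le_span (A := A) (one_mem K)
  rwa [cj_one] at this

theorem span_le {K A H : Subgroup G} (h : ∀ k ∈ K, cj k A ≤ H) : span K A ≤ H :=
  iSup_le fun k => h k k.2

theorem cj_span {K A : Subgroup G} {k : G} (hk : k ∈ K) : cj k (span K A) ≤ span K A := by
  have h1 : span K A ≤ cj k⁻¹ (span K A) := by
    refine span_le fun l hl => ?_
    have h2 := cj_mono (g := k⁻¹) (cj_le_span (A := A) (mul_mem hk hl))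
    rwa [← cj_mul, inv_mul_cancel_left] at h2
  have h2 := cj_mono (g := k) h1
  rwa [cj_cj_inv] at h2

/-- the hypotheses -/
structure Hyp (t : G) (K X W A : Subgroup G) : Prop where
  tt : t * t = 1
  Kt : ∀ x ∈ K, x * t = t * x
  cK : ∀ c, c * t = t * c → (∀ x ∈ K, x * c = c * x) → c = 1 ∨ c = t
  tK : t ∉ K
  simp : ∀ L ≤ K, (∀ k ∈ K, ∀ l ∈ L, k * l * k⁻¹ ∈ L) → L = ⊥ ∨ L = K
  perf : ∀ P : Subgroup G, ⁅P, P⁆ = P → (∀ x ∈ P, x * t = t * x) → P ≤ K
  XK : X ≤ K
  X1 : X ≠ ⊥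
  Xsq : ∀ x ∈ X, x * x = 1
  /-- `K` is generated by the conjugates of `X` -/
  gen : K ≤ span K X
  cardW : Nat.card W = Nat.card X * Nat.card X
  can : ∀ V : Subgroup G, (∀ v ∈ V, v * v = 1) →
    (∀ v ∈ V, ∀ k ∈ K, (∀ x ∈ X, k * x = x * k) → k * v = v * k) →
    (∀ v ∈ V, v⁻¹ * (t * v * t) ∈ X) → t ∉ V → Nat.card V = Nat.card W → V = W
  Wab : ∀ v ∈ W, ∀ w ∈ W, v * w = w * v
  Wt : ∀ w ∈ W, t * w * t ∈ W
  XW : X ≤ W
  AW : A ≤ W
  inf : ∀ a ∈ A, t * a * t ∈ A → a = 1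
  card : Nat.card A * Nat.card A = Nat.card W
  comm : ∀ k ∈ K, ∀ l ∈ K, ∀ a ∈ A, ∀ b ∈ A,
    (k * a * k⁻¹) * (l * (t * b * t) * l⁻¹) = (l * (t * b * t) * l⁻¹) * (k * a * k⁻¹)
  perfA : A ≤ ⁅span K A, span K A⁆

namespace Hyp

variable {t : G} {K X W A : Subgroup G} (D : Hyp t K X W A)

include D

theorem tinv : t⁻¹ = t := inv_eq_of_mul_eq_one_left D.tt

/-- `W = A A^t` -/
theorem exists_mul [Finite G] {w : G} (hw : w ∈ W) : ∃ a ∈ A, ∃ b ∈ A, w = a * (t * b * t) := by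
  let f : A × A → W := fun p => ⟨p.1 * (t * p.2 * t), mul_mem (D.AW p.1.2) (D.Wt _ (D.AW p.2.2))⟩
  have hf : Function.Injective f := by
    rintro ⟨a, b⟩ ⟨c, d⟩ h
    have h1 : (a : G) * (t * b * t) = c * (t * d * t) := congrArg Subtype.val h
    have h2 : (c : G)⁻¹ * a = t * (d * (b : G)⁻¹) * t := by
      rw [inv_mul_eq_iff_eq_mul]
      calc (a : G) = a * (t * b * t) * (t * b * t)⁻¹ := by group
        _ = c * (t * d * t) * (t * b * t)⁻¹ := by rw [h1]
        _ = c * (t * (d * (b : G)⁻¹) * t⁻¹) := by group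
        _ = c * (t * (d * (b : G)⁻¹) * t) := by rw [D.tinv]
    have h3 : (d : G) * (b : G)⁻¹ = 1 := by
      apply D.inf _ (mul_mem d.2 (inv_mem b.2))
      rw [← h2]
      exact mul_mem (inv_mem c.2) a.2
    rw [h3, mul_one, D.tt, inv_mul_eq_one] at h2
    exact Prod.ext (Subtype.ext h2.symm) (Subtype.ext (mul_inv_eq_one.1 h3).symm)
  have hcard : Nat.card (A × A) = Nat.card W := by rw [Nat.card_prod, D.card]
  have hb := (Nat.bijective_iff_injective_and_card f).2 ⟨hf, hcard⟩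
  obtain ⟨⟨a, b⟩, h⟩ := hb.2 ⟨w, hw⟩
  exact ⟨a, a.2, b, b.2, (congrArg Subtype.val h).symm⟩

theorem comm_span {a b : G} (ha : a ∈ span K A) (hb : b ∈ span K A) : a * (t * b * t) = t * b * t * a := by
  have hKt : ∀ l ∈ K, t * l = l * t := fun l hl => (D.Kt l hl).symm
  -- the elements of `cj k A` commute with the `t b t`, `b ∈ span`
  have h1 : ∀ k ∈ K, ∀ a ∈ A, ∀ b ∈ span K A, (k * a * k⁻¹) * (t * b * t) = (t * b * t) * (k * a * k⁻¹) := by
    intro k hk a ha
    have h2 : span K A ≤ (centralizer ({k * a * k⁻¹} : Set G)).comap (MulAut.conj t).toMonoidHom := by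
      refine span_le fun l hl => ?_
      rintro _ ⟨b, hb, rfl⟩
      rw [mem_comap, mem_centralizer_singleton_iff]
      show t * (l * b * l⁻¹) * t⁻¹ * (k * a * k⁻¹) = k * a * k⁻¹ * (t * (l * b * l⁻¹) * t⁻¹)
      have e : t * (l * b * l⁻¹) * t⁻¹ = l * (t * b * t) * l⁻¹ := by
        have e1 : l⁻¹ * t = t * l⁻¹ := by rw [inv_mul_eq_iff_eq_mul, ← mul_assoc, ← hKt l hl, mul_assoc, mul_inv_cancel, mul_one]
        rw [D.tinv]
        calc t * (l * b * l⁻¹) * t = (t * l) * b * (l⁻¹ * t) := by group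
          _ = (l * t) * b * (t * l⁻¹) := by rw [hKt l hl, e1]
          _ = l * (t * b * t) * l⁻¹ := by group
      rw [e]
      exact (D.comm k hk l hl a ha b hb).symm
    intro b hb
    have h3 := h2 hb
    rw [mem_comap, mem_centralizer_singleton_iff] at h3
    have h4 : t * b * t⁻¹ * (k * a * k⁻¹) = k * a * k⁻¹ * (t * b * t⁻¹) := h3
    rw [D.tinv] at h4
    exact h4.symm
  have h2 : span K A ≤ centralizer ({t * b * t} : Set G) := by
    refine span_le fun k hk => ?_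
    rintro _ ⟨c, hc, rfl⟩
    rw [mem_centralizer_singleton_iff]
    exact h1 k hk c hc b hb
  exact mem_centralizer_singleton_iff.1 (h2 ha)

/-- **Case A.** -/
theorem aData [Finite G] : AData t K (span K A) X W where
  tt := D.tt
  Kt := D.Kt
  cK := D.cK
  tK := D.tK
  simp := D.simp
  perf := D.perf
  K1p := by
    apply le_antisymm
    · rw [commutator_le]
      intro a ha b hb
      rw [commutatorElement_def]
      exact mul_mem (mul_mem (mul_mem ha hb) (inv_mem ha)) (inv_mem hb)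
    · refine span_le fun k hk => ?_
      have h1 : cj k (span K A) = span K A := by
        apply le_antisymm (cj_span hk)
        have h2 := cj_mono (g := k) (cj_span (A := A) (inv_mem hk))
        rwa [cj_cj_inv] at h2
      calc cj k A ≤ cj k ⁅span K A, span K A⁆ := cj_mono D.perfA
        _ = ⁅cj k (span K A), cj k (span K A)⁆ := (cj_commutator k _).symm
        _ = ⁅span K A, span K A⁆ := by rw [h1]
  K1n := by
    intro h
    have h1 : A = ⊥ := by
      rw [eq_bot_iff, ← h]; exact le_span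
    have h2 := D.card
    rw [h1, card_bot, D.cardW] at h2
    have h3 : Nat.card X = 1 := Nat.eq_one_of_mul_eq_one_right h2.symm
    exact D.X1 (card_eq_one.1 h3)
  K12 a ha b hb := D.comm_span ha hb
  K1K := by
    -- the set of all `k (t k t)` is a subgroup
    let H : Subgroup G :=
      { carrier := {x | ∃ k ∈ span K A, x = k * (t * k * t)}
        one_mem' := ⟨1, one_mem _, by rw [mul_one, D.tt, one_mul]⟩
        mul_mem' := by
          rintro _ _ ⟨a, ha, rfl⟩ ⟨b, hb, rfl⟩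
          refine ⟨a * b, mul_mem ha hb, ?_⟩
          have h1 := D.comm_span hb ha
          calc a * (t * a * t) * (b * (t * b * t)) = a * ((t * a * t) * b) * (t * b * t) := by group
            _ = a * (b * (t * a * t)) * (t * b * t) := by rw [h1]
            _ = a * b * (t * a * (t * t) * b * t) := by group
            _ = a * b * (t * (a * b) * t) := by rw [D.tt]; group
        inv_mem' := by
          rintro _ ⟨a, ha, rfl⟩
          refine ⟨a⁻¹, inv_mem ha, ?_⟩
          have h1 := D.comm_span ha ha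
          rw [h1, mul_inv_rev]
          calc a⁻¹ * (t * a * t)⁻¹ = a⁻¹ * (t⁻¹ * a⁻¹ * t⁻¹) := by group
            _ = a⁻¹ * (t * a⁻¹ * t) := by rw [D.tinv] }
    have hinv : ∀ k ∈ K, ∀ x ∈ H, k * x * k⁻¹ ∈ H := by
      rintro k hk _ ⟨a, ha, rfl⟩
      refine ⟨k * a * k⁻¹, cj_span hk (cj_mem ha), ?_⟩
      have hkt := D.Kt k hk
      have e1 : k⁻¹ * t = t * k⁻¹ := by rw [inv_mul_eq_iff_eq_mul, ← mul_assoc, hkt, mul_inv_cancel_right]
      calc k * (a * (t * a * t)) * k⁻¹ = k * a * (t * a * (t * k⁻¹)) := by group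
        _ = k * a * (t * a * (k⁻¹ * t)) := by rw [e1]
        _ = k * a * k⁻¹ * ((k * t) * a * k⁻¹ * t) := by group
        _ = k * a * k⁻¹ * ((t * k) * a * k⁻¹ * t) := by rw [hkt]
        _ = k * a * k⁻¹ * (t * (k * a * k⁻¹) * t) := by group
    have hX : X ≤ H := by
      intro x hx
      obtain ⟨a, ha, b, hb, e⟩ := D.exists_mul (D.XW hx)
      -- `x` commutes with `t`
      have hxt := D.Kt x (D.XK hx)
      have h1 : a * (t * b * t) = b * (t * a * t) := by
        have h2 : t * x * t = x := by rw [← hxt, mul_assoc, D.tt, mul_one]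
        have h3 : t * x * t = (t * a * t) * b := by
          rw [e]
          calc t * (a * (t * b * t)) * t = (t * a * t) * b * (t * t) := by group
            _ = _ := by rw [D.tt, mul_one]
        rw [← e, ← h2, h3]
        exact (D.Wab _ (D.Wt _ (D.AW ha)) _ (D.AW hb))
      have h2 : b⁻¹ * a = t * (a * b⁻¹) * t := by
        rw [inv_mul_eq_iff_eq_mul]
        calc a = a * (t * b * t) * (t * b * t)⁻¹ := by group
          _ = b * (t * a * t) * (t * b * t)⁻¹ := by rw [h1]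
          _ = b * (t * (a * b⁻¹) * t⁻¹) := by group
          _ = b * (t * (a * b⁻¹) * t) := by rw [D.tinv]
      have h3 : a * b⁻¹ = 1 := by
        apply D.inf _ (mul_mem ha (inv_mem hb))
        rw [← h2]
        exact mul_mem (inv_mem hb) ha
      have h4 : a = b := mul_inv_eq_one.1 h3
      exact ⟨a, le_span ha, by rw [e, ← h4]⟩
    intro x hx
    have h1 : span K X ≤ H := by
      refine span_le fun k hk => ?_
      rintro _ ⟨y, hy, rfl⟩
      exact hinv k hk y (hX hy)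
    exact h1 (D.gen hx)
  XK := D.XK
  X1 := D.X1
  Xsq := D.Xsq
  WE := by
    intro w hw
    obtain ⟨a, ha, b, hb, rfl⟩ := D.exists_mul hw
    refine mul_mem (mem_sup_left (le_span ha)) (mem_sup_right ?_)
    rw [mem_cj, D.tinv]
    have e : t * (t * b * t) * t = b := by
      calc t * (t * b * t) * t = (t * t) * b * (t * t) := by group
        _ = b := by rw [D.tt, one_mul, mul_one]
    rw [e]
    exact le_span hb
  EW := by
    intro H hH
    refine span_le fun k hk => ?_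
    rintro _ ⟨a, ha, rfl⟩
    exact hH k hk a (D.AW ha)
  cardW := D.cardW
  can := D.can

/-- **Case A does not occur in a perfect group.** -/
theorem false_of_perfect [Finite G] (hG : commutator G = ⊤) : False := D.aData.false_of_perfect hG

end Hyp

end Cfsg.Agent.OddHalf.D7End.Half

end

-- merged: Cfsg.Agent.OddHalf.D7End.Canon
section

/-!
# The doubled root groups are canonical (helper163, bb ODD 9501 (f1))

`Can t B Φ X V` : the doubled root groups `V` of the root groups `X`, with (K1). If `n` centralises `Q_r` and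
`[n, t] ∈ X r` then `n ∈ V r` or `t n ∈ V r`. So every element of `C(t)` which permutes the root groups permutes the
doubled root groups.
-/

set_option autoImplicit false
set_option linter.unusedSectionVars false

namespace Cfsg.Agent.OddHalf.D7End.Canon

open Cfsg.Agent.OddHalf.SL.Defs

variable {L : Type*} [AddCommGroup L] {G : Type*} [Group G]

/-- the doubled root groups, with (K1) -/
structure Can (t : G) (B : L → L → ℤ) (Φ : Set L) (X V : L → Subgroup G) : Prop where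
  roots : Roots B Φ
  dbl : Dbl t B Φ X V
  tX : ∀ r ∈ Φ, t ∉ X r
  K1 : ∀ r ∈ Φ, ∀ c, c * t = t * c → (∀ a ∈ Φ, 1 ≤ B a r → ∀ x ∈ X a, c * x = x * c) →
    c ∈ X r ∨ t * c ∈ X r

namespace Can

variable {t : G} {B : L → L → ℤ} {Φ : Set L} {X V : L → Subgroup G} (D : Can t B Φ X V)

include D

theorem tt : t * t = 1 := D.dbl.tt

theorem tinv : t⁻¹ = t := inv_eq_of_mul_eq_one_left D.tt

theorem inv_eq {r : L} (hr : r ∈ Φ) {v : G} (hv : v ∈ V r) : v⁻¹ = v :=
  inv_eq_of_mul_eq_one_left (D.dbl.sq r hr v hv)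

theorem comm {r : L} (hr : r ∈ Φ) {v w : G} (hv : v ∈ V r) (hw : w ∈ V r) : v * w = w * v := by
  apply D.dbl.pos r hr r hr _ v hv w hw
  rw [D.roots.two r hr]; norm_num

/-- `V r` centralises `X a` for `(a, r) ≥ 0` -/
theorem VX {r a : L} (hr : r ∈ Φ) (ha : a ∈ Φ) (h : 0 ≤ B a r) {v x : G} (hv : v ∈ V r) (hx : x ∈ X a) :
    v * x = x * v :=
  (D.dbl.pos a ha r hr h x (D.dbl.XW a ha hx) v hv).symm

/-- **(f1)** -/
theorem mem {r : L} (hr : r ∈ Φ) {n : G} (hn : ∀ a ∈ Φ, 1 ≤ B a r → ∀ x ∈ X a, n * x = x * n)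
    (hb : n⁻¹ * (t * n * t) ∈ X r) : n ∈ V r ∨ t * n ∈ V r := by
  obtain ⟨w, hw, hwx⟩ := D.dbl.surj r hr _ hb
  -- `c = n w⁻¹` commutes with `t`
  set x := n⁻¹ * (t * n * t) with hx
  have e1 : t * n * t = n * x := by rw [hx]; group
  have e2 : t * w * t = w * x := by rw [← hwx]; group
  have hct : n * w⁻¹ * t = t * (n * w⁻¹) := by
    have e3 : t * (n * w⁻¹) * t = n * w⁻¹ := by
      calc t * (n * w⁻¹) * t = t * n * (t * t) * w⁻¹ * t := by rw [D.tt]; group
        _ = (t * n * t) * (t * w⁻¹ * t) := by group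
        _ = (t * n * t) * (t⁻¹ * w * t⁻¹)⁻¹ := by group
        _ = (t * n * t) * (t * w * t)⁻¹ := by rw [D.tinv]
        _ = n * x * (w * x)⁻¹ := by rw [e1, e2]
        _ = n * w⁻¹ := by group
    calc n * w⁻¹ * t = t * (n * w⁻¹) * t * t := by rw [e3]
      _ = t * (n * w⁻¹) * (t * t) := by group
      _ = t * (n * w⁻¹) := by rw [D.tt, mul_one]
  have h1 := D.K1 r hr (n * w⁻¹) hct (by
    intro a ha h y hy
    have h2 := D.VX hr ha (by omega) hw hy
    have h3 : w⁻¹ * y = y * w⁻¹ := by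
      rw [inv_mul_eq_iff_eq_mul, ← mul_assoc, h2, mul_inv_cancel_right]
    rw [mul_assoc, h3, ← mul_assoc, hn a ha h y hy, mul_assoc])
  rcases h1 with h1 | h1
  · left
    have h2 := (V r).mul_mem (D.dbl.XW r hr h1) hw
    rwa [inv_mul_cancel_right] at h2
  · right
    have h2 := (V r).mul_mem (D.dbl.XW r hr h1) hw
    rwa [← mul_assoc, inv_mul_cancel_right] at h2

/-- an involution `t v`, `v ∈ V r`, has `v ∈ X r` -/
theorem mem_X {r : L} (hr : r ∈ Φ) {v : G} (hv : v ∈ V r) (h : t * v * (t * v) = 1) : v ∈ X r := by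
  rw [← D.dbl.cent r hr v hv]
  have h1 : t * v = (t * v)⁻¹ := eq_inv_of_mul_eq_one_left h
  rw [h1, mul_inv_rev, D.inv_eq hr hv, D.tinv]

/-- An element of `C(t)` mapping the root groups to root groups maps the doubled root groups to doubled root groups. -/
theorem conj {r s : L} (hr : r ∈ Φ) (hs : s ∈ Φ) {y : G} (hy : y * t = t * y)
    (hX : ∀ x ∈ X r, y * x * y⁻¹ ∈ X s)
    (hQ : ∀ b ∈ Φ, 1 ≤ B b s → ∃ a ∈ Φ, 0 ≤ B a r ∧ ∀ x ∈ X b, y⁻¹ * x * y ∈ X a) {v : G} (hv : v ∈ V r) :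
    y * v * y⁻¹ ∈ V s := by
  have hyi : y⁻¹ * t = t * y⁻¹ := by rw [inv_mul_eq_iff_eq_mul, ← mul_assoc, hy, mul_inv_cancel_right]
  have key : ∀ v ∈ V r, y * v * y⁻¹ ∈ V s ∨ t * (y * v * y⁻¹) ∈ V s := by
    intro v hv
    apply D.mem hs
    · intro b hb h x hx
      obtain ⟨a, ha, h0, h1⟩ := hQ b hb h
      have h2 := D.VX hr ha h0 hv (h1 x hx)
      calc y * v * y⁻¹ * x = y * (v * (y⁻¹ * x * y)) * y⁻¹ := by group
        _ = y * (y⁻¹ * x * y * v) * y⁻¹ := by rw [h2]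
        _ = x * (y * v * y⁻¹) := by group
    · have h1 := hX _ (D.dbl.brk r hr v hv)
      have e : (y * v * y⁻¹)⁻¹ * (t * (y * v * y⁻¹) * t) = y * (v⁻¹ * (t * v * t)) * y⁻¹ := by
        calc (y * v * y⁻¹)⁻¹ * (t * (y * v * y⁻¹) * t) = y * v⁻¹ * y⁻¹ * ((t * y) * v * (y⁻¹ * t)) := by group
          _ = y * v⁻¹ * y⁻¹ * ((y * t) * v * (t * y⁻¹)) := by rw [hyi, hy]
          _ = y * (v⁻¹ * (t * v * t)) * y⁻¹ := by group
      rw [e]; exact h1
  rcases key v hv with h1 | h1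
  · exact h1
  · -- `t y v y⁻¹ ∈ V s`: then `v ∈ X r`, hence `t ∈ X s`
    exfalso
    have hvv := D.dbl.sq r hr v hv
    have h2 : t * (y * v * y⁻¹) ∈ X s := by
      apply D.mem_X hs h1
      have e : t * (t * (y * v * y⁻¹)) = y * v * y⁻¹ := by rw [← mul_assoc, D.tt, one_mul]
      rw [e]
      calc y * v * y⁻¹ * (y * v * y⁻¹) = y * (v * v) * y⁻¹ := by group
        _ = 1 := by rw [hvv]; group
    have h3 := (D.dbl.cent s hs _ h1).2 h2
    -- `y v y⁻¹` commutes with `t`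
    have h4 : y * v * y⁻¹ * t = t * (y * v * y⁻¹) := by
      rw [← mul_assoc t t, D.tt, one_mul] at h3
      have h5 : t * (y * v * y⁻¹) * t = y * v * y⁻¹ := h3.symm
      calc y * v * y⁻¹ * t = t * (y * v * y⁻¹) * t * t := by rw [h5]
        _ = t * (y * v * y⁻¹) * (t * t) := by group
        _ = t * (y * v * y⁻¹) := by rw [D.tt, mul_one]
    have h5 : t * v = v * t := by
      have : t * v = y⁻¹ * (t * (y * v * y⁻¹)) * y := by
        calc t * v = (t * y⁻¹) * y * v * y⁻¹ * y := by group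
          _ = (y⁻¹ * t) * y * v * y⁻¹ * y := by rw [hyi]
          _ = y⁻¹ * (t * (y * v * y⁻¹)) * y := by group
      rw [this, ← h4]
      calc y⁻¹ * (y * v * y⁻¹ * t) * y = v * (y⁻¹ * t) * y := by group
        _ = v * (t * y⁻¹) * y := by rw [hyi]
        _ = v * t := by group
    have h6 := hX v ((D.dbl.cent r hr v hv).1 h5)
    have h7 := (X s).mul_mem h2 ((X s).inv_mem h6)
    rw [mul_inv_cancel_right] at h7
    exact D.tX s hs h7

theorem card_V [Finite G] {r : L} (hr : r ∈ Φ) : Nat.card (V r) = Nat.card (X r) * Nat.card (X r) := by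
  let f : V r →* G :=
    { toFun := fun w => (w : G)⁻¹ * (t * w * t)
      map_one' := by
        show (1 : G)⁻¹ * (t * 1 * t) = 1
        rw [mul_one, D.tt, inv_one, mul_one]
      map_mul' := fun a b => by
        show ((a : G) * b)⁻¹ * (t * (a * b) * t) = (a : G)⁻¹ * (t * a * t) * ((b : G)⁻¹ * (t * b * t))
        have hb1 := D.dbl.conj_t r hr _ b.2
        have ha1 := D.dbl.conj_t r hr _ a.2
        have e1 : (b : G)⁻¹ * ((a : G)⁻¹ * (t * a * t)) = (a : G)⁻¹ * (t * a * t) * (b : G)⁻¹ :=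
          D.comm hr ((V r).inv_mem b.2) ((V r).mul_mem ((V r).inv_mem a.2) ha1)
        calc ((a : G) * b)⁻¹ * (t * (a * b) * t) = (b : G)⁻¹ * (a : G)⁻¹ * (t * a * 1 * b * t) := by group
          _ = (b : G)⁻¹ * (a : G)⁻¹ * (t * a * (t * t) * b * t) := by rw [D.tt]
          _ = (b : G)⁻¹ * ((a : G)⁻¹ * (t * a * t)) * (t * b * t) := by group
          _ = (a : G)⁻¹ * (t * a * t) * (b : G)⁻¹ * (t * b * t) := by rw [e1]
          _ = _ := by group }
  have hrange : f.range = X r := by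
    apply le_antisymm
    · rintro _ ⟨w, rfl⟩
      exact D.dbl.brk r hr _ w.2
    · intro x hx
      obtain ⟨w, hw, e⟩ := D.dbl.surj r hr x hx
      exact ⟨⟨w, hw⟩, e⟩
  have hker : f.ker = (X r).subgroupOf (V r) := by
    ext w
    rw [MonoidHom.mem_ker, Subgroup.mem_subgroupOf, ← D.dbl.cent r hr _ w.2]
    show (w : G)⁻¹ * (t * w * t) = 1 ↔ t * (w : G) = w * t
    rw [inv_mul_eq_one]
    constructor
    · intro h
      calc t * (w : G) = t * w * t * t := by rw [mul_assoc (t * (w : G)), D.tt, mul_one]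
        _ = w * t := by rw [← h]
    · intro h
      rw [h, mul_assoc, D.tt, mul_one]
  have h5 := Subgroup.card_mul_index f.ker
  rw [Subgroup.index_ker, hrange, hker,
    Nat.card_congr (Subgroup.subgroupOfEquivOfLe (D.dbl.XW r hr)).toEquiv] at h5
  exact h5.symm

/-- **(f1)** `V r` is characterised by `t`, `X r`, `Q_r`. -/
theorem eq_V [Finite G] {r : L} (hr : r ∈ Φ) {P : Subgroup G} (h2 : ∀ v ∈ P, v * v = 1)
    (hn : ∀ v ∈ P, ∀ a ∈ Φ, 1 ≤ B a r → ∀ x ∈ X a, v * x = x * v)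
    (hb : ∀ v ∈ P, v⁻¹ * (t * v * t) ∈ X r) (ht : t ∉ P) (hc : Nat.card P = Nat.card (V r)) : P = V r := by
  have hcomm : ∀ a ∈ P, ∀ b ∈ P, a * b = b * a := by
    intro a ha b hb
    have e1 := h2 (a * b) (mul_mem ha hb)
    have e2 := h2 a ha
    have e3 := h2 b hb
    calc a * b = a * ((a * b) * (a * b)) * b := by rw [e1, mul_one]
      _ = (a * a) * (b * a) * (b * b) := by group
      _ = b * a := by rw [e2, e3, one_mul, mul_one]
  have key : ∀ v ∈ P, v ∈ V r ∨ t * v ∈ X r := by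
    intro v hv
    rcases D.mem hr (hn v hv) (hb v hv) with h | h
    · exact Or.inl h
    · right
      apply D.mem_X hr h
      have e : t * (t * v) = v := by rw [← mul_assoc, D.tt, one_mul]
      rw [e]
      exact h2 v hv
  by_cases hall : ∀ v ∈ P, v ∈ V r
  · exact Subgroup.eq_of_le_of_card_ge hall hc.ge
  · exfalso
    push Not at hall
    obtain ⟨v₀, hv₀, hv₀'⟩ := hall
    have h0 : t * v₀ ∈ X r := (key v₀ hv₀).resolve_left hv₀'
    -- every element of `P ⊓ V r` lies in `X r`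
    have h3 : ∀ v ∈ P, v ∈ V r → v ∈ X r := by
      intro v hv hvV
      rw [← D.dbl.cent r hr v hvV]
      have h4 := hcomm v hv v₀ hv₀
      have h5 := D.comm hr hvV (D.dbl.XW r hr h0)
      -- `v (t v₀) = (t v₀) v`
      have h6 : v * t * v₀ = t * v * v₀ := by
        calc v * t * v₀ = v * (t * v₀) := by group
          _ = t * v₀ * v := h5
          _ = t * (v₀ * v) := by group
          _ = t * (v * v₀) := by rw [h4]
          _ = t * v * v₀ := by group
      exact (mul_right_cancel h6).symm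
    -- so `P ≤ X r ∪ t X r`, and `P` has the order of `V r`
    have h4 : ∀ v ∈ P, v ∈ X r ∨ t * v ∈ X r := fun v hv => (key v hv).imp (h3 v hv) id
    have hcard := (D.card_V hr).symm
    -- `P ∩ X r` has index 2 in `P`
    have h5 : Nat.card P ≤ 2 * Nat.card (X r) := by
      classical
      have h6 : Function.Injective (fun v : P => (if h : (v : G) ∈ X r then ((0 : Fin 2), (⟨v, h⟩ : X r))
          else (1, ⟨t * v, (h4 v v.2).resolve_left h⟩) : Fin 2 × X r)) := by
        intro a b hab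
        dsimp only at hab
        split_ifs at hab with ha hb hb
        · have h7 := congrArg (fun q => ((q.2 : X r) : G)) hab
          exact Subtype.ext h7
        · exact absurd (congrArg Prod.fst hab) (by simp)
        · exact absurd (congrArg Prod.fst hab) (by simp)
        · have h7 := congrArg (fun q => ((q.2 : X r) : G)) hab
          exact Subtype.ext (mul_left_cancel h7)
      have h7 := Nat.card_le_card_of_injective _ h6
      rwa [Nat.card_prod, Nat.card_fin] at h7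
    -- `|X| ≤ 2`
    have h6 : Nat.card (X r) ≤ 2 := by
      rw [hc, ← hcard] at h5
      exact Nat.le_of_mul_le_mul_right h5 Nat.card_pos
    -- `X r ≤ P`: `|P| = |X|²`, so `|P ∩ X| ≥ |X|² / 2`
    have h7 : t * v₀ ≠ 1 := by
      intro h8
      apply ht
      have : t = v₀ := by
        have h9 := mul_eq_one_iff_eq_inv.1 h8
        rw [h9]; exact inv_eq_of_mul_eq_one_left (h2 v₀ hv₀)
      rw [this]; exact hv₀
    have h8 : Nat.card (X r) = 2 := by
      have h9 : 1 < Nat.card (X r) := by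
        have : Nontrivial (X r) := ⟨⟨t * v₀, h0⟩, 1, fun e => h7 (congrArg Subtype.val e)⟩
        exact Finite.one_lt_card
      omega
    -- `P` has order four, so there is `v ∈ P`, `v ≠ 1, v₀`; `v` or `v v₀` lies in `X r`
    have h9 : Nat.card P = 4 := by rw [hc, ← hcard, h8]
    obtain ⟨v, hv, hv1, hv2⟩ : ∃ v ∈ P, v ≠ 1 ∧ v ≠ v₀ := by
      by_contra hcon
      push Not at hcon
      have h10 : Nat.card P ≤ 2 := by
        have h11 : Function.Surjective (fun b : Bool => if b then (1 : P) else ⟨v₀, hv₀⟩) := by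
          intro y
          by_cases hy : (y : G) = 1
          · exact ⟨true, Subtype.ext hy.symm⟩
          · exact ⟨false, Subtype.ext (hcon y y.2 hy).symm⟩
        have h12 := Nat.card_le_card_of_surjective _ h11
        simpa using h12
      omega
    -- an element `x ≠ 1` of `X r ∩ P`
    have hx : ∃ x ∈ P, x ∈ X r ∧ x ≠ 1 := by
      rcases h4 v hv with h10 | h10
      · exact ⟨v, hv, h10, hv1⟩
      · refine ⟨v * v₀, mul_mem hv hv₀, ?_, ?_⟩
        · apply h3 _ (mul_mem hv hv₀)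
          have h11 := (V r).mul_mem (D.dbl.XW r hr h10) (D.dbl.XW r hr h0)
          have h12 : t * v = v * t := by
            have h13 := (D.dbl.cent r hr _ (D.dbl.XW r hr h10)).2 h10
            rw [← mul_assoc, D.tt, one_mul] at h13
            calc t * v = t * v * (t * t) := by rw [D.tt, mul_one]
              _ = t * v * t * t := by group
              _ = v * t := by rw [← h13]
          have e : t * v * (t * v₀) = v * v₀ := by
            rw [h12]
            calc v * t * (t * v₀) = v * (t * t) * v₀ := by group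
              _ = v * v₀ := by rw [D.tt, mul_one]
          rwa [e] at h11
        · intro h11
          apply hv2
          have h12 := mul_eq_one_iff_eq_inv.1 h11
          rw [h12]; exact inv_eq_of_mul_eq_one_left (h2 v₀ hv₀)
    obtain ⟨x, hxP, hxX, hx1⟩ := hx
    -- `X r = {1, x} = {1, t v₀}`
    have h10 : x = t * v₀ := by
      by_contra hne
      have h11 : Function.Injective (fun i : Fin 3 => (![(1 : X r), ⟨x, hxX⟩, ⟨t * v₀, h0⟩] i)) := by
        intro i j hij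
        fin_cases i <;> fin_cases j
        · rfl
        · exact absurd (congrArg Subtype.val hij).symm hx1
        · exact absurd (congrArg Subtype.val hij).symm h7
        · exact absurd (congrArg Subtype.val hij) hx1
        · rfl
        · exact absurd (congrArg Subtype.val hij) hne
        · exact absurd (congrArg Subtype.val hij) h7
        · exact absurd (congrArg Subtype.val hij).symm hne
        · rfl
      have h12 := Nat.card_le_card_of_injective _ h11
      rw [Nat.card_fin, h8] at h12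
      omega
    apply ht
    have h11 : t = x * v₀⁻¹ := by rw [h10]; group
    rw [h11]
    exact mul_mem hxP (inv_mem hv₀)

end Can

end Cfsg.Agent.OddHalf.D7End.Canon

end

-- merged: Cfsg.Agent.OddHalf.D7End.FrameA
section

/-!
# Case A, simply laced (helper163, bb ODD 9501)

`V r` are the doubled root groups of a simply laced frame, `A ≤ V ρ` a half, normalised by `N_K(X ρ)`, such that
`[A_a, (A_b)^t] = 1` for `(a, b) = -1`. Then all `K`-conjugates of `A` commute with all `K`-conjugates of `A^t`.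
-/

set_option autoImplicit false
set_option linter.unusedSectionVars false

namespace Cfsg.Agent.OddHalf.D7End.FrameA

open Subgroup Cfsg.Agent.OddHalf.D7End.CaseA Cfsg.Agent.OddHalf.D7End.Canon Cfsg.Agent.OddHalf.SL.Defs
open scoped commutatorElement

variable {L : Type*} [AddCommGroup L] {G : Type*} [Group G]

/-- halves of the doubled root groups -/
structure Fam (t : G) (K : Subgroup G) (B : L → L → ℤ) (Φ : Set L) (X V A : L → Subgroup G) : Prop where
  can : Can t B Φ X V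
  XK : ∀ r ∈ Φ, X r ≤ K
  gen : K ≤ ⨆ r ∈ Φ, X r
  Xne : ∀ r ∈ Φ, X r ≠ ⊥
  Xnd : ∀ r ∈ Φ, ∀ s ∈ Φ, B r s = -1 → ∀ x ∈ X r, ∀ y ∈ X s, x * y = y * x → x = 1 ∨ y = 1
  Xgen : ∀ r ∈ Φ, ∀ s ∈ Φ, B r s = -1 → X (r + s) ≤ ⁅X r, X s⁆
  three : ∀ r ∈ Φ, ∀ s ∈ Φ, B r s = 1 → ∃ m ∈ Φ, B m r = 1 ∧ B m s = 1
  one : ∀ r ∈ Φ, ∃ s ∈ Φ, B r s = 1
  AV : ∀ r ∈ Φ, A r ≤ V r
  inf : ∀ r ∈ Φ, ∀ a ∈ A r, t * a * t ∈ A r → a = 1
  card : ∀ r ∈ Φ, Nat.card (A r) * Nat.card (A r) = Nat.card (V r)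
  /-- `[A_r, A_s^t] = 1` for `(r, s) = -1` -/
  br : ∀ r ∈ Φ, ∀ s ∈ Φ, B r s = -1 → ∀ a ∈ A r, ∀ b ∈ A s, a * (t * b * t) = t * b * t * a

namespace Fam

variable {t : G} {K : Subgroup G} {B : L → L → ℤ} {Φ : Set L} {X V A : L → Subgroup G}
  (D : Fam t K B Φ X V A)

include D

theorem tt : t * t = 1 := D.can.tt

theorem tinv : t⁻¹ = t := D.can.tinv

theorem tct (a : G) : t * (t * a * t) * t = a := by
  calc t * (t * a * t) * t = (t * t) * a * (t * t) := by group
    _ = a := by rw [D.tt, one_mul, mul_one]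

theorem tmul (a b : G) : t * (a * b) * t = (t * a * t) * (t * b * t) := by
  calc t * (a * b) * t = t * a * 1 * b * t := by group
    _ = t * a * (t * t) * b * t := by rw [D.tt]
    _ = (t * a * t) * (t * b * t) := by group

theorem tinv' (a : G) : t * a⁻¹ * t = (t * a * t)⁻¹ := by
  rw [mul_inv_rev, mul_inv_rev, D.tinv, mul_assoc]

theorem exists_mul [Finite G] {r : L} (hr : r ∈ Φ) {w : G} (hw : w ∈ V r) :
    ∃ a ∈ A r, ∃ b ∈ A r, w = a * (t * b * t) := by
  let f : A r × A r → V r := fun p => ⟨p.1 * (t * p.2 * t), mul_mem (D.AV r hr p.1.2)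
    (D.can.dbl.conj_t r hr _ (D.AV r hr p.2.2))⟩
  have hf : Function.Injective f := by
    rintro ⟨a, b⟩ ⟨c, d⟩ h
    have h1 : (a : G) * (t * b * t) = c * (t * d * t) := congrArg Subtype.val h
    have h2 : (c : G)⁻¹ * a = t * (d * (b : G)⁻¹) * t := by
      rw [inv_mul_eq_iff_eq_mul]
      calc (a : G) = a * (t * b * t) * (t * b * t)⁻¹ := by group
        _ = c * (t * d * t) * (t * b * t)⁻¹ := by rw [h1]
        _ = c * (t * (d * (b : G)⁻¹) * t⁻¹) := by group
        _ = c * (t * (d * (b : G)⁻¹) * t) := by rw [D.tinv]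
    have h3 : (d : G) * (b : G)⁻¹ = 1 := by
      apply D.inf r hr _ (mul_mem d.2 (inv_mem b.2))
      rw [← h2]
      exact mul_mem (inv_mem c.2) a.2
    rw [h3, mul_one, D.tt, inv_mul_eq_one] at h2
    exact Prod.ext (Subtype.ext h2.symm) (Subtype.ext (mul_inv_eq_one.1 h3).symm)
  have hcard : Nat.card (A r × A r) = Nat.card (V r) := by rw [Nat.card_prod, D.card r hr]
  have hb := (Nat.bijective_iff_injective_and_card f).2 ⟨hf, hcard⟩
  obtain ⟨⟨a, b⟩, h⟩ := hb.2 ⟨w, hw⟩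
  exact ⟨a, a.2, b, b.2, (congrArg Subtype.val h).symm⟩

/-- `X r = {a a^t}` -/
theorem exists_X [Finite G] {r : L} (hr : r ∈ Φ) {x : G} (hx : x ∈ X r) : ∃ a ∈ A r, x = a * (t * a * t) := by
  have hxV := D.can.dbl.XW r hr hx
  obtain ⟨a, ha, b, hb, e⟩ := D.exists_mul hr hxV
  have hxt := (D.can.dbl.cent r hr x hxV).2 hx
  have h1 : a * (t * b * t) = b * (t * a * t) := by
    have h2 : t * x * t = x := by rw [hxt, mul_assoc, D.tt, mul_one]
    have h3 : t * x * t = (t * a * t) * b := by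
      rw [e, D.tmul, D.tct]
    rw [← e, ← h2, h3]
    exact D.can.comm hr (D.can.dbl.conj_t r hr _ (D.AV r hr ha)) (D.AV r hr hb)
  have h2 : b⁻¹ * a = t * (a * b⁻¹) * t := by
    rw [inv_mul_eq_iff_eq_mul]
    calc a = a * (t * b * t) * (t * b * t)⁻¹ := by group
      _ = b * (t * a * t) * (t * b * t)⁻¹ := by rw [h1]
      _ = b * (t * (a * b⁻¹) * t⁻¹) := by group
      _ = b * (t * (a * b⁻¹) * t) := by rw [D.tinv]
  have h3 : a * b⁻¹ = 1 := by
    apply D.inf r hr _ (mul_mem ha (inv_mem hb))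
    rw [← h2]
    exact mul_mem (inv_mem hb) ha
  have h4 : a = b := mul_inv_eq_one.1 h3
  exact ⟨a, ha, by rw [e, ← h4]⟩

theorem mul_t_mem {r : L} (hr : r ∈ Φ) {a : G} (ha : a ∈ A r) : a * (t * a * t) ∈ X r := by
  have haV := D.AV r hr ha
  have h1 := D.can.dbl.conj_t r hr a haV
  rw [← D.can.dbl.cent r hr _ (mul_mem haV h1)]
  have h2 := D.can.comm hr haV h1
  have h3 : t * (a * (t * a * t)) * t = a * (t * a * t) := by rw [D.tmul, D.tct, h2]
  calc t * (a * (t * a * t)) = t * (a * (t * a * t)) * (t * t) := by rw [D.tt, mul_one]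
    _ = t * (a * (t * a * t)) * t * t := by group
    _ = a * (t * a * t) * t := by rw [h3]

/-- `(2)` for `(r, s) ≥ -1` -/
theorem AB {r s : L} (hr : r ∈ Φ) (hs : s ∈ Φ) (h : -1 ≤ B r s) {a b : G} (ha : a ∈ A r) (hb : b ∈ A s) :
    a * (t * b * t) = t * b * t * a := by
  rcases lt_or_ge (B r s) 0 with h1 | h1
  · exact D.br r hr s hs (by omega) a ha b hb
  · exact D.can.dbl.pos r hr s hs h1 a (D.AV r hr ha) _ (D.can.dbl.conj_t s hs b (D.AV s hs hb))

/-- `(3)`: `[A_r, A_s] ≤ A_{r+s}` -/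
theorem comm_mem [Finite G] {r s : L} (hr : r ∈ Φ) (hs : s ∈ Φ) (h : B r s = -1) {a b : G} (ha : a ∈ A r)
    (hb : b ∈ A s) : a * b * a⁻¹ * b⁻¹ ∈ A (r + s) := by
  have hR := D.can.roots
  have hrs := hR.add r hr s hs h
  have hv := D.can.dbl.neg r hr s hs h a (D.AV r hr ha) b (D.AV s hs hb)
  obtain ⟨a', ha', b', hb', e⟩ := D.exists_mul hrs hv
  obtain ⟨m, hm, hm1, hm2⟩ := D.three (r + s) hrs r hr (by rw [hR.add_left, hR.two r hr, hR.symm s r, h]; norm_num)
  have hc : -m ∈ Φ := hR.neg_mem m hm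
  have hm3 : B m s = 0 := by
    have := hR.add_right m r s
    omega
  -- `t w t`, `w ∈ A (-m)`, commutes with `a`, `b`, `a'`
  have hbb : b' = 1 := by
    have k1 : ∀ w ∈ A (-m), (a * b * a⁻¹ * b⁻¹) * (t * w * t) = (t * w * t) * (a * b * a⁻¹ * b⁻¹) := by
      intro w hw
      have e1 : Commute a (t * w * t) := D.AB hr hc (by rw [hR.neg_right, hR.symm, hm2]) ha hw
      have e2 : Commute b (t * w * t) := D.AB hs hc (by rw [hR.neg_right, hR.symm, hm3]; norm_num) hb hw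
      exact (((e1.mul_left e2).mul_left e1.inv_left).mul_left e2.inv_left).eq
    have k2 : ∀ w ∈ A (-m), b' * w = w * b' := by
      intro w hw
      have e1 := k1 w hw
      have e2 : Commute a' (t * w * t) :=
        D.AB hrs hc (by rw [hR.neg_right, hR.symm, hm1]) ha' hw
      rw [e] at e1
      have e3 : Commute (t * b' * t) (t * w * t) := by
        have e4 : Commute (a' * (t * b' * t)) (t * w * t) := e1
        have e5 := e2.inv_left.mul_left e4
        rwa [inv_mul_cancel_left] at e5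
      have e6 : t * (b' * w) * t = t * (w * b') * t := by rw [D.tmul, D.tmul]; exact e3
      have e7 : t * (t * (b' * w) * t) * t = t * (t * (w * b') * t) * t := by rw [e6]
      rwa [D.tct, D.tct] at e7
    have k3 : ∀ w ∈ A (-m), b' * (t * w * t) = (t * w * t) * b' := fun w hw =>
      D.AB hrs hc (by rw [hR.neg_right, hR.symm, hm1]) hb' hw
    have k4 : ∀ y ∈ X (-m), b' * y = y * b' := by
      intro y hy
      obtain ⟨w, hw, rfl⟩ := D.exists_X hc hy
      have e1 : Commute b' w := k2 w hw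
      have e2 : Commute b' (t * w * t) := k3 w hw
      exact (e1.mul_right e2).eq
    have k5 : ∀ y ∈ X (-m), (t * b' * t) * y = y * (t * b' * t) := by
      intro y hy
      have e1 := (D.can.dbl.cent _ hc y (D.can.dbl.XW _ hc hy)).2 hy
      have e2 : t * y * t = y := by rw [e1, mul_assoc, D.tt, mul_one]
      calc (t * b' * t) * y = (t * b' * t) * (t * y * t) := by rw [e2]
        _ = t * (b' * y) * t := by rw [D.tmul]
        _ = t * (y * b') * t := by rw [k4 y hy]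
        _ = (t * y * t) * (t * b' * t) := by rw [D.tmul]
        _ = y * (t * b' * t) := by rw [e2]
    have k6 := D.mul_t_mem hrs hb'
    obtain ⟨y, hy1⟩ := (Subgroup.ne_bot_iff_exists_ne_one).1 (D.Xne _ hc)
    have hB : B (r + s) (-m) = -1 := by rw [hR.neg_right, hR.symm, hm1]
    have k7 : b' * (t * b' * t) * y = y * (b' * (t * b' * t)) := by
      have e1 : Commute b' (y : G) := k4 y y.2
      have e2 : Commute (t * b' * t) (y : G) := k5 y y.2
      exact (e1.mul_left e2).eq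
    rcases D.Xnd _ hrs _ hc hB _ k6 y y.2 k7 with h8 | h8
    · apply D.inf _ hrs b' hb'
      rw [eq_inv_of_mul_eq_one_right h8]
      exact inv_mem hb'
    · exact absurd (Subtype.ext h8) hy1
  rw [e, hbb, mul_one, D.tt, mul_one]
  exact ha'

/-- `(4)`: `A_{r+s} = [A_r, A_s]` -/
theorem le_comm [Finite G] {r s : L} (hr : r ∈ Φ) (hs : s ∈ Φ) (h : B r s = -1) : A (r + s) ≤ ⁅A r, A s⁆ := by
  have hR := D.can.roots
  have hrs := hR.add r hr s hs h
  have hH : ⁅A r, A s⁆ ≤ A (r + s) := by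
    rw [commutator_le]
    intro a ha b hb
    rw [commutatorElement_def]
    exact D.comm_mem hr hs h ha hb
  -- the set of `z (t z t)`, `z ∈ ⁅A r, A s⁆`
  let S : Subgroup G :=
    { carrier := {x | ∃ z ∈ ⁅A r, A s⁆, x = z * (t * z * t)}
      one_mem' := ⟨1, one_mem _, by rw [mul_one, D.tt, one_mul]⟩
      mul_mem' := by
        rintro _ _ ⟨a, ha, rfl⟩ ⟨b, hb, rfl⟩
        refine ⟨a * b, mul_mem ha hb, ?_⟩
        have h1 := D.AB hrs hrs (by rw [hR.two _ hrs]; norm_num) (hH hb) (hH ha)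
        rw [D.tmul]
        calc a * (t * a * t) * (b * (t * b * t)) = a * ((t * a * t) * b) * (t * b * t) := by group
          _ = a * (b * (t * a * t)) * (t * b * t) := by rw [h1]
          _ = a * b * ((t * a * t) * (t * b * t)) := by group
      inv_mem' := by
        rintro _ ⟨a, ha, rfl⟩
        refine ⟨a⁻¹, inv_mem ha, ?_⟩
        have h1 := D.AB hrs hrs (by rw [hR.two _ hrs]; norm_num) (hH ha) (hH ha)
        rw [h1, mul_inv_rev, D.tinv'] }
  have hS : ⁅X r, X s⁆ ≤ S := by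
    rw [commutator_le]
    intro x hx y hy
    obtain ⟨a, ha, rfl⟩ := D.exists_X hr hx
    obtain ⟨b, hb, rfl⟩ := D.exists_X hs hy
    refine ⟨⁅a, b⁆, commutator_mem_commutator ha hb, ?_⟩
    have e1 : Commute a (t * b * t) := D.AB hr hs (by omega) ha hb
    have e2 : Commute b (t * a * t) := D.AB hs hr (by rw [hR.symm]; omega) hb ha
    have e3 : Commute (a * b * a⁻¹ * b⁻¹) ((t * a * t) * (t * b * t) * (t * a * t)⁻¹ * (t * b * t)⁻¹) := by
      have e4 := D.AB hrs hrs (by rw [hR.two _ hrs]; norm_num) (D.comm_mem hr hs h ha hb) (D.comm_mem hr hs h ha hb)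
      rw [D.tmul, D.tmul, D.tmul, D.tinv', D.tinv'] at e4
      exact e4
    have e5 : Commute a (t * a * t) := D.AB hr hr (by rw [hR.two _ hr]; norm_num) ha ha
    have e6 : Commute b (t * b * t) := D.AB hs hs (by rw [hR.two _ hs]; norm_num) hb hb
    rw [commutatorElement_def, commutatorElement_def]
    have e7 : t * (a * b * a⁻¹ * b⁻¹) * t = (t * a * t) * (t * b * t) * (t * a * t)⁻¹ * (t * b * t)⁻¹ := by
      rw [D.tmul, D.tmul, D.tmul, D.tinv', D.tinv']
    rw [e7]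
    generalize t * a * t = a' at e1 e2 e3 e5 e6 ⊢
    generalize t * b * t = b' at e1 e2 e3 e5 e6 ⊢
    -- `(a a')(b b')(a a')⁻¹(b b')⁻¹ = [a,b][a',b']`
    calc a * a' * (b * b') * (a * a')⁻¹ * (b * b')⁻¹ = a * (a' * b) * b' * a'⁻¹ * a⁻¹ * b'⁻¹ * b⁻¹ := by group
      _ = a * (b * a') * b' * a'⁻¹ * a⁻¹ * b'⁻¹ * b⁻¹ := by rw [e2.eq]
      _ = a * b * a' * b' * a'⁻¹ * (a⁻¹ * b'⁻¹) * b⁻¹ := by group
      _ = a * b * a' * b' * a'⁻¹ * (b'⁻¹ * a⁻¹) * b⁻¹ := by rw [e1.inv_inv.eq]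
      _ = a * b * (a' * b' * a'⁻¹ * b'⁻¹) * (a⁻¹ * b⁻¹) := by group
      _ = a * b * ((a' * b' * a'⁻¹ * b'⁻¹) * (a⁻¹ * b⁻¹)) := by group
      _ = a * b * ((a⁻¹ * b⁻¹) * (a' * b' * a'⁻¹ * b'⁻¹)) := by
        have f1 : Commute a⁻¹ a' := e5.inv_left
        have f2 : Commute a⁻¹ b' := e1.inv_left
        have f3 : Commute b⁻¹ a' := e2.inv_left
        have f4 : Commute b⁻¹ b' := e6.inv_left
        have f5 : Commute (a⁻¹ * b⁻¹) (a' * b' * a'⁻¹ * b'⁻¹) :=
          ((((f1.mul_left f3).mul_right (f2.mul_left f4)).mul_right (f1.inv_right.mul_left f3.inv_right)).mul_right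
            (f2.inv_right.mul_left f4.inv_right))
        rw [f5.eq]
      _ = a * b * a⁻¹ * b⁻¹ * (a' * b' * a'⁻¹ * b'⁻¹) := by group
  intro z hz
  obtain ⟨w, hw, e⟩ := hS (D.Xgen r hr s hs h (D.mul_t_mem hrs hz))
  have e1 : w⁻¹ * z = t * (w * z⁻¹) * t := by
    rw [inv_mul_eq_iff_eq_mul, D.tmul, D.tinv']
    calc z = z * (t * z * t) * (t * z * t)⁻¹ := by group
      _ = w * (t * w * t) * (t * z * t)⁻¹ := by rw [e]
      _ = w * ((t * w * t) * (t * z * t)⁻¹) := by group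
  have e2 : w * z⁻¹ = 1 := by
    apply D.inf _ hrs _ (mul_mem (hH hw) (inv_mem hz))
    rw [← e1]
    exact mul_mem (inv_mem (hH hw)) hz
  rw [← mul_inv_eq_one.1 e2]
  exact hw

/-- `(5)`: `[A_r, A_s^t] = 1` for all `r`, `s` -/
theorem AB' [Finite G] {r s : L} (hr : r ∈ Φ) (hs : s ∈ Φ) {a b : G} (ha : a ∈ A r) (hb : b ∈ A s) :
    a * (t * b * t) = t * b * t * a := by
  have hR := D.can.roots
  rcases lt_or_ge (B r s) (-1) with h | h
  · have h2 := hR.ge hr hs
    have h3 : B r s = -2 := by omega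
    have h4 : s = -r := by
      rw [hR.eq_neg hr hs h3, neg_neg]
    subst h4
    obtain ⟨c, hc, hrc⟩ := D.one _ hs
    -- `-r = c + (-r - c)`
    have hd : -r - c ∈ Φ := hR.sub_mem hs hc hrc
    have hcd : B c (-r - c) = -1 := by
      rw [hR.sub_right, hR.two c hc, hR.symm, hrc]; norm_num
    have e0 : c + (-r - c) = -r := by abel
    have h5 := D.le_comm hc hd hcd
    rw [e0] at h5
    have hrc' : B r c = -1 := by
      have := hR.neg_left r c
      omega
    have hrd : B r (-r - c) = -1 := by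
      rw [hR.sub_right, hR.neg_right, hR.two r hr, hrc']; norm_num
    have h6 : ⁅A c, A (-r - c)⁆ ≤ (centralizer ({a} : Set G)).comap (MulAut.conj t).toMonoidHom := by
      rw [commutator_le]
      intro x hx y hy
      rw [mem_comap, mem_centralizer_singleton_iff]
      show t * ⁅x, y⁆ * t⁻¹ * a = a * (t * ⁅x, y⁆ * t⁻¹)
      rw [D.tinv, commutatorElement_def, D.tmul, D.tmul, D.tmul, D.tinv', D.tinv']
      have e1 : Commute a (t * x * t) := D.AB hr hc (by omega) ha hx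
      have e2 : Commute a (t * y * t) := D.AB hr hd (by omega) ha hy
      exact (((e1.mul_right e2).mul_right e1.inv_right).mul_right e2.inv_right).symm.eq
    have h7 := h6 (h5 hb)
    rw [mem_comap, mem_centralizer_singleton_iff] at h7
    have h8 : t * b * t⁻¹ * a = a * (t * b * t⁻¹) := h7
    rw [D.tinv] at h8
    exact h8.symm
  · exact D.AB hr hs h ha hb

/-- the product of all `A r` -/
def S (Φ : Set L) (A : L → Subgroup G) : Subgroup G := ⨆ r ∈ Φ, A r

omit D in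
theorem le_S {r : L} (hr : r ∈ Φ) : A r ≤ S Φ A := le_iSup₂_of_le (f := fun r (_ : r ∈ Φ) => A r) r hr le_rfl

theorem S_comm [Finite G] {a b : G} (ha : a ∈ S Φ A) (hb : b ∈ S Φ A) : a * (t * b * t) = t * b * t * a := by
  have h1 : ∀ s ∈ Φ, ∀ b ∈ A s, ∀ a ∈ S Φ A, a * (t * b * t) = t * b * t * a := by
    intro s hs b hb a ha
    have h2 : S Φ A ≤ centralizer ({t * b * t} : Set G) := by
      refine iSup₂_le fun r hr x hx => ?_
      rw [mem_centralizer_singleton_iff]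
      exact D.AB' hr hs hx hb
    exact mem_centralizer_singleton_iff.1 (h2 ha)
  have h2 : S Φ A ≤ (centralizer ({a} : Set G)).comap (MulAut.conj t).toMonoidHom := by
    refine iSup₂_le fun s hs x hx => ?_
    rw [mem_comap, mem_centralizer_singleton_iff]
    show t * x * t⁻¹ * a = a * (t * x * t⁻¹)
    rw [D.tinv]
    exact (h1 s hs x hx a ha).symm
  have h3 := h2 hb
  rw [mem_comap, mem_centralizer_singleton_iff] at h3
  have h4 : t * b * t⁻¹ * a = a * (t * b * t⁻¹) := h3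
  rw [D.tinv] at h4
  exact h4.symm

/-- `K` normalises the product of all `A r` -/
theorem K_le [Finite G] : K ≤ normalizer (S Φ A : Set G) := by
  refine D.gen.trans (iSup₂_le fun r hr x hx => ?_)
  obtain ⟨a, ha, rfl⟩ := D.exists_X hr hx
  refine mul_mem (le_normalizer (le_S hr ha)) ?_
  rw [mem_normalizer_iff]
  intro y
  constructor
  · intro hy
    have h1 := D.S_comm hy (le_S hr ha)
    have e : t * a * t * y * (t * a * t)⁻¹ = y := by rw [← h1]; group
    rw [e]; exact hy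
  · intro hy
    have h1 := D.S_comm hy (le_S hr ha)
    have e : t * a * t * y * (t * a * t)⁻¹ = y := by
      have h2 : t * a * t * y * (t * a * t)⁻¹ * (t * a * t) = t * a * t * (t * a * t * y * (t * a * t)⁻¹) := h1
      have h3 : y = t * a * t * y * (t * a * t)⁻¹ := by
        apply mul_left_cancel (a := t * a * t)
        calc t * a * t * y = t * a * t * y * (t * a * t)⁻¹ * (t * a * t) := by group
          _ = t * a * t * (t * a * t * y * (t * a * t)⁻¹) := h2
      exact h3.symm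
    rw [e] at hy; exact hy

theorem cj_S [Finite G] {k : G} (hk : k ∈ K) {x : G} (hx : x ∈ S Φ A) : k * x * k⁻¹ ∈ S Φ A :=
  (mem_normalizer_iff.1 (D.K_le hk) x).1 hx

end Fam

/-- **Case A, simply laced.** -/
theorem hyp [Finite G] {t : G} {K : Subgroup G} {B : L → L → ℤ} {Φ : Set L} {X V : L → Subgroup G} {ρ : L}
    {A : Subgroup G} (hρ : ρ ∈ Φ) (C : Can t B Φ X V) (XK : ∀ r ∈ Φ, X r ≤ K) (gen : K ≤ ⨆ r ∈ Φ, X r)
    (Xne : ∀ r ∈ Φ, X r ≠ ⊥)
    (Xnd : ∀ r ∈ Φ, ∀ s ∈ Φ, B r s = -1 → ∀ x ∈ X r, ∀ y ∈ X s, x * y = y * x → x = 1 ∨ y = 1)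
    (Xgen : ∀ r ∈ Φ, ∀ s ∈ Φ, B r s = -1 → X (r + s) ≤ ⁅X r, X s⁆)
    (three : ∀ r ∈ Φ, ∀ s ∈ Φ, B r s = 1 → ∃ m ∈ Φ, B m r = 1 ∧ B m s = 1)
    (one : ∀ r ∈ Φ, ∃ s ∈ Φ, B r s = 1)
    (Kt : ∀ x ∈ K, x * t = t * x)
    (cK : ∀ c, c * t = t * c → (∀ x ∈ K, x * c = c * x) → c = 1 ∨ c = t)
    (tK : t ∉ K) (simp : ∀ L ≤ K, (∀ k ∈ K, ∀ l ∈ L, k * l * k⁻¹ ∈ L) → L = ⊥ ∨ L = K)
    (perf : ∀ P : Subgroup G, ⁅P, P⁆ = P → (∀ x ∈ P, x * t = t * x) → P ≤ K)
    (tr : ∀ r ∈ Φ, ∃ k ∈ K, cj k (X ρ) = X r ∧ cj k (V ρ) = V r)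
    (AV : A ≤ V ρ) (inf : ∀ a ∈ A, t * a * t ∈ A → a = 1) (card : Nat.card A * Nat.card A = Nat.card (V ρ))
    (nrm : ∀ k ∈ K, cj k (X ρ) = X ρ → cj k A ≤ A)
    (br : ∀ r ∈ Φ, ∀ s ∈ Φ, B r s = -1 → ∀ k ∈ K, cj k (X ρ) = X r → ∀ l ∈ K, cj l (X ρ) = X s →
      ∀ a ∈ A, ∀ b ∈ A, (k * a * k⁻¹) * (l * (t * b * t) * l⁻¹) = (l * (t * b * t) * l⁻¹) * (k * a * k⁻¹)) :
    Half.Hyp t K (X ρ) (V ρ) A := by
  classical
  have tt := C.tt
  have tinv := C.tinv
  have hKt' : ∀ k ∈ K, k⁻¹ * t = t * k⁻¹ := fun k hk => by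
    rw [inv_mul_eq_iff_eq_mul, ← mul_assoc, Kt k hk, mul_inv_cancel_right]
  have hct : ∀ l ∈ K, ∀ b : G, t * (l * b * l⁻¹) * t = l * (t * b * t) * l⁻¹ := by
    intro l hl b
    calc t * (l * b * l⁻¹) * t = (t * l) * b * (l⁻¹ * t) := by group
      _ = (l * t) * b * (t * l⁻¹) := by rw [Kt l hl, hKt' l hl]
      _ = l * (t * b * t) * l⁻¹ := by group
  choose! k hkK hkX hkV using tr
  have nrm' : ∀ g ∈ K, cj g (X ρ) = X ρ → cj g A = A := by
    intro g hg h
    exact Subgroup.eq_of_le_of_card_ge (nrm g hg h) (card_cj g A).ge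
  -- the family
  set A' : L → Subgroup G := fun r => cj (k r) A with hA'
  have hwd : ∀ r ∈ Φ, ∀ g ∈ K, cj g (X ρ) = X r → cj g A = A' r := by
    intro r hr g hg h
    have h1 : cj ((k r)⁻¹ * g) (X ρ) = X ρ := by
      rw [cj_mul, h, ← hkX r hr, cj_inv_cj]
    have h2 := nrm' _ (mul_mem (inv_mem (hkK r hr)) hg) h1
    calc cj g A = cj (k r * ((k r)⁻¹ * g)) A := by rw [mul_inv_cancel_left]
      _ = cj (k r) A := by rw [cj_mul, h2]
  have D : Fam t K B Φ X V A' :=
    { can := C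
      XK := XK
      gen := gen
      Xne := Xne
      Xnd := Xnd
      Xgen := Xgen
      three := three
      one := one
      AV := fun r hr => by
        rw [← hkV r hr]; exact cj_mono AV
      inf := by
        rintro r hr _ ⟨a, ha, rfl⟩ h
        have h1 : t * (k r * a * (k r)⁻¹) * t ∈ cj (k r) A := h
        rw [hct _ (hkK r hr), mem_cj] at h1
        have e : (k r)⁻¹ * (k r * (t * a * t) * (k r)⁻¹) * k r = t * a * t := by group
        rw [e] at h1
        show k r * a * (k r)⁻¹ = 1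
        rw [inf a ha h1]; group
      card := fun r hr => by
        rw [card_cj, card, ← hkV r hr, card_cj]
      br := by
        rintro r hr s hs h _ ⟨a, ha, rfl⟩ _ ⟨b, hb, rfl⟩
        show (k r * a * (k r)⁻¹) * (t * (k s * b * (k s)⁻¹) * t) = t * (k s * b * (k s)⁻¹) * t * (k r * a * (k r)⁻¹)
        rw [hct _ (hkK s hs)]
        exact br r hr s hs h _ (hkK r hr) (hkX r hr) _ (hkK s hs) (hkX s hs) a ha b hb }
  have hAρ : A' ρ = A := by
    have := hwd ρ hρ 1 (one_mem K) (cj_one _)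
    rw [cj_one] at this
    exact this.symm
  have hAS : A ≤ Fam.S Φ A' := by rw [← hAρ]; exact Fam.le_S hρ
  exact
    { tt := tt
      Kt := Kt
      cK := cK
      tK := tK
      simp := simp
      perf := perf
      XK := XK ρ hρ
      X1 := Xne ρ hρ
      Xsq := fun x hx => C.dbl.sq ρ hρ x (C.dbl.XW ρ hρ hx)
      gen := by
        refine gen.trans (iSup₂_le fun r hr => ?_)
        rw [← hkX r hr]
        exact Half.cj_le_span (hkK r hr)
      cardW := C.card_V hρ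
      can := by
        intro P h2 hn hb ht hc
        refine C.eq_V hρ h2 (fun v hv a ha h x hx => ?_) hb ht hc
        refine (hn v hv x (XK a ha hx) fun y hy => ?_).symm
        exact C.dbl.pos a ha ρ hρ (by omega) x (C.dbl.XW a ha hx) y (C.dbl.XW ρ hρ hy)
      Wab := fun v hv w hw => C.comm hρ hv hw
      Wt := C.dbl.conj_t ρ hρ
      XW := C.dbl.XW ρ hρ
      AW := AV
      inf := inf
      card := card
      comm := by
        intro g hg l hl a ha b hb
        rw [← hct l hl]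
        exact D.S_comm (D.cj_S hg (hAS ha)) (D.cj_S hl (hAS hb))
      perfA := by
        -- `ρ = c + d`
        have hR := C.roots
        obtain ⟨c, hc, h1⟩ := one ρ hρ
        have hd : ρ - c ∈ Φ := hR.sub_mem hρ hc h1
        have hcd : B c (ρ - c) = -1 := by
          rw [hR.sub_right, hR.two c hc, hR.symm, h1]; norm_num
        have h2 := D.le_comm hc hd hcd
        rw [add_sub_cancel, hAρ] at h2
        exact h2.trans (commutator_mono (Half.cj_le_span (hkK c hc)) (Half.cj_le_span (hkK _ hd))) }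

end Cfsg.Agent.OddHalf.D7End.FrameA

end

-- merged: Cfsg.Agent.OddHalf.D7End.Ustar
section

/-!
# The group `U*` (helper163, bb ODD 9501)

`U* = ⟨V r : r > 0⟩` is a 2-group, `C_{U*}(t) = U = ⟨X r : r > 0⟩`, all involutions of `t U*` are conjugate to `t`
under `U*`. `exists_ext` : a homomorphism of `T` to an abelian group which is trivial on `N ∩ T` extends to `N T`,
trivial on `N`.
-/

set_option autoImplicit false
set_option linter.unusedSectionVars false

namespace Cfsg.Agent.OddHalf.D7End.Ustar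

open Subgroup Cfsg.Agent.Doubling Cfsg.Agent.Doubling.Growth Cfsg.Agent.OddHalf.SL Cfsg.Agent.OddHalf.SL.Bridge

variable {G : Type*} [Group G] {L : Type*} [AddCommGroup L]

/-- The positive doubled root groups in decreasing order of heights. -/
theorem exists_growth {t : G} {B : L → L → ℤ} {Φ : Set L} {X V : L → Subgroup G} (hR : Defs.Roots B Φ)
    (D : Defs.Dbl t B Φ X V) (ht : L →+ ℤ)
    (dir : ∀ a ∈ Φ, 0 < ht a → X a ⊓ (⨆ b : L, ⨆ _ : b ∈ Φ ∧ ht a ≤ ht b ∧ b ≠ a, X b) = ⊥) :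
    ∃ (l : ℕ → L) (n : ℕ), Growth.Dbl t (fun i => V (l i)) (fun i => X (l i)) n ∧
      Growth.W (fun i => X (l i)) n = pos ht Φ X ∧ Growth.W (fun i => V (l i)) n = pos ht Φ V := by
  classical
  set P : Finset L := hR.fin.toFinset.filter (fun a => 0 < ht a) with hP
  have hmemP : ∀ a, a ∈ P ↔ a ∈ Φ ∧ 0 < ht a := fun a => by
    rw [hP, Finset.mem_filter, Set.Finite.mem_toFinset]
  obtain ⟨l, hl1, hl2, hl3, hl4⟩ := exists_enum (fun a => ht a) P
  have hΦ : ∀ i < P.card, l i ∈ Φ := fun i hi => ((hmemP _).1 (hl1 i hi)).1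
  have hht : ∀ i < P.card, 0 < ht (l i) := fun i hi => ((hmemP _).1 (hl1 i hi)).2
  have key : ∀ Y : L → Subgroup G, Growth.W (fun i => Y (l i)) P.card = pos ht Φ Y := by
    intro Y
    apply le_antisymm
    · exact iSup₂_le fun i hi => le_pos (hΦ i hi) (hht i hi)
    · refine iSup₂_le fun a ha => ?_
      obtain ⟨i, hi, rfl⟩ := hl2 a ((hmemP a).2 ha)
      exact le_W (fun i => Y (l i)) hi
  refine ⟨l, P.card, ?_, key X, key V⟩
  exact
    { tt := D.tt
      conj := fun i hi v hv => D.conj_t _ (hΦ i hi) v hv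
      sq := fun i hi v hv => D.sq _ (hΦ i hi) v hv
      fix := fun i hi v hv h => by
        refine (D.cent _ (hΦ i hi) v hv).1 ?_
        calc t * v = t * v * (t * t) := by rw [D.tt, mul_one]
          _ = (t * v * t) * t := by group
          _ = v * t := by rw [h]
      X_le := fun i hi => D.XW _ (hΦ i hi)
      X_fix := fun i hi v hv => by
        have h := (D.cent _ (hΦ i hi) v (D.XW _ (hΦ i hi) hv)).2 hv
        rw [h, mul_assoc, D.tt, mul_one]
      free := fun i hi v hv => by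
        obtain ⟨w, hw, h⟩ := D.surj _ (hΦ i hi) v hv
        have hww := D.sq _ (hΦ i hi) w hw
        have hwi : w⁻¹ = w := inv_eq_of_mul_eq_one_left hww
        have htw := D.conj_t _ (hΦ i hi) w hw
        have htt2 := D.sq _ (hΦ i hi) _ htw
        refine ⟨w, hw, ?_⟩
        have hvv := D.sq _ (hΦ i hi) v (D.XW _ (hΦ i hi) hv)
        have hvi : v⁻¹ = v := inv_eq_of_mul_eq_one_left hvv
        have hti : (t * w * t)⁻¹ = t * w * t := inv_eq_of_mul_eq_one_left htt2
        calc v = v⁻¹ := hvi.symm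
          _ = (w⁻¹ * (t * w * t))⁻¹ := by rw [h]
          _ = (t * w * t)⁻¹ * w := by group
          _ = (t * w * t) * w := by rw [hti]
          _ = t * w * t * w⁻¹ := by rw [hwi]
      comm := fun i j hij hj v hv w hw => by
        have hi := hij.trans hj
        rcases lt_or_ge (B (l i) (l j)) 0 with hB | hB
        · have hB2 : B (l i) (l j) = -1 := by
            have h1 := hR.ge (hΦ i hi) (hΦ j hj)
            have h2 : B (l i) (l j) ≠ -2 := by
              intro h3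
              have h4 := hR.eq_neg (hΦ i hi) (hΦ j hj) h3
              have h5 := hht i hi
              rw [h4, map_neg] at h5
              have h6 := hht j hj
              omega
            omega
          have hmem := D.neg _ (hΦ i hi) _ (hΦ j hj) hB2 v hv w hw
          have hs : l i + l j ∈ P := (hmemP _).2 ⟨hR.add _ (hΦ i hi) _ (hΦ j hj) hB2, by
            rw [map_add]; have := hht i hi; have := hht j hj; omega⟩
          obtain ⟨k, hk, hkl⟩ := hl2 _ hs
          have hki : k < i := by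
            by_contra hc
            have h1 : ht (l k) ≤ ht (l i) := hl4 i k (not_lt.1 hc) hk
            rw [hkl, map_add] at h1
            have := hht j hj
            omega
          rw [← hkl] at hmem
          exact le_W (fun i => V (l i)) hki hmem
        · have h := D.pos _ (hΦ i hi) _ (hΦ j hj) hB v hv w hw
          have h1 : v * w * v⁻¹ * w⁻¹ = 1 := by rw [h]; group
          rw [h1]; exact one_mem _
      indep := fun k hk => by
        rw [eq_bot_iff]
        refine le_trans (inf_le_inf_left _ ?_) (dir _ (hΦ k hk) (hht k hk)).le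
        refine iSup₂_le fun i hi => ?_
        refine le_iSup₂_of_le (f := fun b (_ : b ∈ Φ ∧ ht (l k) ≤ ht b ∧ b ≠ l k) => X b) (l i)
          ⟨hΦ i (hi.trans hk), ?_, ?_⟩ le_rfl
        · exact hl4 i k hi.le hk
        · intro h
          exact absurd (hl3 i k (hi.trans hk) hk h) hi.ne }

theorem isPGroup_W {t : G} {V X : ℕ → Subgroup G} {n : ℕ} (h : Growth.Dbl t V X n) (k : ℕ) (hk : k ≤ n) :
    IsPGroup 2 (Growth.W V k) := by
  induction k with
  | zero =>
    rw [W_zero]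
    exact IsPGroup.of_bot
  | succ k ih =>
    rw [W_succ]
    have hk' : k < n := hk
    have h1 : IsPGroup 2 (V k) := by
      rintro ⟨v, hv⟩
      exact ⟨1, Subtype.ext (by
        show v ^ 2 ^ 1 = 1
        rw [pow_one, pow_two]
        exact h.sq k hk' v hv)⟩
    have h2 : V k ≤ normalizer (Growth.W V k : Set G) := by
      intro v hv
      rw [mem_normalizer_iff]
      intro w
      constructor
      · intro hw
        exact h.normal le_rfl hk' hv hw
      · intro hw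
        have h3 := h.normal le_rfl hk' (inv_mem hv) hw
        have e : v⁻¹ * (v * w * v⁻¹) * v⁻¹⁻¹ = w := by group
        rwa [e] at h3
    rw [sup_comm]
    exact h1.to_sup_of_normal_right' (ih hk'.le) h2

/-- the properties of `U*` -/
theorem main {t : G} {B : L → L → ℤ} {Φ : Set L} {X V : L → Subgroup G} (hR : Defs.Roots B Φ)
    (D : Defs.Dbl t B Φ X V) (ht : L →+ ℤ)
    (dir : ∀ a ∈ Φ, 0 < ht a → X a ⊓ (⨆ b : L, ⨆ _ : b ∈ Φ ∧ ht a ≤ ht b ∧ b ≠ a, X b) = ⊥) :
    IsPGroup 2 (pos ht Φ V) ∧ (∀ w ∈ pos ht Φ V, t * w * t = w → w ∈ pos ht Φ X) ∧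
      ∀ w ∈ pos ht Φ V, (t * w) * (t * w) = 1 → ∃ c ∈ pos ht Φ V, t * w = c * t * c⁻¹ := by
  obtain ⟨l, n, h, hX, hV⟩ := exists_growth hR D ht dir
  rw [← hX, ← hV]
  exact ⟨isPGroup_W h n le_rfl, fun w hw h1 => (h.mem_U_iff le_rfl).2 ⟨hw, h1⟩, fun w hw h1 => h.exists_conj hw h1⟩

/-- extension of a homomorphism from `T` to `N T` -/
theorem exists_ext {N T : Subgroup G} (hT : T ≤ normalizer (N : Set G)) {A : Type*} [CommGroup A] (θ : T →* A)
    (h : ∀ x (hx : x ∈ T), x ∈ N → θ ⟨x, hx⟩ = 1) :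
    ∃ θ' : ↥(N ⊔ T) →* A, (∀ x (hx : x ∈ N), θ' ⟨x, mem_sup_left hx⟩ = 1) ∧
      ∀ x (hx : x ∈ T), θ' ⟨x, mem_sup_right hx⟩ = θ ⟨x, hx⟩ := by
  have hdec : ∀ s : ↥(N ⊔ T), ∃ x : T, ∃ n ∈ N, (s : G) = n * x := by
    rintro ⟨s, hs⟩
    have hs' : s ∈ ((N ⊔ T : Subgroup G) : Set G) := hs
    rw [coe_mul_of_right_le_normalizer_left N T hT] at hs'
    obtain ⟨n, hn, x, hx, e⟩ := Set.mem_mul.1 hs'
    exact ⟨⟨x, hx⟩, n, hn, e.symm⟩
  choose f g hg hfg using hdec
  -- the value does not depend on the decomposition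
  have key : ∀ (x y : T) (n m : G), n ∈ N → m ∈ N → n * x = m * y → θ x = θ y := by
    intro x y n m hn hm e
    have h1 : (x * y⁻¹ : T) = (x * y⁻¹ : T) := rfl
    have h2 : ((x * y⁻¹ : T) : G) ∈ N := by
      have : ((x * y⁻¹ : T) : G) = n⁻¹ * m := by
        show (x : G) * (y : G)⁻¹ = n⁻¹ * m
        rw [mul_inv_eq_iff_eq_mul, mul_assoc, ← e, inv_mul_cancel_left]
      rw [this]
      exact mul_mem (inv_mem hn) hm
    have h3 := h _ (x * y⁻¹ : T).2 h2
    have h4 : θ (x * y⁻¹) = 1 := h3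
    rw [map_mul, map_inv] at h4
    exact mul_inv_eq_one.1 h4
  refine ⟨MonoidHom.mk' (fun s => θ (f s)) ?_, ?_, ?_⟩
  · intro a b
    rw [← map_mul]
    have ha := hfg a
    have hb := hfg b
    have hab := hfg (a * b)
    refine key _ _ (g (a * b)) (g a * ((f a : G) * g b * (f a : G)⁻¹)) (hg _)
      (mul_mem (hg _) ((mem_normalizer_iff.1 (hT (f a).2) (g b)).1 (hg _))) ?_
    rw [← hab]
    show (a : G) * (b : G) = _
    rw [ha, hb]
    show g a * (f a : G) * (g b * f b) = g a * ((f a : G) * g b * (f a : G)⁻¹) * ((f a : G) * f b)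
    group
  · intro x hx
    show θ (f ⟨x, mem_sup_left hx⟩) = 1
    have h1 := hfg ⟨x, mem_sup_left hx⟩
    rw [← map_one θ]
    refine key _ _ _ x (hg _) hx (h1.symm.trans ?_)
    show x = x * ((1 : T) : G)
    rw [OneMemClass.coe_one, mul_one]
  · intro x hx
    show θ (f ⟨x, mem_sup_right hx⟩) = θ ⟨x, hx⟩
    have h1 := hfg ⟨x, mem_sup_right hx⟩
    refine key _ _ _ 1 (hg _) (one_mem N) (h1.symm.trans ?_)
    show x = 1 * x
    rw [one_mul]

end Cfsg.Agent.OddHalf.D7End.Ustar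

end

-- merged: Cfsg.Agent.OddHalf.D7End.FrameB
section

/-!
# Case B, simply laced (helper163, bb ODD 9501)

`Fra` : the doubled root groups and a Sylow 2-subgroup `T` of `C(t)` acting on the frame of `K`. `T` normalises `U*` and
the doubled root group `V ρ` of the highest root; if `θ : T → A` has kernel `C_T(V ρ)` (case B), and `ε : T → {±1}` is the
diagram part, then `t ∈ G'` is impossible.
-/

set_option autoImplicit false
set_option linter.unusedSectionVars false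

namespace Cfsg.Agent.OddHalf.D7End.FrameB

open Subgroup Cfsg.Agent.OddHalf.D7End.CaseB Cfsg.Agent.OddHalf.D7End.Canon Cfsg.Agent.OddHalf.SL.Defs
  Cfsg.Agent.OddHalf.SL.Bridge

variable {L : Type*} [AddCommGroup L] {G : Type*} [Group G]

/-- the frame: doubled root groups and the action of `T` on the root groups -/
structure Fra (t : G) (K T : Subgroup G) (B : L → L → ℤ) (Φ : Set L) (ht : L →+ ℤ) (X V : L → Subgroup G)
    (ρ : L) : Prop where
  can : Can t B Φ X V
  Xne : ∀ r ∈ Φ, X r ≠ ⊥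
  Xdis : ∀ r ∈ Φ, ∀ s ∈ Φ, r ≠ s → X r ⊓ X s = ⊥
  dir : ∀ a ∈ Φ, 0 < ht a → X a ⊓ (⨆ b : L, ⨆ _ : b ∈ Φ ∧ ht a ≤ ht b ∧ b ≠ a, X b) = ⊥
  hne : ∀ a ∈ Φ, ht a ≠ 0
  Kt : ∀ x ∈ K, x * t = t * x
  tK : t ∉ K
  pT : IsPGroup 2 T
  tT : t ∈ T
  tc : ∀ x ∈ T, x * t = t * x
  /-- `T` is a Sylow subgroup of `C(t)` -/
  max : ∀ P : Subgroup G, IsPGroup 2 P → T ≤ P → (∀ x ∈ P, x * t = t * x) → P ≤ T
  TK : T ⊓ K = pos ht Φ X
  ρΦ : ρ ∈ Φ
  ρpos : 0 < ht ρ
  dom : ∀ a ∈ Φ, 0 < ht a → 0 ≤ B a ρ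
  /-- `x ∈ T` is, modulo `U`, a frame element, inducing a symmetry of the root system -/
  frame : ∀ x ∈ T, ∃ u ∈ pos ht Φ X, ∃ σ : L ≃+ L, (∀ a, σ a ∈ Φ ↔ a ∈ Φ) ∧
    (∀ a ∈ Φ, ∀ b ∈ Φ, B (σ a) (σ b) = B a b) ∧ (∀ a ∈ Φ, ht (σ a) = ht a) ∧
    ∀ a ∈ Φ, ∀ y, y ∈ X a ↔ (u * x) * y * (u * x)⁻¹ ∈ X (σ a)

namespace Fra

variable {t : G} {K T : Subgroup G} {B : L → L → ℤ} {Φ : Set L} {ht : L →+ ℤ} {X V : L → Subgroup G} {ρ : L}
  (D : Fra t K T B Φ ht X V ρ)

include D

theorem UT : pos ht Φ X ≤ T := by rw [← D.TK]; exact inf_le_left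

theorem UK : pos ht Φ X ≤ K := by rw [← D.TK]; exact inf_le_right

theorem UU : pos ht Φ X ≤ pos ht Φ V :=
  iSup₂_le fun a ha => (D.can.dbl.XW a ha.1).trans (le_pos ha.1 ha.2)

/-- roots not orthogonal to `ρ` are positive -/
theorem rad {a : L} (ha : a ∈ Φ) (h : 1 ≤ B a ρ) : 0 < ht a := by
  by_contra hcon
  have h1 := D.hne a ha
  have h2 : 0 < ht (-a) := by rw [map_neg]; omega
  have h3 := D.dom (-a) (D.can.roots.neg_mem a ha) h2
  rw [D.can.roots.neg_left] at h3
  omega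

/-- `V ρ` is central in `U*` -/
theorem cent {x v : G} (hx : x ∈ pos ht Φ V) (hv : v ∈ V ρ) : x * v = v * x := by
  have h1 : pos ht Φ V ≤ centralizer ({v} : Set G) := by
    refine iSup₂_le fun a ha y hy => ?_
    rw [mem_centralizer_singleton_iff]
    exact D.can.dbl.pos a ha.1 ρ D.ρΦ (D.dom a ha.1 ha.2) y hy v hv
  exact mem_centralizer_singleton_iff.1 (h1 hx)

/-- an element of `T` centralising `U` lies in `⟨t⟩ X ρ` -/
theorem mem_of_cent {x : G} (hx : x ∈ T) (h : ∀ u ∈ pos ht Φ X, x * u = u * x) : x ∈ X ρ ∨ t * x ∈ X ρ :=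
  D.can.K1 ρ D.ρΦ x (D.tc x hx) fun a ha h1 y hy => h y (le_pos ha (D.rad ha h1) hy)

/-- `T` normalises `X ρ` -/
theorem T_X {x y : G} (hx : x ∈ T) (hy : y ∈ X ρ) : x * y * x⁻¹ ∈ X ρ := by
  have hUn : ∀ u ∈ pos ht Φ X, x⁻¹ * u * x ∈ pos ht Φ X := by
    obtain ⟨w, hw, σ, hσ1, hσ2, hσ3, hσ4⟩ := D.frame x⁻¹ (inv_mem hx)
    have h1 : pos ht Φ X ≤ (pos ht Φ X).comap (MulAut.conj (w * x⁻¹)).toMonoidHom := by
      refine iSup₂_le fun a ha y hy => ?_
      exact le_pos ((hσ1 a).2 ha.1) (by rw [hσ3 a ha.1]; exact ha.2) ((hσ4 a ha.1 y).1 hy)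
    intro u hu
    have h2 : w * x⁻¹ * u * (w * x⁻¹)⁻¹ ∈ pos ht Φ X := h1 hu
    have h3 := mul_mem (mul_mem (inv_mem hw) h2) hw
    have e : w⁻¹ * (w * x⁻¹ * u * (w * x⁻¹)⁻¹) * w = x⁻¹ * u * x := by group
    rwa [e] at h3
  have hyU : y ∈ pos ht Φ X := le_pos D.ρΦ D.ρpos hy
  have hxy : x * y * x⁻¹ ∈ T := mul_mem (mul_mem hx (D.UT hyU)) (inv_mem hx)
  rcases D.mem_of_cent hxy (by
    intro u hu
    have h1 := (D.cent (D.UU (hUn u hu)) (D.can.dbl.XW ρ D.ρΦ hy)).symm
    calc x * y * x⁻¹ * u = x * (y * (x⁻¹ * u * x)) * x⁻¹ := by group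
      _ = x * (x⁻¹ * u * x * y) * x⁻¹ := by rw [h1]
      _ = u * (x * y * x⁻¹) := by group) with h1 | h1
  · exact h1
  · exfalso
    -- `x y x⁻¹ ∈ U`
    obtain ⟨w, hw, σ, hσ1, hσ2, hσ3, hσ4⟩ := D.frame x hx
    have h2 := (hσ4 ρ D.ρΦ y).1 hy
    have h3 : w * x * y * (w * x)⁻¹ ∈ pos ht Φ X :=
      le_pos ((hσ1 ρ).2 D.ρΦ) (by rw [hσ3 ρ D.ρΦ]; exact D.ρpos) h2
    have h4 := mul_mem (mul_mem (inv_mem hw) h3) hw
    have e : w⁻¹ * (w * x * y * (w * x)⁻¹) * w = x * y * x⁻¹ := by group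
    rw [e] at h4
    apply D.tK
    have h5 := mul_mem (D.UK (le_pos D.ρΦ D.ρpos h1)) (inv_mem (D.UK h4))
    rwa [mul_inv_cancel_right] at h5

/-- frame elements permute the doubled root groups -/
theorem frame_V {x u : G} (hx : x ∈ T) (hu : u ∈ pos ht Φ X) {σ : L ≃+ L} (hσ1 : ∀ a, σ a ∈ Φ ↔ a ∈ Φ)
    (hσ2 : ∀ a ∈ Φ, ∀ b ∈ Φ, B (σ a) (σ b) = B a b)
    (hσ4 : ∀ a ∈ Φ, ∀ y, y ∈ X a ↔ (u * x) * y * (u * x)⁻¹ ∈ X (σ a)) {a : L} (ha : a ∈ Φ) {v : G} (hv : v ∈ V a) :
    (u * x) * v * (u * x)⁻¹ ∈ V (σ a) := by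
  apply D.can.conj ha ((hσ1 a).2 ha) (D.tc _ (mul_mem (D.UT hu) hx)) (fun y hy => (hσ4 a ha y).1 hy) ?_ hv
  intro b hb h1
  have hb' : σ.symm b ∈ Φ := by rw [← hσ1, AddEquiv.apply_symm_apply]; exact hb
  refine ⟨σ.symm b, hb', ?_, ?_⟩
  · have h2 := hσ2 _ hb' _ ha
    rw [AddEquiv.apply_symm_apply] at h2
    omega
  · intro y hy
    rw [hσ4 _ hb']
    have e : u * x * ((u * x)⁻¹ * y * (u * x)) * (u * x)⁻¹ = y := by group
    rw [e, AddEquiv.apply_symm_apply]
    exact hy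

/-- frame elements fix `ρ` -/
theorem frame_ρ {x u : G} (hx : x ∈ T) (hu : u ∈ pos ht Φ X) {σ : L ≃+ L} (hσ1 : ∀ a, σ a ∈ Φ ↔ a ∈ Φ)
    (hσ4 : ∀ a ∈ Φ, ∀ y, y ∈ X a ↔ (u * x) * y * (u * x)⁻¹ ∈ X (σ a)) : σ ρ = ρ := by
  by_contra hne
  obtain ⟨y, hy⟩ := (Subgroup.ne_bot_iff_exists_ne_one).1 (D.Xne ρ D.ρΦ)
  have h1 := (hσ4 ρ D.ρΦ y).1 y.2
  have h2 := D.T_X (mul_mem (D.UT hu) hx) y.2
  have h3 := D.Xdis _ ((hσ1 ρ).2 D.ρΦ) ρ D.ρΦ hne
  have h4 : u * x * y * (u * x)⁻¹ ∈ (⊥ : Subgroup G) := by rw [← h3]; exact ⟨h1, h2⟩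
  apply hy
  apply Subtype.ext
  rw [mem_bot] at h4
  have h5 : (y : G) = (u * x)⁻¹ * (u * x * y * (u * x)⁻¹) * (u * x) := by group
  rw [h5, h4]; simp

/-- `T` normalises `V ρ` -/
theorem T_V {x v : G} (hx : x ∈ T) (hv : v ∈ V ρ) : x * v * x⁻¹ ∈ V ρ := by
  obtain ⟨u, hu, σ, hσ1, hσ2, hσ3, hσ4⟩ := D.frame x hx
  have h1 := D.frame_V hx hu hσ1 hσ2 hσ4 D.ρΦ hv
  rw [D.frame_ρ hx hu hσ1 hσ4] at h1
  have h2 := D.cent (D.UU hu) h1
  have e : x * v * x⁻¹ = u⁻¹ * (u * x * v * (u * x)⁻¹) * u := by group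
  rw [e, mul_assoc, ← h2, inv_mul_cancel_left]
  exact h1

/-- `T` normalises `U*` -/
theorem T_U {x v : G} (hx : x ∈ T) (hv : v ∈ pos ht Φ V) : x * v * x⁻¹ ∈ pos ht Φ V := by
  obtain ⟨u, hu, σ, hσ1, hσ2, hσ3, hσ4⟩ := D.frame x hx
  have h1 : pos ht Φ V ≤ (pos ht Φ V).comap (MulAut.conj (u * x)).toMonoidHom := by
    refine iSup₂_le fun a ha y hy => ?_
    exact le_pos ((hσ1 a).2 ha.1) (by rw [hσ3 a ha.1]; exact ha.2) (D.frame_V hx hu hσ1 hσ2 hσ4 ha.1 hy)
  have h2 : u * x * v * (u * x)⁻¹ ∈ pos ht Φ V := h1 hv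
  have h3 := mul_mem (mul_mem (inv_mem (D.UU hu)) h2) (D.UU hu)
  have e : u⁻¹ * (u * x * v * (u * x)⁻¹) * u = x * v * x⁻¹ := by group
  rwa [e] at h3

theorem T_le : T ≤ normalizer (pos ht Φ V : Set G) := by
  intro x hx
  rw [mem_normalizer_iff]
  intro v
  constructor
  · exact D.T_U hx
  · intro hv
    have h3 := D.T_U (inv_mem hx) hv
    have e : x⁻¹ * (x * v * x⁻¹) * x⁻¹⁻¹ = v := by group
    rwa [e] at h3

/-- **Case B.** -/
theorem bData [Finite G] {A : Type*} [CommGroup A] (θ δ : T →* A)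
    (hθ : ∀ x : T, θ x = 1 ↔ ∀ v ∈ V ρ, (x : G) * v = v * x)
    (hθ2 : ∀ x : T, θ (x * x) = 1 → θ x = 1 ∨ θ x = θ ⟨t, D.tT⟩)
    (hδ : ∀ x : T, δ x = 1 ∨ δ x = θ ⟨t, D.tT⟩) (hδt : δ ⟨t, D.tT⟩ = 1)
    (hδU : ∀ x (hx : x ∈ T), x ∈ pos ht Φ X → δ ⟨x, hx⟩ = 1)
    (hker : ∀ x : T, θ x = 1 → δ x = 1 → (x : G) ∈ pos ht Φ X)
    (perf : ∀ P : Subgroup G, ⁅P, P⁆ = P → (∀ x ∈ P, x * t = t * x) → P ≤ K)
    (P2 : ∀ a ∈ Φ, 0 < ht a → ∃ P ≤ K, ⁅P, P⁆ = P ∧ X a ≤ P ∧ ∀ x ∈ P, ∀ p ∈ X a, x * p = p * x) :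
    ∃ (θ' δ' : ↥(pos ht Φ V ⊔ T) →* A), BData t K T (pos ht Φ V ⊔ T) (V ρ) θ' δ' (θ ⟨t, D.tT⟩)
      {p | ∃ a ∈ Φ, 0 < ht a ∧ p ∈ X a} := by
  obtain ⟨hU1, hU2, hU3⟩ := Ustar.main D.can.roots D.can.dbl ht D.dir
  have tt := D.can.tt
  have tinv := D.can.tinv
  -- `U* ∩ T = U`
  have hUT : ∀ x ∈ T, x ∈ pos ht Φ V → x ∈ pos ht Φ X := by
    intro x hx hxU
    apply hU2 x hxU
    rw [← D.tc x hx, mul_assoc, tt, mul_one]
  have hθU : ∀ x (hx : x ∈ T), x ∈ pos ht Φ V → θ ⟨x, hx⟩ = 1 := by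
    intro x hx hxU
    rw [hθ]
    intro v hv
    exact D.cent hxU hv
  obtain ⟨θ', hθ'N, hθ'T⟩ := Ustar.exists_ext D.T_le θ hθU
  obtain ⟨δ', hδ'N, hδ'T⟩ := Ustar.exists_ext D.T_le δ fun x hx hxU => hδU x hx (hUT x hx hxU)
  have hdec : ∀ s : ↥(pos ht Φ V ⊔ T), ∃ n, ∃ hn : n ∈ pos ht Φ V, ∃ x, ∃ hx : x ∈ T,
      s = ⟨n, mem_sup_left hn⟩ * ⟨x, mem_sup_right hx⟩ := by
    rintro ⟨s, hs⟩
    have hs' : s ∈ ((pos ht Φ V ⊔ T : Subgroup G) : Set G) := hs
    rw [coe_mul_of_right_le_normalizer_left _ T D.T_le] at hs'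
    obtain ⟨n, hn, x, hx, e⟩ := Set.mem_mul.1 hs'
    exact ⟨n, hn, x, hx, Subtype.ext e.symm⟩
  have hval : ∀ (n : G) (hn : n ∈ pos ht Φ V) (x : G) (hx : x ∈ T),
      θ' (⟨n, mem_sup_left hn⟩ * ⟨x, mem_sup_right hx⟩) = θ ⟨x, hx⟩ ∧
      δ' (⟨n, mem_sup_left hn⟩ * ⟨x, mem_sup_right hx⟩) = δ ⟨x, hx⟩ := by
    intro n hn x hx
    rw [map_mul, map_mul, hθ'N n hn, hδ'N n hn, one_mul, one_mul, hθ'T x hx, hδ'T x hx]
    exact ⟨rfl, rfl⟩
  have hι : θ ⟨t, D.tT⟩ ≠ 1 := by
    intro h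
    rw [hθ] at h
    obtain ⟨y, hy⟩ := (Subgroup.ne_bot_iff_exists_ne_one).1 (D.Xne ρ D.ρΦ)
    obtain ⟨w, hw, e⟩ := D.can.dbl.surj ρ D.ρΦ y y.2
    apply hy
    apply Subtype.ext
    have h1 : t * w = w * t := h w hw
    rw [← e, h1, mul_assoc w, tt, mul_one, inv_mul_cancel]
    rfl
  have hιι : θ ⟨t, D.tT⟩ * θ ⟨t, D.tT⟩ = 1 := by
    rw [← map_mul, ← map_one θ]
    congr 1
    exact Subtype.ext tt
  refine ⟨θ', δ', ?_⟩
  exact
    { tt := tt
      pS := by
        rw [sup_comm]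
        exact D.pT.to_sup_of_normal_right' hU1 D.T_le
      TS := le_sup_right
      tT := D.tT
      tc := D.tc
      max := D.max
      i1 := hι
      ii := hιι
      θt := hθ'T t D.tT
      δt := by
        have := hδ'T t D.tT
        rw [this]; exact hδt
      valθ := by
        intro s hss
        obtain ⟨n, hn, x, hx, rfl⟩ := hdec s
        have h1 := (hval n hn x hx).1
        rw [h1]
        apply hθ2
        have h2 : θ' ((⟨n, mem_sup_left hn⟩ * ⟨x, mem_sup_right hx⟩) *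
            (⟨n, mem_sup_left hn⟩ * ⟨x, mem_sup_right hx⟩)) = 1 := by rw [hss, map_one]
        rw [map_mul, h1] at h2
        rw [map_mul]; exact h2
      valδ := by
        intro s _
        obtain ⟨n, hn, x, hx, rfl⟩ := hdec s
        rw [(hval n hn x hx).2]
        exact hδ _
      conj := by
        intro s hss h1 h2
        obtain ⟨n, hn, x, hx, rfl⟩ := hdec s
        rw [(hval n hn x hx).1] at h1
        rw [(hval n hn x hx).2] at h2
        -- `t x ∈ U`
        have h3 : t * x ∈ pos ht Φ X := by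
          refine hker (⟨t, D.tT⟩ * ⟨x, hx⟩) ?_ ?_
          · rw [map_mul, h1, hιι]
          · rw [map_mul, h2, hδt, one_mul]
        -- `t n x ∈ U*`
        have h4 : t * (n * x) ∈ pos ht Φ V := by
          have h5 := mul_mem (D.T_U D.tT hn) (D.UU h3)
          have e : t * n * t⁻¹ * (t * x) = t * (n * x) := by group
          rwa [e] at h5
        have h5 : (t * (t * (n * x))) * (t * (t * (n * x))) = 1 := by
          have e : t * (t * (n * x)) = n * x := by rw [← mul_assoc, tt, one_mul]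
          rw [e]
          exact congrArg Subtype.val hss
        obtain ⟨c, hc, e⟩ := hU3 _ h4 h5
        refine ⟨c, mem_sup_left hc, ?_⟩
        rw [← e, ← mul_assoc, tt, one_mul]
        rfl
      WS := (le_pos D.ρΦ D.ρpos).trans le_sup_left
      Wc := by
        intro s hs w hw
        obtain ⟨n, hn, x, hx, rfl⟩ := hdec s
        rw [(hval n hn x hx).1, hθ] at hs
        show n * x * w = w * (n * x)
        have h1 : x * w = w * x := hs w hw
        rw [mul_assoc, h1, ← mul_assoc, D.cent hn hw, mul_assoc]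
      Wδ := fun w hw => hδ'N w (le_pos D.ρΦ D.ρpos hw)
      tK := D.tK
      perf := perf
      Kt := D.Kt
      θK := by
        intro x hx hxK
        rw [hθ'T x hx, hθ]
        intro v hv
        have h1 : x ∈ pos ht Φ X := by rw [← D.TK]; exact ⟨hx, hxK⟩
        exact D.cent (D.UU h1) hv
      rT := by
        rintro p ⟨a, ha, h0, hp⟩
        exact D.UT (le_pos ha h0 hp)
      rr := by
        rintro p ⟨a, ha, h0, hp⟩
        exact D.can.dbl.sq a ha p (D.can.dbl.XW a ha hp)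
      rP := by
        rintro p ⟨a, ha, h0, hp⟩
        obtain ⟨P, h1, h2, h3, h4⟩ := P2 a ha h0
        exact ⟨P, h1, h2, h3 hp, fun x hx => h4 x hx p hp⟩
      small := by
        intro P hPT hc htP hcard
        have key : ∀ v ∈ P, v ∈ X ρ ∨ t * v ∈ X ρ := by
          intro v hv
          apply D.mem_of_cent (hPT hv)
          intro u hu
          have h1 : pos ht Φ X ≤ centralizer ({v} : Set G) := by
            refine iSup₂_le fun a ha y hy => ?_
            rw [mem_centralizer_singleton_iff]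
            exact hc y ⟨a, ha.1, ha.2, hy⟩ v hv
          exact (mem_centralizer_singleton_iff.1 (h1 hu)).symm
        have h5 : Nat.card P ≤ 2 * Nat.card (X ρ) := by
          classical
          have h6 : Function.Injective (fun v : P => (if h : (v : G) ∈ X ρ then ((0 : Fin 2), (⟨v, h⟩ : X ρ))
              else (1, ⟨t * v, (key v v.2).resolve_left h⟩) : Fin 2 × X ρ)) := by
            intro a b hab
            dsimp only at hab
            split_ifs at hab with ha hb hb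
            · have h7 := congrArg (fun q => ((q.2 : X ρ) : G)) hab
              exact Subtype.ext h7
            · exact absurd (congrArg Prod.fst hab) (by simp)
            · exact absurd (congrArg Prod.fst hab) (by simp)
            · have h7 := congrArg (fun q => ((q.2 : X ρ) : G)) hab
              exact Subtype.ext (mul_left_cancel h7)
          have h7 := Nat.card_le_card_of_injective _ h6
          rwa [Nat.card_prod, Nat.card_fin] at h7
        rw [hcard, D.can.card_V D.ρΦ] at h5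
        have h6 : Nat.card (X ρ) ≤ 2 := Nat.le_of_mul_le_mul_right h5 Nat.card_pos
        have h7 : 1 < Nat.card (X ρ) := by
          obtain ⟨y, hy⟩ := (Subgroup.ne_bot_iff_exists_ne_one).1 (D.Xne ρ D.ρΦ)
          have : Nontrivial (X ρ) := ⟨⟨y, 1, hy⟩⟩
          exact Finite.one_lt_card
        have h8 : Nat.card (X ρ) = 2 := by omega
        rw [D.can.card_V D.ρΦ, h8] at hcard
        -- `X ρ ∪ t X ρ` has four elements, so `P` contains `t`
        apply htP
        classical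
        have h9 : Function.Injective (fun v : P => (if h : (v : G) ∈ X ρ then ((0 : Fin 2), (⟨v, h⟩ : X ρ))
            else (1, ⟨t * v, (key v v.2).resolve_left h⟩) : Fin 2 × X ρ)) := by
          intro a b hab
          dsimp only at hab
          split_ifs at hab with ha hb hb
          · have h7 := congrArg (fun q => ((q.2 : X ρ) : G)) hab
            exact Subtype.ext h7
          · exact absurd (congrArg Prod.fst hab) (by simp)
          · exact absurd (congrArg Prod.fst hab) (by simp)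
          · have h7 := congrArg (fun q => ((q.2 : X ρ) : G)) hab
            exact Subtype.ext (mul_left_cancel h7)
        have h10 := (Nat.bijective_iff_injective_and_card _).2 ⟨h9, by
          rw [Nat.card_prod, Nat.card_fin, h8, hcard]⟩
        obtain ⟨v, hv⟩ := h10.2 (1, 1)
        dsimp only at hv
        split_ifs at hv with h
        · exact absurd (congrArg Prod.fst hv) (by simp)
        · have h11 := congrArg (fun q => ((q.2 : X ρ) : G)) hv
          have h12 : t * (v : G) = 1 := h11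
          have h13 : t = v := by
            have := mul_eq_one_iff_eq_inv.1 h12
            have h14 : (v : G) = t⁻¹ := eq_inv_of_mul_eq_one_right h12
            rw [h14, tinv]
          rw [h13]; exact v.2 }

end Fra

end Cfsg.Agent.OddHalf.D7End.FrameB

end

-- merged: Cfsg.Agent.OddHalf.D7End.Inst
section

/-!
# The end for simply laced `K` (helper163, bb ODD 9501)

`D : Datum ⊤ q cs h T₀ n X` in `↥K`, `X̃ r` the images in `G`.

* `exists_rep` : the roots are conjugate; `dat` : the datum in `G`;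
* `canOf` : `Can`; `conj_V` : equivariance of the doubled root groups;
* `fra` : the frame `FrameB.Fra`.
-/

set_option autoImplicit false
set_option linter.unusedSectionVars false

namespace Cfsg.Agent.OddHalf.D7End.Inst

open CoxeterSystem Cfsg.Agent.ChevalleyStructure.CoxeterGeom Cfsg.Agent.Tits.Roots Cfsg.Agent.Tits.Core
  Cfsg.Agent.Tits.RootComb Cfsg.Agent.Tits.Exchange Cfsg.Agent.Nodes.Comb Cfsg.Agent.Nodes.Reps
  Cfsg.Agent.Nodes.BNOf Cfsg.Agent.Nodes.StabComb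
  Cfsg.Agent.Nodes.Bruhat Cfsg.Agent.Nodes.Coroot Cfsg.Agent.OddHalf.SL.Index Cfsg.Agent.OddHalf.SL.OfRGD
  Cfsg.Agent.OddHalf.SL.PreOf Cfsg.Agent.KFacts.RgdSL Cfsg.Agent.KFacts.RgdTI Cfsg.Agent.KFacts.RgdCent
  Cfsg.Agent.KFacts.SLRow.Def Cfsg.Agent.OddHalf.D7End.Canon Cfsg.Agent.OddHalf
  Cfsg.Agent.KFacts.RgdAut Cfsg.Agent.KFacts.RgdDiag Cfsg.Agent.KFacts.RgdField Cfsg.Agent.KFacts.RgdTau
open scoped commutatorElement

section Dat

variable {I : Type*} {W : Type*} {Y : Type*} [Fintype I] [DecidableEq I] [Group W] [Group Y] {M : CoxeterMatrix I}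
  {K : Subgroup Y} {q : ℕ} {cs : CoxeterSystem M W} {A : I → I → ℤ} {h : IsCartan M A} {T : Subgroup Y}
  {n : I → Y} {X : (I → ℤ) → Subgroup Y}

/-- the roots are conjugate -/
theorem exists_rep [Finite W] (D : Datum K q cs h T n X) {r₀ r : I → ℤ} (hr₀ : IsRoot cs h r₀)
    (hr : IsRoot cs h r) : ∃ w, rep cs h w r₀ = r := by
  have h2 : 2 ≤ Fintype.card I := by have := D.three; omega
  refine ind D.h4 D.h6 D.irr h2 (P := fun r => ∃ w, rep cs h w r₀ = r) hr₀ ⟨1, by
    rw [map_one, Module.End.one_apply]⟩ ?_ hr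
  rintro _ s _ hs hrs ⟨w, rfl⟩
  have hR := roots cs h D.h4 D.h6
  have hr' : IsRoot cs h (rep cs h w r₀) := hr₀.act w
  obtain ⟨s', hs'⟩ : ∃ s' : W, ∀ y, rep cs h s' y = y - cpr cs h y (rep cs h w r₀ - s) • (rep cs h w r₀ - s) := by
    obtain ⟨v, i, e⟩ := hR.sub_mem hr' hs hrs
    refine ⟨v * cs.simple i * v⁻¹, fun y => ?_⟩
    rw [rep_mul_apply, rep_mul_apply, rep_simple_eq, map_sub, rep_apply_inv, map_smul,
      ← cpr_rep_sr (cs := cs) (h := h), ← e]
  refine ⟨s'⁻¹ * w, ?_⟩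
  rw [rep_mul_apply]
  have h3 := rep_sub D.h4 D.h6 hr' hs hrs hs'
  rw [← h3, rep_inv_apply]

theorem Xnd [Finite W] (D : Datum K q cs h T n X) : ∀ r ∈ {x | IsRoot cs h x}, ∀ s ∈ {x | IsRoot cs h x},
    Bf A r s = -1 → ∀ x ∈ X r, ∀ y ∈ X s, x * y = y * x → x = 1 ∨ y = 1 := by
  intro r hr s hs hrs x hx y hy hxy
  by_contra hcon
  push Not at hcon
  exact (a2 D.h4 D.h6 hr hs hrs).comm_ne_one D.rgd hx hcon.1 hy hcon.2
    (commutatorElement_eq_one_iff_mul_comm.2 hxy)

theorem Xgen [Finite W] (D : Datum K q cs h T n X) : ∀ r ∈ {x | IsRoot cs h x}, ∀ s ∈ {x | IsRoot cs h x},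
    Bf A r s = -1 → X (r + s) ≤ ⁅X r, X s⁆ := by
  intro r hr s hs hrs z hz
  obtain ⟨u, hu⟩ := (Subgroup.ne_bot_iff_exists_ne_one).1 (SL.OfRGD.X_ne_bot D.rgd hr)
  obtain ⟨v, hv, e⟩ := (a2 D.h4 D.h6 hr hs hrs).comm_surj D.rgd u.2 (fun h1 => hu (Subtype.ext h1)) hz
  rw [← e]
  exact Subgroup.commutator_mem_commutator u.2 hv

theorem one [Finite W] (D : Datum K q cs h T n X) : ∀ r ∈ {x | IsRoot cs h x}, ∃ s ∈ {x | IsRoot cs h x},
    Bf A r s = 1 := by
  intro r hr
  obtain ⟨s, hs, hrs⟩ := exists_neg_one D.h4 D.h6 D.irr D.three hr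
  have hR := roots cs h D.h4 D.h6
  exact ⟨-s, hR.neg_mem s hs, by rw [hR.neg_right, hrs]; norm_num⟩

theorem Xdis [Finite W] (D : Datum K q cs h T n X) : ∀ r ∈ {x | IsRoot cs h x}, ∀ s ∈ {x | IsRoot cs h x},
    r ≠ s → X r ⊓ X s = ⊥ := fun _ hr _ hs hrs => Cfsg.Agent.Nodes.OppDec.X_inf_X D.rgd hr hs hrs

theorem hne [Finite W] : ∀ a ∈ {x | IsRoot cs h x}, hth a ≠ 0 := by
  intro a ha h0
  rcases ha.pos_or_neg with h1 | h1
  · have := (hth_pos_iff ha).2 h1
    omega
  · have h2 : 0 < hth (-a) := (hth_pos_iff ha.neg).2 (neg_nonneg.2 h1)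
    rw [map_neg] at h2
    omega

theorem gen' (D : Datum K q cs h T n X) : K ≤ ⨆ r ∈ {x | IsRoot cs h x}, X r := by
  rw [← D.gen]
  exact iSup_le fun z => le_iSup₂_of_le (f := fun r (_ : r ∈ {x | IsRoot cs h x}) => X r) z.1 z.2 le_rfl

end Dat

section Comp

variable {I : Type*} {W : Type*} [Fintype I] [DecidableEq I] [Group W] {M : CoxeterMatrix I}
  {cs : CoxeterSystem M W} {A : I → I → ℤ} {h : IsCartan M A}

/-- a diagram symmetry acting on the root lattice -/
def comp (σ : Equiv.Perm I) : (I → ℤ) ≃+ (I → ℤ) where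
  toFun x := x ∘ σ.symm
  invFun x := x ∘ σ
  left_inv x := by funext i; simp
  right_inv x := by funext i; simp
  map_add' _ _ := rfl

theorem comp_apply (σ : Equiv.Perm I) (x : I → ℤ) : comp σ x = x ∘ σ.symm := rfl

theorem bf_comp {σ : Equiv.Perm I} (hA : ∀ i j, A (σ i) (σ j) = A i j) (x y : I → ℤ) :
    Bf A (comp σ x) (comp σ y) = Bf A x y := by
  unfold Bf
  rw [← Equiv.sum_comp σ]
  refine Finset.sum_congr rfl fun k _ => ?_
  rw [comp_apply, comp_apply, pairing_comp hA, Function.comp_apply, Equiv.symm_apply_apply]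

theorem hth_comp (σ : Equiv.Perm I) (x : I → ℤ) : hth (comp σ x) = hth x := by
  rw [hth_apply, hth_apply]
  unfold ht
  rw [← Equiv.sum_comp σ]
  refine Finset.sum_congr rfl fun k _ => ?_
  rw [comp_apply, Function.comp_apply, Equiv.symm_apply_apply]

theorem isRoot_comp {σ : Equiv.Perm I} (hσ : ∀ i j, M (σ i) (σ j) = M i j)
    (hA : ∀ i j, A (σ i) (σ j) = A i j) {r : I → ℤ} (hr : IsRoot cs h r) : IsRoot cs h (comp σ r) := by
  obtain ⟨w, i, rfl⟩ := hr
  rw [comp_apply, ← rep_hat hσ hA, sr_comp]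
  exact ⟨_, _, rfl⟩

theorem isRoot_comp_iff {σ : Equiv.Perm I} (hσ : ∀ i j, M (σ i) (σ j) = M i j)
    (hA : ∀ i j, A (σ i) (σ j) = A i j) {r : I → ℤ} : IsRoot cs h (comp σ r) ↔ IsRoot cs h r := by
  refine ⟨fun hr => ?_, isRoot_comp hσ hA⟩
  have h1 : ∀ k, σ (σ.symm k) = k := fun k => σ.apply_symm_apply k
  have h2 := isRoot_comp (cs := cs) (h := h) (σ := σ.symm) (fun i j => by rw [← hσ, h1, h1])
    (fun i j => by rw [← hA, h1, h1]) hr
  have h3 : comp σ.symm (comp σ r) = r := by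
    funext i
    rw [comp_apply, comp_apply]
    simp
  rwa [h3] at h2

end Comp

section Main

variable {I : Type*} {W : Type*} [Fintype I] [DecidableEq I] [Group W] {M : CoxeterMatrix I}
  {cs : CoxeterSystem M W} {A : I → I → ℤ} {h : IsCartan M A}
  {G : Type*} [Group G] {K : Subgroup G} {q : ℕ} {T₀ : Subgroup ↥K} {n : I → ↥K} {X : (I → ℤ) → Subgroup ↥K}
  {F : Type*} [Field F] {x : (I → ℤ) → F → ↥K} {χ : (I → ℤ) → ↥K → F} {hh : I → F → ↥K}
  {t : G} {U Z T : Subgroup G} {ρ : I → ℤ} {V : (I → ℤ) → Subgroup G}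

/-- the image in `G` -/
def img (X : (I → ℤ) → Subgroup ↥K) (r : I → ℤ) : Subgroup G := (X r).map K.subtype

theorem img_le (r : I → ℤ) : img X r ≤ K := Subgroup.map_subtype_le _

/-- the datum in `G` -/
theorem dat (D : Datum ⊤ q cs h T₀ n X) :
    Datum K q cs h (T₀.map K.subtype) (fun i => K.subtype (n i)) (img X) := by
  have := D.map K.subtype K.subtype_injective
  rwa [← MonoidHom.range_eq_map, Subgroup.range_subtype] at this

theorem t_notMem (E : D7Out.Defs.Fr t t K U Z T) : t ∉ K := fun h => E.t1 (E.KR t h E.tR)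

theorem canOf [Finite W] (D : Datum ⊤ q cs h T₀ n X) (E : D7Out.Defs.Fr t t K U Z T)
    (Db : SL.Defs.Dbl t (Bf A) {x | IsRoot cs h x} (img X) V)
    (K1 : ∀ r ∈ {x | IsRoot cs h x}, ∀ c, c * t = t * c →
      (∀ a ∈ {x | IsRoot cs h x}, 1 ≤ Bf A a r → ∀ x ∈ img X a, c * x = x * c) → c ∈ img X r ∨ t * c ∈ img X r) :
    Can t (Bf A) {x | IsRoot cs h x} (img X) V where
  roots := roots cs h D.h4 D.h6
  dbl := Db
  tX r _ ht := t_notMem E (img_le r ht)
  K1 := K1

/-- the doubled root groups are permuted by the representatives of the Weyl group -/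
theorem conj_V [Finite W] (D : Datum ⊤ q cs h T₀ n X) (E : D7Out.Defs.Fr t t K U Z T)
    (C : Can t (Bf A) {x | IsRoot cs h x} (img X) V) {w : W} {k : G} (hk : Rp cs (dat D).rgd.nsys w k)
    (hkK : k ∈ K) {r : I → ℤ} (hr : IsRoot cs h r) : CaseA.cj k (V r) = V (rep cs h w r) := by
  have key : ∀ {w : W} {k : G}, Rp cs (dat D).rgd.nsys w k → k ∈ K → ∀ {r : I → ℤ}, IsRoot cs h r →
      ∀ v ∈ V r, k * v * k⁻¹ ∈ V (rep cs h w r) := by
    intro w k hk hkK r hr v hv
    have hkt : k * t = t * k := D7Out.Front.Kt E hkK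
    refine C.conj hr (hr.act w) hkt (fun y hy => ?_) (fun b hb h1 => ?_) hv
    · have h2 := (dat D).rgd.conj_rp hk hr
      rw [← h2]
      exact conj_mem_cj.2 hy
    · refine ⟨rep cs h w⁻¹ b, hb.act _, ?_, fun y hy => ?_⟩
      · have h2 : Bf A (rep cs h w⁻¹ b) r = Bf A b (rep cs h w r) := by
          rw [← bf_rep (cs := cs) (h := h) D.h4 D.h6 w, rep_apply_inv]
        rw [h2]; omega
      · have h2 := (dat D).rgd.conj_rp hk.inv hb
        rw [← h2, mem_cj]
        have e : k⁻¹⁻¹ * (k⁻¹ * y * k) * k⁻¹ = y := by group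
        rw [e]; exact hy
  apply le_antisymm
  · rintro _ ⟨v, hv, rfl⟩
    exact key hk hkK hr v hv
  · intro v hv
    rw [CaseA.mem_cj]
    have h2 := key hk.inv (inv_mem hkK) (hr.act w) v hv
    rw [rep_inv_apply] at h2
    have e : k⁻¹ * v * k⁻¹⁻¹ = k⁻¹ * v * k := by group
    rwa [e] at h2

theorem rp_mem (D : Datum ⊤ q cs h T₀ n X) {w : W} {k : G} (hk : Rp cs (dat D).rgd.nsys w k) : k ∈ K := by
  rw [← (dat D).GG_eq]
  exact NN_le_GG (dat D).rgd ⟨_, hk⟩

/-- the frame -/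
theorem fra [Finite G] [Finite W] [Nonempty I] [CharP F 2] (D : Datum ⊤ q cs h T₀ n X)
    (E : D7Out.Defs.Fr t t K U Z T) (C : Can t (Bf A) {x | IsRoot cs h x} (img X) V)
    (hU : U = (RGD.Sup X (RGD.Pos cs h)).map K.subtype) (hρ : IsRoot cs h ρ) (hd : ∀ i, 0 ≤ cpr cs h (sr i) ρ)
    (g : ↥T → Equiv.Perm I × (F ≃+* F))
    (hg : ∀ y : ↥T, ∃ u ∈ RGD.Sup X (RGD.Pos cs h), Tau T₀ X χ A (MulAut.conj u * D7Out.Outer.act E y) (g y).1 (g y).2) :
    FrameB.Fra t K T (Bf A) {x | IsRoot cs h x} hth (img X) V ρ := by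
  have hUe : SL.Bridge.pos hth {x | IsRoot cs h x} (img X) = U := by
    rw [pos_eq, hU]
    unfold RGD.Sup
    rw [Subgroup.map_iSup]
    rfl
  exact
    { can := C
      Xne := fun r hr => SL.OfRGD.X_ne_bot (dat D).rgd hr
      Xdis := Xdis (dat D)
      dir := dir D.h4 D.h6 (dat D).rgd
      hne := hne
      Kt := fun x hx => D7Out.Front.Kt E hx
      tK := t_notMem E
      pT := E.pT
      tT := E.vT
      tc := E.tc
      max := E.max
      TK := by rw [hUe, E.U_eq]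
      ρΦ := hρ
      ρpos := (hth_pos_iff hρ).2 (D7Out.FrOf.rho_pos hρ hd).2
      dom := fun a ha h0 => by
        rw [bf_eq_cpr D.h4 D.h6 _ hρ]
        exact D7Out.FrOf.dom_nonneg hρ hd ((hth_pos_iff ha).1 h0)
      frame := by
        intro y hy
        obtain ⟨u, hu, S⟩ := hg ⟨y, hy⟩
        have hσ := S.diag.matrix D.rgd
        refine ⟨u, ?_, comp (g ⟨y, hy⟩).1, fun a => isRoot_comp_iff hσ S.cartan, fun a _ b _ => bf_comp S.cartan a b,
          fun a _ => hth_comp _ a, fun a ha v => ?_⟩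
        · rw [hUe, hU]
          exact ⟨u, hu, rfl⟩
        · have h1 := Diag.root_comp D.rgd S.diag S.cartan ha
          have hcomp : ∀ v : ↥K, (((MulAut.conj u * D7Out.Outer.act E ⟨y, hy⟩) v : ↥K) : G) =
              (u : G) * y * v * ((u : G) * y)⁻¹ := by
            intro v
            show (u : G) * (y * v * y⁻¹) * (u : G)⁻¹ = _
            group
          constructor
          · rintro ⟨v, hv, rfl⟩
            refine ⟨_, (h1 v).2 hv, hcomp v⟩
          · rintro ⟨w, hw, e⟩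
            obtain ⟨v', rfl⟩ := (MulAut.conj u * D7Out.Outer.act E ⟨y, hy⟩).surjective w
            refine ⟨v', (h1 v').1 hw, ?_⟩
            have e' : (((MulAut.conj u * D7Out.Outer.act E ⟨y, hy⟩) v' : ↥K) : G) = (u : G) * y * v * ((u : G) * y)⁻¹ := e
            rw [hcomp] at e'
            have e2 := mul_right_cancel e'
            exact mul_left_cancel e2 }

/-- `K` is transitive on the pairs (root group, doubled root group) -/
theorem trans [Finite W] (D : Datum ⊤ q cs h T₀ n X) (E : D7Out.Defs.Fr t t K U Z T)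
    (C : Can t (Bf A) {x | IsRoot cs h x} (img X) V) (hρ : IsRoot cs h ρ) :
    ∀ r ∈ {x | IsRoot cs h x}, ∃ k ∈ K, CaseA.cj k (img X ρ) = img X r ∧ CaseA.cj k (V ρ) = V r := by
  intro r hr
  obtain ⟨w, rfl⟩ := exists_rep D hρ hr
  obtain ⟨k, hk⟩ := exists_rp cs (dat D).rgd.nsys w
  exact ⟨k, rp_mem D hk, (dat D).rgd.conj_rp hk hρ, conj_V D E C hk (rp_mem D hk) hρ⟩

theorem P2_all [Finite W] (D : Datum ⊤ q cs h T₀ n X) (E : D7Out.Defs.Fr t t K U Z T)
    (C : Can t (Bf A) {x | IsRoot cs h x} (img X) V) (hρ : IsRoot cs h ρ)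
    (P2 : ∃ P ≤ K, ⁅P, P⁆ = P ∧ img X ρ ≤ P ∧ ∀ x ∈ P, ∀ p ∈ img X ρ, x * p = p * x) :
    ∀ a ∈ {x | IsRoot cs h x}, ∃ P ≤ K, ⁅P, P⁆ = P ∧ img X a ≤ P ∧ ∀ x ∈ P, ∀ p ∈ img X a, x * p = p * x := by
  intro a ha
  obtain ⟨k, hk, hkX, -⟩ := trans D E C hρ a ha
  obtain ⟨P, hPK, hPP, hXP, hc⟩ := P2
  refine ⟨CaseA.cj k P, ?_, ?_, ?_, ?_⟩
  · rintro _ ⟨x, hx, rfl⟩
    exact mul_mem (mul_mem hk (hPK hx)) (inv_mem hk)
  · rw [CaseA.cj_commutator, hPP]
  · rw [← hkX]
    exact CaseA.cj_mono hXP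
  · rintro _ ⟨x, hx, rfl⟩ p hp
    rw [← hkX, CaseA.mem_cj] at hp
    show k * x * k⁻¹ * p = p * (k * x * k⁻¹)
    have h1 := hc x hx _ hp
    calc k * x * k⁻¹ * p = k * (x * (k⁻¹ * p * k)) * k⁻¹ := by group
      _ = k * (k⁻¹ * p * k * x) * k⁻¹ := by rw [h1]
      _ = p * (k * x * k⁻¹) := by group

/-- **Case A.** -/
theorem false_A [Finite G] [Finite W] (hG : commutator G = ⊤) (D : Datum ⊤ q cs h T₀ n X)
    (E : D7Out.Defs.Fr t t K U Z T) (C : Can t (Bf A) {x | IsRoot cs h x} (img X) V) (hρ : IsRoot cs h ρ)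
    (simp : ∀ L ≤ K, (∀ k ∈ K, ∀ l ∈ L, k * l * k⁻¹ ∈ L) → L = ⊥ ∨ L = K)
    (perf : ∀ P : Subgroup G, ⁅P, P⁆ = P → (∀ x ∈ P, x * t = t * x) → P ≤ K)
    {H : Subgroup G} (AV : H ≤ V ρ) (inf : ∀ a ∈ H, t * a * t ∈ H → a = 1)
    (card : Nat.card H * Nat.card H = Nat.card (V ρ))
    (nrm : ∀ k ∈ K, CaseA.cj k (img X ρ) = img X ρ → CaseA.cj k H ≤ H)
    (br : ∀ r ∈ {x | IsRoot cs h x}, ∀ s ∈ {x | IsRoot cs h x}, Bf A r s = -1 →
      ∀ k ∈ K, CaseA.cj k (img X ρ) = img X r → ∀ l ∈ K, CaseA.cj l (img X ρ) = img X s →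
      ∀ a ∈ H, ∀ b ∈ H, (k * a * k⁻¹) * (l * (t * b * t) * l⁻¹) = (l * (t * b * t) * l⁻¹) * (k * a * k⁻¹)) :
    False := by
  have k1 : K ≤ ⨆ r ∈ {x | IsRoot cs h x}, img X r := gen' (dat D)
  have k2 : ∀ r ∈ {x | IsRoot cs h x}, img X r ≠ ⊥ := fun r hr => SL.OfRGD.X_ne_bot (dat D).rgd hr
  have k3 := Xnd (dat D)
  have k4 := Xgen (dat D)
  have k5 : ∀ r ∈ {x | IsRoot cs h x}, ∀ s ∈ {x | IsRoot cs h x}, Bf A r s = 1 →
      ∃ m ∈ {x | IsRoot cs h x}, Bf A m r = 1 ∧ Bf A m s = 1 := three D.h4 D.h6 D.irr D.three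
  have k6 := one D
  have k7 : ∀ x ∈ K, x * t = t * x := fun x hx => D7Out.Front.Kt E hx
  have k8 := trans D E C hρ
  have k0 : ρ ∈ {x | IsRoot cs h x} := hρ
  have k9 : ∀ c, c * t = t * c → (∀ x ∈ K, x * c = c * x) → c = 1 ∨ c = t := by
    intro c hct hc
    have h1 := E.cK c hct hc
    obtain ⟨i, rfl⟩ := Subgroup.mem_zpowers_iff.1 h1
    rcases Int.even_or_odd' i with ⟨j, rfl | rfl⟩
    · left
      rw [zpow_mul, show t ^ (2 : ℤ) = 1 by rw [zpow_two]; exact E.tt, one_zpow]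
    · right
      rw [zpow_add, zpow_mul, show t ^ (2 : ℤ) = 1 by rw [zpow_two]; exact E.tt, one_zpow, one_mul, zpow_one]
  have key := FrameA.hyp (t := t) (K := K) (B := Bf A) (Φ := {x | IsRoot cs h x}) (X := img X) (V := V) (ρ := ρ) (A := H)
    k0 C (fun r _ => img_le r) k1 k2 k3 k4 k5 k6 k7 k9 (t_notMem E) simp perf k8 AV inf card nrm br
  exact key.false_of_perfect hG

/-- the homomorphism `δ` -/
theorem exists_delta [Finite W] (D : Datum ⊤ q cs h T₀ n X) (hM : D7Out.Outer.DiagTwo M)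
    (E : D7Out.Defs.Fr t t K U Z T) (g : ↥T →* Equiv.Perm I × (F ≃+* F))
    (hg : ∀ y : ↥T, ∃ u ∈ RGD.Sup X (RGD.Pos cs h), Tau T₀ X χ A (MulAut.conj u * D7Out.Outer.act E y) (g y).1 (g y).2)
    {B : Type*} [CommGroup B] {ι : B} (hι : ι * ι = 1) :
    ∃ δ : ↥T →* B, ∀ y, ((g y).1 = 1 → δ y = 1) ∧ ((g y).1 ≠ 1 → δ y = ι) := by
  classical
  have key : ∀ y y' : ↥T, (g y).1 ≠ 1 → (g y').1 ≠ 1 → (g (y * y')).1 = 1 := by
    intro y y' hy hy'
    have h1 := D7Out.Outer.diag_eq D.rgd hM E g hg hy hy'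
    have e : (g (y * y')).1 = (g (y * y)).1 := by
      rw [map_mul, map_mul, Prod.fst_mul, Prod.fst_mul, h1]
    rw [e]
    by_contra hne
    have h2 := D7Out.Outer.diag_eq D.rgd hM E g hg hy hne
    rw [map_mul, Prod.fst_mul] at h2
    exact hy (left_eq_mul.1 h2)
  refine ⟨MonoidHom.mk' (fun y => if (g y).1 = 1 then 1 else ι) ?_, fun y => ⟨fun h => if_pos h, fun h => if_neg h⟩⟩
  intro y y'
  by_cases hy : (g y).1 = 1
  · have e : (g (y * y')).1 = (g y').1 := by rw [map_mul, Prod.fst_mul, hy, one_mul]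
    rw [e, if_pos hy, one_mul]
  · by_cases hy' : (g y').1 = 1
    · have e : (g (y * y')).1 = (g y).1 := by rw [map_mul, Prod.fst_mul, hy', mul_one]
      rw [e, if_pos hy', mul_one]
    · rw [if_pos (key y y' hy hy'), if_neg hy, if_neg hy', hι]

/-- **Case B.** -/
theorem false_B [Finite G] [Finite W] [Nonempty I] [CharP F 2] (hG : commutator G = ⊤)
    (D : Datum ⊤ q cs h T₀ n X) (hM : D7Out.Outer.DiagTwo M)
    (E : D7Out.Defs.Fr t t K U Z T) (C : Can t (Bf A) {x | IsRoot cs h x} (img X) V)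
    (hU : U = (RGD.Sup X (RGD.Pos cs h)).map K.subtype) (hρ : IsRoot cs h ρ) (hd : ∀ i, 0 ≤ cpr cs h (sr i) ρ)
    (Co : Coords cs h T₀ n X x χ) (g : ↥T →* Equiv.Perm I × (F ≃+* F))
    (hg : ∀ y : ↥T, (∃ u ∈ RGD.Sup X (RGD.Pos cs h),
      Tau T₀ X χ A (MulAut.conj u * D7Out.Outer.act E y) (g y).1 (g y).2) ∧
      (g y = 1 ↔ ∃ r ∈ Subgroup.zpowers t, ∃ u ∈ U, (y : G) = r * u))
    (perf : ∀ P : Subgroup G, ⁅P, P⁆ = P → (∀ x ∈ P, x * t = t * x) → P ≤ K)
    (P2 : ∃ P ≤ K, ⁅P, P⁆ = P ∧ img X ρ ≤ P ∧ ∀ x ∈ P, ∀ p ∈ img X ρ, x * p = p * x)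
    {B : Type*} [CommGroup B] (θ : ↥T →* B)
    (hθ : ∀ x : ↥T, θ x = 1 ↔ ∀ v ∈ V ρ, (x : G) * v = v * x)
    (hθ2 : ∀ x : ↥T, θ (x * x) = 1 → θ x = 1 ∨ θ x = θ ⟨t, E.vT⟩) : False := by
  have Fr := fra D E C hU hρ hd g fun y => (hg y).1
  have hUe : SL.Bridge.pos hth {x | IsRoot cs h x} (img X) = U := by
    rw [pos_eq, hU]
    unfold RGD.Sup
    rw [Subgroup.map_iSup]
    rfl
  have hι : θ ⟨t, E.vT⟩ * θ ⟨t, E.vT⟩ = 1 := by
    rw [← map_mul, ← map_one θ]
    congr 1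
    exact Subtype.ext E.tt
  obtain ⟨δ, hδ⟩ := exists_delta D hM E g (fun y => (hg y).1) hι
  have hgU : ∀ y : ↥T, (y : G) ∈ U → g y = 1 := fun y hy =>
    (hg y).2.2 ⟨1, one_mem _, y, hy, (one_mul _).symm⟩
  have hgt : g ⟨t, E.vT⟩ = 1 := (hg _).2.2 ⟨t, Subgroup.mem_zpowers t, 1, one_mem _, (mul_one _).symm⟩
  obtain ⟨θ', δ', Bd⟩ := Fr.bData θ δ hθ hθ2 (fun y => by
      by_cases hy : (g y).1 = 1
      · exact Or.inl ((hδ y).1 hy)
      · exact Or.inr ((hδ y).2 hy))
    ((hδ _).1 (by rw [hgt]; rfl))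
    (fun y hy hyU => (hδ _).1 (by rw [hgU ⟨y, hy⟩ (by rw [← hUe]; exact hyU)]; rfl))
    (by
      intro y h1 h2
      rw [hUe]
      have h3 : (g y).1 = 1 := by
        by_contra hne
        -- `δ y = ι ≠ 1`
        have h4 := (hδ y).2 hne
        rw [h4, hθ] at h2
        obtain ⟨z, hz⟩ := (Subgroup.ne_bot_iff_exists_ne_one).1 (SL.OfRGD.X_ne_bot (dat D).rgd hρ)
        obtain ⟨w, hw, e⟩ := C.dbl.surj ρ hρ z z.2
        apply hz
        apply Subtype.ext
        have h5 : t * w = w * t := h2 w hw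
        rw [← e, h5, mul_assoc w, E.tt, mul_one, inv_mul_cancel]
        rfl
      -- the field part is trivial
      obtain ⟨u, hu, S⟩ := (hg y).1
      have huU : (u : G) ∈ SL.Bridge.pos hth {x | IsRoot cs h x} (img X) := by
        rw [hUe, hU]; exact ⟨u, hu, rfl⟩
      have h4 : (g y).2 = 1 := by
        obtain ⟨c, hc, e⟩ := Tau.root D.rgd Co S hρ
        have h5 : ∀ a, x ρ a = x ρ (c * (g y).2 a) := by
          intro a
          have h6 := e a
          rw [h3] at h6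
          have h7 : ρ ∘ (Equiv.symm (1 : Equiv.Perm I)) = ρ := rfl
          rw [h7] at h6
          rw [← h6]
          -- `conj u * act y` is trivial on `X ρ`
          have hxa : x ρ a ∈ X ρ := ((Co.coord ρ hρ).mem _).2 ⟨a, rfl⟩
          apply Subtype.ext
          have h8 : ((x ρ a : ↥K) : G) ∈ img X ρ := ⟨_, hxa, rfl⟩
          have h9 := (hθ y).1 h1 _ (C.dbl.XW ρ hρ h8)
          have h10 := Fr.cent (Fr.UU huU) (C.dbl.XW ρ hρ h8)
          show (x ρ a : G) = (u : G) * ((y : G) * (x ρ a : G) * (y : G)⁻¹) * (u : G)⁻¹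
          rw [h9, mul_inv_cancel_right, h10, mul_inv_cancel_right]
        have h6 : ∀ a, a = c * (g y).2 a := fun a => (Co.coord ρ hρ).inj (h5 a)
        have hc1 : c = 1 := by
          have := h6 1
          rw [map_one, mul_one] at this
          exact this.symm
        refine RingEquiv.ext fun a => ?_
        have := h6 a
        rw [hc1, one_mul] at this
        exact this.symm
      obtain ⟨r, hr, u', hu', e⟩ := (hg y).2.1 (Prod.ext h3 h4)
      have hrt : r = 1 ∨ r = t := by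
        obtain ⟨i, rfl⟩ := Subgroup.mem_zpowers_iff.1 hr
        rcases Int.even_or_odd' i with ⟨j, rfl | rfl⟩
        · left
          rw [zpow_mul, show t ^ (2 : ℤ) = 1 by rw [zpow_two]; exact E.tt, one_zpow]
        · right
          rw [zpow_add, zpow_mul, show t ^ (2 : ℤ) = 1 by rw [zpow_two]; exact E.tt, one_zpow, one_mul, zpow_one]
      rcases hrt with hrt | hrt
      · rw [e, hrt, one_mul]; exact hu'
      · exfalso
        rw [hrt] at e
        -- `t = y u'⁻¹` centralises `V ρ`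
        obtain ⟨z, hz⟩ := (Subgroup.ne_bot_iff_exists_ne_one).1 (SL.OfRGD.X_ne_bot (dat D).rgd hρ)
        obtain ⟨w, hw, e'⟩ := C.dbl.surj ρ hρ z z.2
        apply hz
        apply Subtype.ext
        have h5 : t * w = w * t := by
          have h6 := (hθ y).1 h1 w hw
          have h7 := Fr.cent (Fr.UU (by rw [hUe]; exact hu')) hw
          rw [e] at h6
          have h8 : t * w * u' = w * t * u' := by
            calc t * w * u' = t * (w * u') := by group
              _ = t * (u' * w) := by rw [h7]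
              _ = t * u' * w := by group
              _ = w * (t * u') := h6
              _ = w * t * u' := by group
          exact mul_right_cancel h8
        rw [← e', h5, mul_assoc w, E.tt, mul_one, inv_mul_cancel]
        rfl)
    perf (fun a ha _ => P2_all D E C hρ P2 a ha)
  exact Bd.false_of_perfect hG

end Main

end Cfsg.Agent.OddHalf.D7End.Inst

end

-- merged: Cfsg.Agent.OddHalf.D7End.Main
section

/-!
# The end of the outer part for simply laced `K` (helper163, bb ODD 9501)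

`O : FrontSL.Out ..` the output of the front, `Db` the doubled root groups, (K1) for `C(t)`: **`false_of`** a perfect group
`G` does not exist.
-/

set_option autoImplicit false
set_option linter.unusedSectionVars false

namespace Cfsg.Agent.OddHalf.D7End.Main

open CoxeterSystem Cfsg.Agent.ChevalleyStructure.CoxeterGeom Cfsg.Agent.Tits.Roots Cfsg.Agent.Tits.Core
  Cfsg.Agent.Tits.RootComb Cfsg.Agent.Tits.Exchange Cfsg.Agent.Nodes.Comb Cfsg.Agent.Nodes.Reps
  Cfsg.Agent.Nodes.BNOf Cfsg.Agent.Nodes.StabComb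
  Cfsg.Agent.Nodes.Bruhat Cfsg.Agent.Nodes.Coroot Cfsg.Agent.OddHalf.SL.Index Cfsg.Agent.OddHalf.SL.OfRGD
  Cfsg.Agent.OddHalf.SL.PreOf Cfsg.Agent.KFacts.RgdSL Cfsg.Agent.KFacts.RgdTI Cfsg.Agent.KFacts.RgdCent
  Cfsg.Agent.KFacts.SLRow.Def Cfsg.Agent.OddHalf.D7End.Canon Cfsg.Agent.OddHalf Cfsg.Agent.OddHalf.D7End.Inst
  Cfsg.Agent.KFacts.RgdAut Cfsg.Agent.KFacts.RgdDiag Cfsg.Agent.KFacts.RgdField Cfsg.Agent.KFacts.RgdTau
  Cfsg.Agent.KFacts.RgdSys Cfsg.Agent.KFacts.ChevTwo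
open scoped commutatorElement

variable {I : Type*} {W : Type*} [Fintype I] [DecidableEq I] [Group W] {M : CoxeterMatrix I}
  {cs : CoxeterSystem M W} {A : I → I → ℤ} {h : IsCartan M A}
  {G : Type*} [Group G] {K : Subgroup G} {q : ℕ} {T₀ : Subgroup ↥K} {n : I → ↥K} {X : (I → ℤ) → Subgroup ↥K}
  {F : Type*} [Field F] {x : (I → ℤ) → F → ↥K} {χ : (I → ℤ) → ↥K → F}
  {t : G} {U Z T : Subgroup G} {ρ : I → ℤ} {V : (I → ℤ) → Subgroup G}

/-- the torus is abelian -/
theorem tab (D : Datum ⊤ q cs h T₀ n X) (Co : Coords cs h T₀ n X x χ) :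
    ∀ s ∈ T₀.map K.subtype, ∀ u ∈ T₀.map K.subtype, s * u = u * s := by
  rintro _ ⟨s, hs, rfl⟩ _ ⟨u, hu, rfl⟩
  have h1 : s * u * s⁻¹ * u⁻¹ = 1 := by
    apply D.cent _ (mul_mem (mul_mem (mul_mem hs hu) (inv_mem hs)) (inv_mem hu))
    intro b hb y hy
    obtain ⟨a, rfl⟩ := ((Co.coord b hb).mem y).1 hy
    have C := Co.coord b hb
    have e1 : ∀ w ∈ T₀, ∀ a, w⁻¹ * x b a * w = x b ((χ b w)⁻¹ * a) := by
      intro w hw a
      have h2 := C.act w hw ((χ b w)⁻¹ * a)
      rw [mul_inv_cancel_left₀ (C.chi_ne_zero hw)] at h2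
      rw [← h2]; group
    have e2 : s * u * s⁻¹ * u⁻¹ * x b a * (s * u * s⁻¹ * u⁻¹)⁻¹ = x b a := by
      calc s * u * s⁻¹ * u⁻¹ * x b a * (s * u * s⁻¹ * u⁻¹)⁻¹
          = s * (u * (s⁻¹ * (u⁻¹ * x b a * u) * s) * u⁻¹) * s⁻¹ := by group
        _ = x b a := by
          rw [e1 u hu, e1 s hs, C.act u hu, C.act s hs]
          congr 1
          have h3 := C.chi_ne_zero hs
          have h4 := C.chi_ne_zero hu
          field_simp
    exact mul_inv_eq_iff_eq_mul.1 e2
  have h2 : s * u = u * s := by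
    have := mul_inv_eq_one.1 h1
    rw [mul_inv_eq_iff_eq_mul] at this
    exact this
  show (s : G) * u = u * s
  exact congrArg Subtype.val h2

/-- the doubled root groups of `Can` are those of `YData` -/
theorem yData [Finite W] (D : Datum ⊤ q cs h T₀ n X) (E : D7Out.Defs.Fr t t K U Z T)
    (C : Can t (Bf A) {x | IsRoot cs h x} (img X) V) : YData (dat D).rgd t V where
  XW := C.dbl.XW
  ab r hr v hv w hw := C.comm hr hv hw
  brk := C.dbl.brk
  cent r hr w hw h1 := (C.dbl.cent r hr w hw).1 h1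
  surj := C.dbl.surj
  WX r hr a ha h0 w hw y hy := C.VX hr ha h0 hw hy
  eqv w k hk r hr v hv := by
    rw [← conj_V D E C hk (rp_mem D hk) hr]
    exact CaseA.cj_mem hv

theorem hyp [Finite W] (D : Datum ⊤ q cs h T₀ n X) (E : D7Out.Defs.Fr t t K U Z T)
    (C : Can t (Bf A) {x | IsRoot cs h x} (img X) V) (Co : Coords cs h T₀ n X x χ) :
    D7Out.RingSL.Hyp K q cs h (T₀.map K.subtype) (fun i => K.subtype (n i)) (img X) V t where
  D := dat D
  Kt _ hk := (D7Out.Front.Kt E hk).symm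
  tab := tab D Co
  Y := yData D E C
  Dl := C.dbl

/-- `T` normalises `⟨V a : (a, ρ) ≥ 1⟩` -/
theorem T_DD [Finite G] [Finite W] (D : Datum ⊤ q cs h T₀ n X) (H : D7Out.RingSL.Hyp K q cs h (T₀.map K.subtype)
    (fun i => K.subtype (n i)) (img X) V t) (Fr : FrameB.Fra t K T (Bf A) {x | IsRoot cs h x} hth (img X) V ρ) :
    ∀ g ∈ T, ∀ y ∈ H.DD ρ, g * y * g⁻¹ ∈ H.DD ρ := by
  have hR := roots cs h D.h4 D.h6
  -- `U` normalises `D`
  have hU : SL.Bridge.pos hth {x | IsRoot cs h x} (img X) ≤ Subgroup.normalizer (H.DD ρ : Set G) := by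
    refine iSup₂_le fun b hb y hy => ?_
    have key : ∀ y ∈ img X b, ∀ w ∈ H.DD ρ, y * w * y⁻¹ ∈ H.DD ρ := by
      intro y hy
      have h1 : H.DD ρ ≤ (H.DD ρ).comap (MulAut.conj y).toMonoidHom := by
        refine RGD.Sup_le fun a ha v hv => ?_
        show y * v * y⁻¹ ∈ H.DD ρ
        have hyV := Fr.can.dbl.XW b hb.1 hy
        have ha1 : IsRoot cs h a := ha.1
        have ha2 : 1 ≤ Bf A a ρ := ha.2
        rcases lt_or_ge (Bf A b a) 0 with h2 | h2
        · have h3 : Bf A b a ≠ -2 := by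
            intro h3
            have h4 := hR.eq_neg hb.1 ha1 h3
            have h5 := Fr.rad ha1 ha2
            have h6 := hb.2
            rw [h4, map_neg] at h6
            omega
          have h4 := hR.ge hb.1 ha1
          have h5 : Bf A b a = -1 := by omega
          have h6 := Fr.can.dbl.neg b hb.1 a ha1 h5 y hyV v hv
          have h7 : IsRoot cs h (b + a) := hR.add b hb.1 a ha1 h5
          have h8 := Fr.dom b hb.1 hb.2
          have h9 : 1 ≤ Bf A (b + a) ρ := by rw [hR.add_left]; omega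
          have h10 := mul_mem (H.V_le_DD h7 h9 h6) (H.V_le_DD ha1 ha2 hv)
          rwa [inv_mul_cancel_right] at h10
        · rw [Fr.can.dbl.pos b hb.1 a ha1 h2 y hyV v hv, mul_inv_cancel_right]
          exact H.V_le_DD ha1 ha2 hv
      exact fun w hw => h1 hw
    rw [Subgroup.mem_normalizer_iff]
    intro w
    refine ⟨key y hy w, fun hw => ?_⟩
    have h1 := key y⁻¹ (inv_mem hy) _ hw
    have e : y⁻¹ * (y * w * y⁻¹) * y⁻¹⁻¹ = w := by group
    rwa [e] at h1
  intro g hg y hy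
  obtain ⟨u, hu, σ, hσ1, hσ2, hσ3, hσ4⟩ := Fr.frame g hg
  have hσρ := Fr.frame_ρ hg hu hσ1 hσ4
  have h1 := H.DD_conj (r := ρ) (g := u * g) (fun a ha ha1 => by
    refine ⟨σ a, (hσ1 a).2 ha, ?_, fun v hv => Fr.frame_V hg hu hσ1 hσ2 hσ4 ha hv⟩
    have h2 := hσ2 a ha ρ Fr.ρΦ
    rw [hσρ] at h2
    rw [h2]; exact ha1) y hy
  have h2 := (Subgroup.mem_normalizer_iff.1 (hU (inv_mem hu)) _).1 h1
  have e : u⁻¹ * (u * g * y * (u * g)⁻¹) * u⁻¹⁻¹ = g * y * g⁻¹ := by group
  rwa [e] at h2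

/-- **The end for simply laced `K`**: the output `O` of the front, the doubled root groups `Db` and (K1) for `C(t)`. -/
theorem false_of [Finite G] [Finite W] [Finite F] [CharP F 2] (hG : commutator G = ⊤) (hK : IsSimpleGroup ↥K)
    {e : (I → ℤ) → F → ↥K} {v m z : G} {g : ↥T →* Equiv.Perm I × (F ≃+* F)}
    (D : Datum (⊤ : Subgroup ↥K) q cs h T₀ n X) (Sy : Sys D.rgd e) (hM : D7Out.Outer.DiagTwo M)
    (O : D7Out.FrontSL.Out cs h T₀ X e t v ρ T g m z) (hP : D7Out.FrontSL.HasP cs h X)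
    (perf : ∀ P : Subgroup G, ⁅P, P⁆ = P → (∀ x ∈ P, x * t = t * x) → P ≤ K)
    (Db : SL.Defs.Dbl t (Bf A) {x | IsRoot cs h x} (fun r => (X r).map K.subtype) V)
    (K1 : ∀ r ∈ {x | IsRoot cs h x}, ∀ c, c * t = t * c →
      (∀ a ∈ {x | IsRoot cs h x}, 1 ≤ Bf A a r → ∀ x ∈ (X a).map K.subtype, c * x = x * c) →
      c ∈ (X r).map K.subtype ∨ t * c ∈ (X r).map K.subtype) : False := by
  have hI : Nonempty I := Fintype.card_pos_iff.1 (by have := D.three; omega)
  obtain rfl : v = t := by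
    rcases O.R2 v (Subgroup.mem_zpowers v) with h1 | h1
    · exfalso
      have h2 := O.fr.tR
      rw [h1, Subgroup.zpowers_one_eq_bot, Subgroup.mem_bot] at h2
      exact O.fr.t1 h2
    · exact h1
  have E := O.fr.toFr
  have C := canOf D E Db K1
  have Co := coords Sy D.gen
  have hρ := O.root
  have Fr := fra D E C rfl hρ O.dom g O.gTau
  have H := hyp D E C Co
  have simp : ∀ L ≤ K, (∀ k ∈ K, ∀ l ∈ L, k * l * k⁻¹ ∈ L) → L = ⊥ ∨ L = K := by
    intro L hL hn
    have hN : (L.subgroupOf K).Normal := by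
      refine ⟨fun l hl k => ?_⟩
      rw [Subgroup.mem_subgroupOf] at hl ⊢
      exact hn k k.2 l hl
    rcases hN.eq_bot_or_eq_top with h1 | h1
    · left
      rw [Subgroup.subgroupOf_eq_bot, disjoint_iff, inf_of_le_left hL] at h1
      exact h1
    · right
      rw [Subgroup.subgroupOf_eq_top] at h1
      exact le_antisymm hL h1
  have P2 : ∃ P ≤ K, ⁅P, P⁆ = P ∧ img X ρ ≤ P ∧ ∀ x ∈ P, ∀ p ∈ img X ρ, x * p = p * x := by
    obtain ⟨L, hL1, hL2, hL3⟩ := hP ρ hρ
    refine ⟨L.map K.subtype, Subgroup.map_subtype_le _, by rw [← Subgroup.map_commutator, hL1],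
      Subgroup.map_mono hL2, ?_⟩
    rintro _ ⟨y, hy, rfl⟩ _ ⟨x, hx, rfl⟩
    exact congrArg Subtype.val (hL3 y hy x hx)
  rcases H.dichotomy hρ O.zX O.z1 E.vT (T_DD D H Fr) (fun g hg v hv => Fr.T_V hg hv) O.zT with
    ⟨A', hA⟩ | ⟨B, _, θ, hθ, -, hθ2⟩
  · exact false_A hG D E C hρ simp perf hA.le hA.inf hA.card hA.nrm hA.br
  · exact false_B hG D hM E C rfl hρ O.dom Co g (fun y => ⟨O.gTau y, O.gker y⟩) perf P2 θ hθ hθ2

end Cfsg.Agent.OddHalf.D7End.Main

end

-- merged: Cfsg.Agent.KFacts.SLRow.Tab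
section

/-!
# The torus is abelian; the datum in the big group (K-facts for S1765, D7)

* `comm_T` : `Sys` and `NoCent` imply that `T` is abelian;
* `Datum.toG` : a datum of `⊤ : Subgroup ↥K` gives a datum of `K` in `G`.
-/

set_option autoImplicit false
set_option linter.unusedSectionVars false

namespace Cfsg.Agent.KFacts.SLRow.Tab

open CoxeterSystem Cfsg.Agent.ChevalleyStructure.CoxeterGeom Cfsg.Agent.Tits.Roots Cfsg.Agent.Tits.Core
  Cfsg.Agent.Nodes.Reps Cfsg.Agent.Nodes.BNOf Cfsg.Agent.Nodes.RGDLib Cfsg.Agent.KFacts.SLRow.Def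
  Cfsg.Agent.KFacts.ChevTwo Cfsg.Agent.KFacts.RgdSys Cfsg.Agent.KFacts.RgdCent

variable {I W Y F : Type*} [Fintype I] [DecidableEq I] [Group W] [Group Y] [Field F]
  {M : CoxeterMatrix I} {cs : CoxeterSystem M W} {A : I → I → ℤ} {h : IsCartan M A} {p : ℕ} {T : Subgroup Y}
  {n : I → Y} {X : (I → ℤ) → Subgroup Y} {e : (I → ℤ) → F → Y} {R : RGD cs h p T n X}

theorem comm_T (S : Sys R e) (hN : NoCent cs h T X) {s t : Y} (hs : s ∈ T) (ht : t ∈ T) : s * t = t * s := by
  refine ext_T S hN (mul_mem hs ht) (mul_mem ht hs) fun r hr a => ?_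
  have e1 : ∀ u v : Y, u * v * e r a * (u * v)⁻¹ = u * (v * e r a * v⁻¹) * u⁻¹ := fun u v => by group
  rw [e1, e1, chS_spec S hr ht, chS_spec S hr hs, chS_spec S hr hs, chS_spec S hr ht, mul_left_comm]

/-- The datum in the big group. -/
theorem toG {G : Type*} [Group G] {K : Subgroup G} {q : ℕ} {T : Subgroup ↥K} {n : I → ↥K}
    {X : (I → ℤ) → Subgroup ↥K} (D : Datum (⊤ : Subgroup ↥K) q cs h T n X) :
    Datum K q cs h (T.map K.subtype) (fun i => (n i : G)) (fun x => (X x).map K.subtype) := by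
  have D' := D.map K.subtype Subtype.val_injective
  have h1 : (⊤ : Subgroup ↥K).map K.subtype = K := by
    rw [← MonoidHom.range_eq_map, Subgroup.range_subtype]
  rw [h1] at D'
  exact D'

theorem comm_TG {G : Type*} [Group G] {K : Subgroup G} {T : Subgroup ↥K} {n : I → ↥K}
    {X : (I → ℤ) → Subgroup ↥K} {e : (I → ℤ) → F → ↥K} {R : RGD cs h p T n X} (S : Sys R e)
    (hN : NoCent cs h T X) {s t : G} (hs : s ∈ T.map K.subtype) (ht : t ∈ T.map K.subtype) : s * t = t * s := by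
  obtain ⟨s, hs, rfl⟩ := hs
  obtain ⟨t, ht, rfl⟩ := ht
  exact congrArg Subtype.val (comm_T S hN hs ht)

end Cfsg.Agent.KFacts.SLRow.Tab

end

-- merged: Cfsg.Agent.OddHalf.D7Out.MainSL
section

/-!
# D7 for simply laced `K`: the middle (helper875)

`K` simply laced with coordinates (`Datum ⊤ q`, `ChevTwo.Sys`), the starting position `Start K t v`, `G` perfect:
front (`FrontSL.front`), existence of the doubled root group (`HasEx`), growth (`HasGr`) and end (`D7End.Main.false_of`).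

* `false_of` : `HasP`, `HasEx`, `HasGr` give a contradiction;
* `hasEx_big` : `q > 2`.
-/

set_option autoImplicit false
set_option linter.unusedSectionVars false

namespace Cfsg.Agent.OddHalf.D7Out.MainSL

open CoxeterSystem Cfsg.Agent.ChevalleyStructure.CoxeterGeom Cfsg.Agent.Tits.Roots Cfsg.Agent.Tits.Core
  Cfsg.Agent.Tits.Exchange Cfsg.Agent.Nodes.Reps Cfsg.Agent.Nodes.BNOf Cfsg.Agent.Nodes.StabComb
  Cfsg.Agent.Nodes.Bruhat Cfsg.Agent.KFacts.RgdCent Cfsg.Agent.KFacts.RgdSL Cfsg.Agent.KFacts.RgdTI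
  Cfsg.Agent.KFacts.SLRow.Def Cfsg.Agent.KFacts.ChevTwo Cfsg.Agent.KFacts.RgdSys Cfsg.Agent.KFacts.RgdTau
  Cfsg.Agent.KFacts.RgdField Cfsg.Agent.OddHalf.SL.Index Cfsg.Agent.OddHalf.SL.PreOf
  Cfsg.Agent.Nodes.Coroot Cfsg.Agent.Tits.RootComb Cfsg.Agent.Nodes.Comb Cfsg.Agent.OddHalf.D7End
  Cfsg.Agent.OddHalf.D7Ex Cfsg.Agent.OddHalf.SL
open scoped commutatorElement

variable {I W : Type*} [Fintype I] [DecidableEq I] [Group W] {M : CoxeterMatrix I}
  {cs : CoxeterSystem M W} {A : I → I → ℤ} {h : IsCartan M A}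
  {G : Type*} [Group G] {K : Subgroup G} {T₀ : Subgroup ↥K} {n : I → ↥K} {X : (I → ℤ) → Subgroup ↥K} {q : ℕ}
  {F : Type*} [Field F] {e : (I → ℤ) → F → ↥K} {t v : G}

/-- existence of the doubled root group at the highest root -/
def HasEx [Finite W] [Finite G] (D : Datum (⊤ : Subgroup ↥K) q cs h T₀ n X) (e : (I → ℤ) → F → ↥K) (t v : G) : Prop :=
  ∀ (ρ : I → ℤ) (T : Subgroup G) (g : ↥T →* Equiv.Perm I × (F ≃+* F)) (m z : G),
    FrontSL.Out cs h T₀ X e t v ρ T g m z → KFull.CT t K → ∃ V, Base0.Base0 (OutBase.dm D).rgd t ρ V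

/-- growth -/
def HasGr [Finite W] [Finite G] (D : Datum (⊤ : Subgroup ↥K) q cs h T₀ n X) (t : G) : Prop :=
  ∀ (ρ : I → ℤ) (V : Subgroup G), KFull.CT t K → Base0.Base0 (OutBase.dm D).rgd t ρ V →
    ∃ V', Defs.Dbl t (Bf A) {x | IsRoot cs h x} (fun r => (X r).map K.subtype) V'

/-- **The middle.** -/
theorem false_of [Finite G] [Finite W] [Finite F] [CharP F 2] (hG : commutator G = ⊤) (S : Front.FE.Start K t v)
    (hs : Schreier.Basic.Sch ↥K) (D : Datum (⊤ : Subgroup ↥K) q cs h T₀ n X) (Sy : Sys D.rgd e)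
    (hM : Outer.DiagTwo M) (hP : FrontSL.HasP cs h X) (hEx : HasEx D e t v) (hGr : HasGr D t) : False := by
  obtain ⟨ρ, T, g, m, z, O⟩ := FrontSL.front hG S hs D Sy hM hP (HasFldOf.hasFld D Sy hM)
  have perf : ∀ P : Subgroup G, ⁅P, P⁆ = P → (∀ x ∈ P, x * t = t * x) → P ≤ K := fun P h1 h2 =>
    FrGen.perf_le S.toStart0 hs h2 h1
  have C : KFull.CT t K := OfFront.ct O fun P h1 h2 => perf P h2 h1
  obtain ⟨V₀, B⟩ := hEx ρ T g m z O C
  obtain ⟨V, Db⟩ := hGr ρ V₀ C B
  exact D7End.Main.false_of hG S.simple D Sy hM O hP perf Db fun r hr c hct hc =>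
    KFull.k1 D C hr hct.symm fun a ha h1 x hx => hc a ha h1 x hx

/-- existence for `q > 2` -/
theorem hasEx_big [Finite G] [Finite W] (D : Datum (⊤ : Subgroup ↥K) q cs h T₀ n X) (Sy : Sys D.rgd e) (hq : 2 < q)
    (hT : 4 ≤ Fintype.card I ∨ ∀ ρ, IsRoot cs h ρ → (∀ i, 0 ≤ cpr cs h (sr i) ρ) →
      ∃ β g k, Tor (Bf A) {x | IsRoot cs h x} (fun x => (X x).map K.subtype) ρ (T₀.map K.subtype) β g k) :
    HasEx D e t v := by
  intro ρ T g m z O C
  exact OfFront.exists_base0 D O C (fun a ha b hb => Cfsg.Agent.KFacts.SLRow.Tab.comm_T Sy D.cent ha hb) hq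
    (hT.imp_right fun h1 => h1 ρ O.root O.dom)

end Cfsg.Agent.OddHalf.D7Out.MainSL

end
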