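import Mathlib
import Cfsg.Agent.KFacts.Unit.GLAct
import Cfsg.Agent.OddHalf.D7Out.OddGen
import Cfsg.Agent.OddHalf.D7Out.TwEnd

-- merged: Cfsg.Agent.KFacts.Unit.PZero
section

/-!
# The elements of `P0` for `PSU n F q`, `q` even, `n ≥ 6` (helper552; ODD D7, outer 2-part, piece O9)

`siegel_mem_PO`: for isotropic `e ≠ 0`, `w ⊥ e` isotropic, the Siegel element `siegel e w μ` lies in the subgroup `PO e w`
generated by the elements of odd order fixing `e` and `w`; this subgroup centralises it.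
`QQ_induction`: the images of these elements generate `QQ e`.
-/

set_option autoImplicit false

namespace Cfsg.Agent.KFacts.Unit.PZero

open Cfsg Cfsg.Agent.LieClassical.HermBasic Cfsg.Agent.LieClassical.HermSiegel
  Cfsg.Agent.LieClassical.HermGen Cfsg.Agent.LieClassical.SUBasic Matrix
  Cfsg.Agent.ClassicalGeometry.PSUAutBasic Cfsg.Agent.ClassicalGeometry.PSUAutSylow
  Cfsg.Agent.ClassicalGeometry.PSUAutUnip Cfsg.Agent.ClassicalGeometry.PSUAutPhi
  Cfsg.Agent.OddHalf.D7Out.OddGen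

variable {F : Type*} [Field F] {q n : ℕ}

/-- The subgroup generated by the elements of odd order fixing `e` and `w`. -/
def PO (q : ℕ) (e w : Fin n → F) : Subgroup (SU n F q) :=
  Subgroup.closure {g | Odd (orderOf g) ∧ act g e = e ∧ act g w = w}

theorem PO_oddGen (e w : Fin n → F) : OddGen (PO q e w) := oddGen_closure fun _ h => h.1

theorem PO_fix {e w : Fin n → F} {g : SU n F q} (hg : g ∈ PO q e w) : act g e = e ∧ act g w = w := by
  rw [PO] at hg
  induction hg using Subgroup.closure_induction with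
  | mem x hx => exact hx.2
  | one => exact ⟨act_one _, act_one _⟩
  | mul a b _ _ ha hb => exact ⟨by rw [act_mul, hb.1, ha.1], by rw [act_mul, hb.2, ha.2]⟩
  | inv a _ ha =>
    exact ⟨((act_eq_iff a).1 ha.1).symm, ((act_eq_iff a).1 ha.2).symm⟩

theorem PO_conj {e w : Fin n → F} {s g : SU n F q} (he : act s e = e) (hw : act s w = w) (hg : g ∈ PO q e w) :
    s * g * s⁻¹ ∈ PO q e w := by
  have he' : act s⁻¹ e = e := ((act_eq_iff s).1 he).symm
  have hw' : act s⁻¹ w = w := ((act_eq_iff s).1 hw).symm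
  have h1 : PO q e w ≤ (PO q e w).comap (MulAut.conj s).toMonoidHom := by
    rw [PO, Subgroup.closure_le]
    rintro x ⟨hx, hx1, hx2⟩
    refine Subgroup.subset_closure ⟨Odd.of_dvd_nat hx (orderOf_map_dvd _ x), ?_, ?_⟩
    · show act (s * x * s⁻¹) e = e
      rw [act_mul, act_mul, he', hx1, he]
    · show act (s * x * s⁻¹) w = w
      rw [act_mul, act_mul, hw', hx2, hw]
  exact h1 hg

variable [Fintype F]

/-- `PO e w` centralises the Siegel elements at `e`, `w`. -/
theorem PO_comm (hF : Fintype.card F = q ^ 2) {e w : Fin n → F} {μ : F} (h : IsSiegel q e w μ) {g : SU n F q}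
    (hg : g ∈ PO q e w) : g * siegel hF e w μ h = siegel hF e w μ h * g := by
  obtain ⟨h1, h2⟩ := PO_fix hg
  have h3 := conj_siegel hF h g
  have h4 : siegel hF (act g e) (act g w) μ (h.map g) = siegel hF e w μ h := siegel_congr hF _ _ h1 h2 rfl
  rw [h4] at h3
  exact mul_inv_eq_iff_eq_mul.1 h3

section Two

variable [CharP F 2]

omit [Fintype F] in
theorem vadd (x : Fin n → F) : x + x = 0 := funext fun i => CharTwo.add_self_eq_zero (x i)

omit [Fintype F] in
theorem vneg (x : Fin n → F) : -x = x := by rw [neg_eq_iff_add_eq_zero, vadd]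

/-- The setting: a hyperbolic pair orthogonal to `e` and `w`. -/
structure St (q : ℕ) (e w x y : Fin n → F) : Prop where
  xy : Hyp q x y
  ee : hermForm n F q e e = 0
  ww : hermForm n F q w w = 0
  we : hermForm n F q w e = 0
  xe : hermForm n F q x e = 0
  ye : hermForm n F q y e = 0
  xw : hermForm n F q x w = 0
  yw : hermForm n F q y w = 0

variable {e w x y : Fin n → F}

/-- The element of order three. -/
theorem rho_mem (hF : Fintype.card F = q ^ 2) (H : St q e w x y) : rho hF H.xy ∈ PO q e w := by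
  refine Subgroup.subset_closure ⟨?_, ?_, ?_⟩
  · have h1 : orderOf (rho hF H.xy) ∣ 3 := orderOf_dvd_of_pow_eq_one (rho_pow_three hF H.xy)
    exact Odd.of_dvd_nat (by decide) h1
  · exact act_rho_of_orth hF H.xy (herm_eq_zero_swap hF H.xe) (herm_eq_zero_swap hF H.ye)
  · exact act_rho_of_orth hF H.xy (herm_eq_zero_swap hF H.xw) (herm_eq_zero_swap hF H.yw)

/-- Commutators with `rho`. -/
theorem com_mem (hF : Fintype.card F = q ^ 2) (H : St q e w x y) {s v v' : Fin n → F} {ν : F}
    (hes : hermForm n F q e s = 0) (hws : hermForm n F q w s = 0) (hxs : hermForm n F q x s = 0)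
    (hys : hermForm n F q y s = 0) (hev : hermForm n F q e v = 0) (hwv : hermForm n F q w v = 0)
    (h : IsSiegel q s v ν) (hv : act (rho hF H.xy) v = v')
    (h' : IsSiegel q s (-v + v') (ν ^ q + ν - hermForm n F q v' (-v))) :
    siegel hF s (-v + v') (ν ^ q + ν - hermForm n F q v' (-v)) h' ∈ PO q e w := by
  have hr := rho_mem hF H
  have hs1 : act (siegel hF s v ν h) e = e := act_siegel_of_orth hF h hes hev
  have hs2 : act (siegel hF s v ν h) w = w := act_siegel_of_orth hF h hws hwv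
  have h1 : (siegel hF s v ν h)⁻¹ * rho hF H.xy * ((siegel hF s v ν h)⁻¹)⁻¹ ∈ PO q e w :=
    PO_conj ((act_eq_iff _).1 hs1).symm ((act_eq_iff _).1 hs2).symm hr
  have h2 : rho hF H.xy * siegel hF s v ν h * (rho hF H.xy)⁻¹ = siegel hF s v' ν (by
      have h3 := h.map (rho hF H.xy)
      rwa [hv, act_rho_of_orth hF H.xy (herm_eq_zero_swap hF hxs) (herm_eq_zero_swap hF hys)] at h3) := by
    rw [conj_siegel]
    exact siegel_congr hF _ _ (act_rho_of_orth hF H.xy (herm_eq_zero_swap hF hxs) (herm_eq_zero_swap hF hys)) hv rfl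
  have h3 := (PO q e w).mul_mem h1 ((PO q e w).inv_mem hr)
  have h4 : (siegel hF s v ν h)⁻¹ * rho hF H.xy * ((siegel hF s v ν h)⁻¹)⁻¹ * (rho hF H.xy)⁻¹ =
      (siegel hF s v ν h)⁻¹ * (rho hF H.xy * siegel hF s v ν h * (rho hF H.xy)⁻¹) := by group
  rw [h4, h2, siegel_inv, siegel_mul] at h3
  exact h3

theorem isSiegel_norm (hF : Fintype.card F = q ^ 2) {s v : Fin n → F} (hss : hermForm n F q s s = 0)
    (hvs : hermForm n F q v s = 0) (hvv : hermForm n F q v v = 0) (l : F) :
    IsSiegel q s (l • v) (l * l ^ q) := by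
  refine ⟨hss, by rw [herm_smul_left, hvs, mul_zero], ?_⟩
  rw [norm_pow_q hF, herm_smul_left, herm_smul_right, hvv, mul_zero, mul_zero, add_zero]
  exact CharTwo.add_self_eq_zero _

theorem isSiegel_iso (hF : Fintype.card F = q ^ 2) {s v : Fin n → F} (hss : hermForm n F q s s = 0)
    (hvs : hermForm n F q v s = 0) (hvv : hermForm n F q v v = 0) (l : F) : IsSiegel q s (l • v) 0 := by
  refine ⟨hss, by rw [herm_smul_left, hvs, mul_zero], ?_⟩
  rw [zero_pow_q hF, herm_smul_left, herm_smul_right, hvv]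
  ring

/-- `A_s(l) = siegel s (l x) (N l) ∈ PO e w`, and the same with `y`. -/
theorem A_mem (hF : Fintype.card F = q ^ 2) (H : St q e w x y) {s : Fin n → F} (hss : hermForm n F q s s = 0)
    (hes : hermForm n F q e s = 0) (hws : hermForm n F q w s = 0) (hxs : hermForm n F q x s = 0)
    (hys : hermForm n F q y s = 0) (l : F) :
    siegel hF s (l • x) (l * l ^ q) (isSiegel_norm hF hss hxs H.xy.ee l) ∈ PO q e w := by
  have hsy := isSiegel_iso hF hss hys H.xy.ff l
  have hv : act (rho hF H.xy) (l • y) = l • (x + y) := by rw [act_smul, act_rho_f]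
  have hsum : -(l • y) + l • (x + y) = l • x := by rw [smul_add]; abel
  have hval : (0 : F) ^ q + 0 - hermForm n F q (l • (x + y)) (-(l • y)) = l * l ^ q := by
    rw [zero_pow_q hF, herm_neg_right hF, herm_smul_left, herm_smul_right, herm_add_left, H.xy.ef, H.xy.ff]
    ring
  have h' : IsSiegel q s (-(l • y) + l • (x + y)) ((0 : F) ^ q + 0 - hermForm n F q (l • (x + y)) (-(l • y))) := by
    rw [hsum, hval]; exact isSiegel_norm hF hss hxs H.xy.ee l
  have h1 := com_mem hF H (s := s) (v := l • y) (v' := l • (x + y)) (ν := 0) hes hws hxs hys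
    (by rw [herm_smul_right, herm_eq_zero_swap hF H.ye, mul_zero])
    (by rw [herm_smul_right, herm_eq_zero_swap hF H.yw, mul_zero]) hsy hv h'
  rwa [siegel_congr hF h' (isSiegel_norm hF hss hxs H.xy.ee l) rfl hsum hval] at h1

theorem B_mem (hF : Fintype.card F = q ^ 2) (H : St q e w x y) {s : Fin n → F} (hss : hermForm n F q s s = 0)
    (hes : hermForm n F q e s = 0) (hws : hermForm n F q w s = 0) (hxs : hermForm n F q x s = 0)
    (hys : hermForm n F q y s = 0) (l : F) :
    siegel hF s (l • y) (l * l ^ q) (isSiegel_norm hF hss hys H.xy.ff l) ∈ PO q e w := by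
  have hyx : hermForm n F q y x = 1 := H.xy.fe hF
  have hxyv : hermForm n F q (x + y) (x + y) = 0 := by
    rw [herm_add_left, herm_add_right hF, herm_add_right hF, H.xy.ee, H.xy.ff, H.xy.ef, hyx]
    simp only [zero_add, add_zero]
    exact CharTwo.add_self_eq_zero 1
  have hsy := isSiegel_iso hF hss (v := x + y) (by rw [herm_add_left, hxs, hys, add_zero]) hxyv l
  have hv : act (rho hF H.xy) (l • (x + y)) = l • x := by
    rw [act_smul, act_add, act_rho_e, act_rho_f, add_comm x y, ← add_assoc, vadd, zero_add]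
  have hsum : -(l • (x + y)) + l • x = l • y := by
    rw [vneg, smul_add, add_comm (l • x), add_assoc, vadd, add_zero]
  have hval : (0 : F) ^ q + 0 - hermForm n F q (l • x) (-(l • (x + y))) = l * l ^ q := by
    rw [zero_pow_q hF, herm_neg_right hF, herm_smul_left, herm_smul_right, herm_add_right hF, H.xy.ef, H.xy.ee]
    ring
  have h' : IsSiegel q s (-(l • (x + y)) + l • x) ((0 : F) ^ q + 0 - hermForm n F q (l • x) (-(l • (x + y)))) := by
    rw [hsum, hval]; exact isSiegel_norm hF hss hys H.xy.ff l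
  have h1 := com_mem hF H (s := s) (v := l • (x + y)) (v' := l • x) (ν := 0) hes hws hxs hys
    (by rw [herm_smul_right, herm_add_right hF, herm_eq_zero_swap hF H.ye, herm_eq_zero_swap hF H.xe, add_zero,
      mul_zero])
    (by rw [herm_smul_right, herm_add_right hF, herm_eq_zero_swap hF H.yw, herm_eq_zero_swap hF H.xw, add_zero,
      mul_zero]) hsy hv h'
  rwa [siegel_congr hF h' (isSiegel_norm hF hss hys H.xy.ff l) rfl hsum hval] at h1

/-- The transvections at `e`. -/
theorem transv_mem (hF : Fintype.card F = q ^ 2) (H : St q e w x y) {μ : F} (hμ : μ + μ ^ q = 0) :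
    siegel hF e 0 μ (isSiegel_zero H.ee hμ) ∈ PO q e w := by
  have hμ' : μ ^ q = μ := by
    have h1 : μ ^ q = -μ := by linear_combination hμ
    rw [h1, CharTwo.neg_eq]
  obtain ⟨l, hl⟩ := exists_trace_eq hF hμ'
  have hA := A_mem hF H H.ee H.ee H.we H.xe H.ye l
  have hB := B_mem hF H H.ee H.ee H.we H.xe H.ye 1
  set A := siegel hF e (l • x) (l * l ^ q) (isSiegel_norm hF H.ee H.xe H.xy.ee l)
  set B := siegel hF e ((1 : F) • y) (1 * 1 ^ q) (isSiegel_norm hF H.ee H.ye H.xy.ff 1)
  have h1 : A * B = siegel hF e 0 μ (isSiegel_zero H.ee hμ) * (B * A) := by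
    rw [siegel_mul, siegel_mul, siegel_mul]
    apply siegel_congr hF
    · rfl
    · rw [zero_add, add_comm]
    · rw [herm_smul_left, herm_smul_right, herm_smul_left, herm_smul_right, herm_zero_right hF, H.xy.fe hF, H.xy.ef,
        one_pow, one_mul, one_mul, mul_one, mul_one, ← hl]
      have h2 : l + l = 0 := CharTwo.add_self_eq_zero l
      have h3 : l ^ q + l ^ q = 0 := CharTwo.add_self_eq_zero _
      linear_combination -h3
  have h4 : siegel hF e 0 μ (isSiegel_zero H.ee hμ) = A * B * (B * A)⁻¹ := by rw [h1]; group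
  rw [h4]
  exact mul_mem (mul_mem hA hB) (inv_mem (mul_mem hB hA))

/-- **The Siegel elements.** -/
theorem siegel_mem_of_st (hF : Fintype.card F = q ^ 2) (H : St q e w x y) {μ : F} (h : IsSiegel q e w μ) :
    siegel hF e w μ h ∈ PO q e w := by
  have hew : hermForm n F q e w = 0 := herm_eq_zero_swap hF H.we
  have hA := A_mem hF H H.ee H.ee H.we H.xe H.ye (1 : F)
  have hB := B_mem hF H H.ww hew H.ww H.xw H.yw (1 : F)
  set A := siegel hF e ((1 : F) • x) (1 * 1 ^ q) (isSiegel_norm hF H.ee H.xe H.xy.ee 1)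
  set B := siegel hF w ((1 : F) • y) (1 * 1 ^ q) (isSiegel_norm hF H.ww H.yw H.xy.ff 1) with hBdef
  have hBe : act B e = e := act_siegel_of_orth hF _ hew
    (by rw [herm_smul_right, herm_eq_zero_swap hF H.ye, mul_zero])
  have hBx : act B ((1 : F) • x) = x + w := by
    rw [one_smul, hBdef, act_siegel, H.xw, herm_smul_right, H.xy.ef, zero_smul, add_zero, mul_zero, one_pow, one_mul,
      zero_sub, neg_smul, one_smul, vneg]
  have h0 : IsSiegel q e w 0 := ⟨H.ee, H.we, by rw [zero_pow_q hF, H.ww]; ring⟩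
  have hBA : IsSiegel q e (x + w) (1 * 1 ^ q : F) := by
    have h1 := (isSiegel_norm hF H.ee H.xe H.xy.ee (1 : F)).map B
    rwa [hBe, hBx] at h1
  have h1 : A⁻¹ * (B * A * B⁻¹) = siegel hF e w 0 h0 := by
    have h2 : B * A * B⁻¹ = siegel hF e (x + w) (1 * 1 ^ q) hBA := by
      rw [conj_siegel]
      exact siegel_congr hF _ _ hBe hBx rfl
    rw [h2, siegel_inv, siegel_mul]
    apply siegel_congr hF
    · rfl
    · rw [one_smul]; abel
    · rw [one_pow, one_mul, one_pow, one_smul, herm_neg_right hF, herm_add_left, H.xy.ee,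
        herm_eq_zero_swap hF H.xw, add_zero, neg_zero, sub_zero]
      exact CharTwo.add_self_eq_zero 1
  have hw0 : siegel hF e w 0 h0 ∈ PO q e w := by
    rw [← h1]
    exact mul_mem (inv_mem hA) (PO_conj hBe (act_siegel_self hF _) hA)
  have hμ : μ + μ ^ q = 0 := by have := h.tr; rwa [H.ww, add_zero] at this
  have h2 : siegel hF e w μ h = siegel hF e 0 μ (isSiegel_zero H.ee hμ) * siegel hF e w 0 h0 := by
    rw [siegel_mul]
    apply siegel_congr hF
    · rfl
    · rw [zero_add]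
    · rw [herm_zero_right hF, add_zero, sub_zero]
  rw [h2]
  exact mul_mem (transv_mem hF H hμ) hw0

/-- **The Siegel elements of isotropic type lie in the subgroup generated by the elements of odd order of their
centraliser.** -/
theorem siegel_mem_PO (hF : Fintype.card F = q ^ 2) (hn : 6 ≤ n) (he0 : e ≠ 0) {μ : F} (h : IsSiegel q e w μ)
    (hww : hermForm n F q w w = 0) : siegel hF e w μ h ∈ PO q e w := by
  obtain ⟨x, y, hxx, hyy, hxy, hxe, hye, hxw, hyw⟩ := exists_pair_perp hF hn he0 h.iso hww h.orth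
  exact siegel_mem_of_st hF ⟨⟨hxx, hyy, hxy⟩, h.iso, hww, h.orth, hxe, hye, hxw, hyw⟩ h

/-! ### Generation -/

/-- `siegG e` is generated by the Siegel elements with isotropic second vector. -/
theorem siegG_le (hF : Fintype.card F = q ^ 2) (hn : 6 ≤ n) (he0 : e ≠ 0) (hee : hermForm n F q e e = 0)
    {L : Subgroup (SU n F q)}
    (hL : ∀ (w : Fin n → F) (μ : F) (h : IsSiegel q e w μ), hermForm n F q w w = 0 → siegel hF e w μ h ∈ L) :
    siegG hF e hee ≤ L := by
  have hz : hermForm n F q (0 : Fin n → F) 0 = 0 := herm_zero_left _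
  obtain ⟨x, y, hxx, hyy, hxy, hxe, hye, -, -⟩ := exists_pair_perp hF hn he0 hee hz (herm_zero_left _)
  have key : ∀ w ∈ perp q e, ∃ (μ : F) (h : IsSiegel q e w μ), siegel hF e w μ h ∈ L := by
    refine iso_induction hF (W := perp q e) (x := x) (y := y) hxe hye hxx hyy hxy
      (P := fun w => ∃ (μ : F) (h : IsSiegel q e w μ), siegel hF e w μ h ∈ L) ?_ ?_
    · rintro a b ha hb ⟨μ, h, hm⟩ ⟨μ', h', hm'⟩
      refine ⟨_, h.mul hF h', ?_⟩
      rw [← siegel_mul hF h h']
      exact mul_mem hm hm'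
    · intro s hs hss
      have h0 : IsSiegel q e s 0 := ⟨hee, hs, by rw [zero_pow_q hF, hss]; ring⟩
      exact ⟨0, h0, hL s 0 h0 hss⟩
  rintro _ ⟨w, μ, h, rfl⟩
  obtain ⟨μ', h', hm⟩ := key w h.orth
  have hμ : (μ - μ') + (μ - μ') ^ q = 0 := by
    rw [sub_pow_q hF]; linear_combination h.tr - h'.tr
  have h2 : siegel hF e w μ h = siegel hF e 0 (μ - μ') (isSiegel_zero hee hμ) * siegel hF e w μ' h' := by
    rw [siegel_mul]
    apply siegel_congr hF
    · rfl
    · rw [zero_add]
    · rw [herm_zero_right hF]; ring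
  rw [h2]
  exact mul_mem (hL 0 _ _ hz) hm

/-- **The facts on `P0` in `PSU`.** Every element of `QQ e` is a product of elements `p ∈ QQ e`, `p² = 1`, which lie in a
subgroup of `PP e` generated by elements of odd order and centralising `p`. -/
theorem QQ_le (hF : Fintype.card F = q ^ 2) (hn : 6 ≤ n) (he0 : e ≠ 0) (hee : hermForm n F q e e = 0)
    {L : Subgroup (PSU n F q)}
    (hL : ∀ p ∈ QQ hF e hee, p * p = 1 → ∀ P : Subgroup (PSU n F q), OddGen P → P ≤ PP q e → p ∈ P →
      (∀ x ∈ P, x * p = p * x) → p ∈ L) : QQ hF e hee ≤ L := by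
  have h1 : siegG hF e hee ≤ L.comap (pr n F q) := by
    apply siegG_le hF hn he0 hee
    intro w μ h hww
    have hm := siegel_mem_PO hF hn he0 h hww
    refine hL _ (mem_QQ.2 ⟨w, μ, h, rfl⟩) ?_ ((PO q e w).map (pr n F q)) ((PO_oddGen e w).map _) ?_
      ⟨_, hm, rfl⟩ ?_
    · rw [← map_mul, siegel_mul]
      have h2 : siegel hF e (w + w) (μ + μ - hermForm n F q w w) (h.mul hF h) = 1 := by
        rw [← siegel_zero hF (IsSiegel.zero hF hee)]
        apply siegel_congr hF
        · rfl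
        · exact vadd w
        · rw [hww, sub_zero]; exact CharTwo.add_self_eq_zero μ
      rw [h2, map_one]
    · rintro _ ⟨g, hg, rfl⟩
      exact mem_PP.2 ⟨g, (PO_fix hg).1, rfl⟩
    · rintro _ ⟨g, hg, rfl⟩
      show pr n F q g * pr n F q _ = _ * pr n F q g
      rw [← map_mul, ← map_mul, PO_comm hF h hg]
  intro x hx
  obtain ⟨w, μ, h, rfl⟩ := mem_QQ.1 hx
  exact h1 ⟨w, μ, h, rfl⟩

end Two

end Cfsg.Agent.KFacts.Unit.PZero

end

-- merged: Cfsg.Agent.OddHalf.D7Out.PZeroU
section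

/-!
# The fields `hconj`, `hS`, `f3` of `TwEnd.Dat` for the class `OddGen` (helper552; ODD D7, outer 2-part, piece O9)

`hconj`, `hS`: the class of the subgroups generated by elements of odd order, any `K` (from `cyc`).
`f3_U`: an element of `C(t)` normalising `K ≅ PSU n F q` and centralising `P0` lies in `⟨t⟩ RR u`.
-/

set_option autoImplicit false

namespace Cfsg.Agent.OddHalf.D7Out.PZeroU

open Cfsg Subgroup
open Cfsg.Agent.OddHalf.D7Out.OddGen Cfsg.Agent.OddHalf.D7Out.TwClaim

variable {G : Type*} [Group G]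

/-- `OddGen` is closed under conjugation. -/
theorem hconj (P : Subgroup G) (g : G) (h : OddGen P) : OddGen (P.map (MulAut.conj g).toMonoidHom) := h.conj g

/-- **The field `hS`.** -/
theorem hS [Finite G] {t : G} {K U T : Subgroup G} (tt : t * t = 1) (tK : t ∉ K)
    (K_t : ∀ x ∈ K, x * t = t * x) (hKn : ∀ c, c * t = t * c → ∀ x ∈ K, c * x * c⁻¹ ∈ K)
    (hT : IsPGroup 2 T) (hTt : ∀ x ∈ T, x * t = t * x) (hodd : ¬ 2 ∣ T.relIndex (centralizer ({t} : Set G)))
    (hUK : U ≤ K) (cyc : ∃ y ∈ T, ∀ x ∈ T, ∃ i : ℤ, y ^ i * x ∈ U ∨ t * (y ^ i * x) ∈ U) :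
    ∀ P : Subgroup G, OddGen P → (∀ x ∈ P, x * t = t * x) → ∀ p ∈ P, p * p = 1 → p ∈ K := by
  intro P hP hPt p hp hpp
  obtain ⟨y, hy, hcyc⟩ := cyc
  refine mem_of_oddGen tt tK K_t hKn hT hTt hodd hy ?_ hP hPt hp (k := 1) (by rw [pow_one, pow_two, hpp])
  intro x hx
  obtain ⟨i, h | h⟩ := hcyc x hx
  · have e : x = y ^ (-i) * (y ^ i * x) := by group
    rw [e]
    exact mul_mem (mem_sup_left (zpow_mem (mem_zpowers y) _)) (mem_sup_right (mem_sup_right (hUK h)))
  · have e : x = y ^ (-i) * (t⁻¹ * (t * (y ^ i * x))) := by group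
    rw [e]
    exact mul_mem (mem_sup_left (zpow_mem (mem_zpowers y) _))
      (mem_sup_right (mul_mem (mem_sup_left (inv_mem (mem_zpowers t))) (mem_sup_right (hUK h))))

/-! ### A general lemma: centralising a subgroup with known automorphism centraliser -/

/-- If `x ∈ C(t)` normalises `K ≅ Y`, centralises the image of `Q ≤ Y` and every automorphism of `Y` trivial on `Q` is
conjugation by an element of `R`, then `x` or `t x` lies in the image of `R`. -/
theorem mem_of_aut [Finite G] {Y : Type*} [Group Y] {t x : G} {K : Subgroup G} (e : Y ≃* K) {Q R : Subgroup Y}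
    (hx : ∀ k ∈ K, x * k * x⁻¹ ∈ K) (hxt : x * t = t * x) (K_t : ∀ k ∈ K, k * t = t * k) (tt : t * t = 1)
    (hC : ∀ z : G, z * t = t * z → (∀ k ∈ K, z * k = k * z) → z = 1 ∨ z = t)
    (hQ : ∀ y ∈ Q, x * (e y : G) = (e y : G) * x)
    (hR : ∀ α : MulAut Y, (∀ y ∈ Q, α y = y) → ∃ z ∈ R, α = MulAut.conj z) :
    ∃ z ∈ R, x = (e z : G) ∨ t * x = (e z : G) := by
  have hxn : x ∈ normalizer (K : Set G) := Claim.mem_norm hx
  let α' : MulAut K := K.normalizerMonoidHom ⟨x, hxn⟩
  have hα' : ∀ k : K, (α' k : G) = x * k * x⁻¹ := fun k => rfl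
  let α : MulAut Y := (e.trans α').trans e.symm
  have hα : ∀ y : Y, (e (α y) : G) = x * (e y : G) * x⁻¹ := by
    intro y
    have : e (α y) = α' (e y) := by
      show e (e.symm (α' (e y))) = _
      rw [e.apply_symm_apply]
    rw [this, hα']
  obtain ⟨z, hz, hαz⟩ := hR α (by
    intro y hy
    apply e.injective
    apply Subtype.ext
    rw [hα, hQ y hy, mul_inv_cancel_right])
  have h1 : ∀ k ∈ K, ((e z : G)⁻¹ * x) * k = k * ((e z : G)⁻¹ * x) := by
    intro k hk
    obtain ⟨y, hy⟩ := e.surjective ⟨k, hk⟩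
    have hy' : (e y : G) = k := congrArg Subtype.val hy
    have h2 := hα y
    rw [hαz, MulAut.conj_apply, map_mul, map_mul, map_inv, hy'] at h2
    have h3 : (e z : G) * k * (e z : G)⁻¹ = x * k * x⁻¹ := by
      rw [← h2, ← hy']; rfl
    calc ((e z : G)⁻¹ * x) * k = (e z : G)⁻¹ * (x * k * x⁻¹) * x := by group
      _ = (e z : G)⁻¹ * ((e z : G) * k * (e z : G)⁻¹) * x := by rw [h3]
      _ = k * ((e z : G)⁻¹ * x) := by group
  have hzt : (e z : G) * t = t * (e z : G) := K_t _ (e z).2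
  have h2 : ((e z : G)⁻¹ * x) * t = t * ((e z : G)⁻¹ * x) := by
    have c1 : Commute (e z : G) t := hzt
    have c2 : Commute x t := hxt
    exact (c1.inv_left.mul_left c2).eq
  refine ⟨z, hz, ?_⟩
  rcases hC _ h2 h1 with h | h
  · left
    exact (inv_mul_eq_one.1 h).symm
  · right
    have h3 : x = (e z : G) * t := inv_mul_eq_iff_eq_mul.1 h
    rw [h3, hzt, ← mul_assoc, tt, one_mul]

/-! ### The unitary groups -/

section U

open Cfsg.Agent.LieClassical.HermBasic Cfsg.Agent.LieClassical.HermSiegel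
  Cfsg.Agent.ClassicalGeometry.PSUAutBasic Cfsg.Agent.ClassicalGeometry.PSUAutSylow
  Cfsg.Agent.ClassicalGeometry.PSUAutUnip Cfsg.Agent.KFacts.Unit

variable {F : Type*} [Field F] [Fintype F] {q n : ℕ}

/-- An element centralising `P0` centralises `QQ u`. -/
theorem comm_QQ [CharP F 2] (hF : Fintype.card F = q ^ 2) (hn : 6 ≤ n) {u : Fin n → F} (hu0 : u ≠ 0)
    (hu : hermForm n F q u u = 0) {x : G} {K U : Subgroup G} (e : PSU n F q ≃* K)
    (hQU : ∀ y ∈ QQ hF u hu, (e y : G) ∈ U) (h : ∀ p ∈ P0 OddGen K U, x * p = p * x) :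
    ∀ y ∈ QQ hF u hu, x * (e y : G) = (e y : G) * x := by
  let j : PSU n F q →* G := K.subtype.comp e.toMonoidHom
  have hj : ∀ y, j y = (e y : G) := fun y => rfl
  have hjK : ∀ y, j y ∈ K := fun y => (e y).2
  have h1 : QQ hF u hu ≤ (centralizer ({x} : Set G)).comap j := by
    apply PZero.QQ_le hF hn hu0 hu
    intro p hp hpp P hP _ hpP hPc
    rw [mem_comap, mem_centralizer_singleton_iff]
    refine (h (j p) ⟨hQU p hp, by rw [← map_mul, hpp, map_one], P.map j, hP.map j, ?_, ⟨p, hpP, rfl⟩, ?_⟩).symm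
    · rintro _ ⟨y, -, rfl⟩
      exact hjK y
    · rintro _ ⟨y, hy, rfl⟩
      rw [← map_mul, ← map_mul, hPc y hy]
  intro y hy
  exact (mem_centralizer_singleton_iff.1 (h1 hy)).symm

/-- **The field `f3` for `PSU n F q`.** -/
theorem f3_U [Finite G] [CharP F 2] (hF : Fintype.card F = q ^ 2) (hn : 6 ≤ n) {u : Fin n → F} (hu0 : u ≠ 0)
    (hu : hermForm n F q u u = 0) {t : G} {K U T X : Subgroup G} (e : PSU n F q ≃* K) (tt : t * t = 1)
    (K_t : ∀ k ∈ K, k * t = t * k) (hKn : ∀ c, c * t = t * c → ∀ k ∈ K, c * k * c⁻¹ ∈ K)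
    (hC : ∀ z : G, z * t = t * z → (∀ k ∈ K, z * k = k * z) → z = 1 ∨ z = t)
    (T_t : ∀ x ∈ T, x * t = t * x)
    (hQU : ∀ y ∈ QQ hF u hu, (e y : G) ∈ U) (hRX : ∀ y ∈ RR hF u hu, (e y : G) ∈ X) :
    ∀ x ∈ T, (∀ p ∈ P0 OddGen K U, x * p = p * x) → x ∈ X ∨ t * x ∈ X := by
  intro x hx h
  obtain ⟨z, hz, h1⟩ := mem_of_aut e (Q := QQ hF u hu) (R := RR hF u hu) (hKn x (T_t x hx)) (T_t x hx) K_t tt hC
    (comm_QQ hF hn hu0 hu e hQU h) (fun α hα => autCent_point hF (by omega) hu0 hu α hα)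
  rcases h1 with h1 | h1
  · left; rw [h1]; exact hRX z hz
  · right; rw [h1]; exact hRX z hz

end U

end Cfsg.Agent.OddHalf.D7Out.PZeroU

end
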