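import Mathlib.GroupTheory.Transfer
import Mathlib.GroupTheory.PGroup
import Mathlib.GroupTheory.Sylow
import Cfsg.Agent.OddHalf.TFormula
import Cfsg.Agent.OddHalf.TR
import Cfsg.Agent.TwoFusion.IndexTwo
import Cfsg.Agent.GH.WRank

-- merged: Cfsg.Agent.OddHalf.CycFormula
section

/-!
# The T-formula for a cyclic group normalised by a 2-group (helper868)

`v ∈ G`, `T` a 2-subgroup of `G` normalising (not necessarily centralising) `⟨v⟩`, `φ : H →* A` with
`A` abelian of exponent 2.  The transfer of `φ` at `v` is the product over the `⟨v⟩`-orbits on `G / H`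
which are fixed by `T` (as sets) of `φ (g⁻¹ v^l g)`, `l` the length of the orbit of `gH`.

* `mk v H g` is the `⟨v⟩`-orbit of `gH`; `per v H g` its length;
* `transfer_eq_prod`: the formula.
-/

set_option autoImplicit false

namespace Cfsg.Agent.OddHalf.CycFormula

open MulAction Subgroup Function

section generic

/-- a product of values of exponent 2 is the product over the fixed points of a 2-group preserving the
values -/
theorem prod_eq_prod_fixed {P Y A : Type*} [Group P] [MulAction P Y] [Fintype Y] [DecidableEq Y]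
    [CommGroup A] (hA : ∀ a : A, a * a = 1) (hP : IsPGroup 2 P) (f : Y → A)
    (hf : ∀ (x : P) (q : Y), f (x • q) = f q) (s : Finset Y)
    (hs : ∀ q, q ∈ s ↔ ∀ x : P, x • q = q) : ∏ q, f q = ∏ q ∈ s, f q := by
  classical
  have hsub : ∀ q ∈ s, f q ∈ (Finset.univ : Finset Y).image f := fun q _ =>
    Finset.mem_image_of_mem _ (Finset.mem_univ q)
  rw [← Finset.prod_fiberwise_of_maps_to (s := Finset.univ) (t := Finset.univ.image f) (g := f)
    (fun q hq => Finset.mem_image_of_mem f hq) f,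
    ← Finset.prod_fiberwise_of_maps_to (s := s) (t := Finset.univ.image f) (g := f) hsub f]
  apply Finset.prod_congr rfl
  intro a _
  rw [Finset.prod_congr rfl (fun q hq => (Finset.mem_filter.1 hq).2),
    Finset.prod_congr (s₁ := s.filter (fun q => f q = a)) rfl
      (fun q hq => (Finset.mem_filter.1 hq).2),
    Finset.prod_const, Finset.prod_const]
  let Z := {q : Y // f q = a}
  let _ : MulAction P Z :=
    { smul := fun x q => ⟨x • q.1, by rw [hf]; exact q.2⟩
      one_smul := fun q => Subtype.ext (one_smul P q.1)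
      mul_smul := fun x y q => Subtype.ext (mul_smul x y q.1) }
  have hcard := hP.card_modEq_card_fixedPoints Z
  have h1 : Nat.card Z = (Finset.univ.filter (fun q => f q = a)).card := by
    rw [Nat.subtype_card]
    intro q
    simp
  have h2 : Nat.card (fixedPoints P Z) = (s.filter (fun q => f q = a)).card := by
    have e : fixedPoints P Z ≃ {q : Y // (∀ x : P, x • q = q) ∧ f q = a} :=
      { toFun := fun q => ⟨q.1.1, fun x => congrArg Subtype.val (q.2 x), q.1.2⟩
        invFun := fun q => ⟨⟨q.1, q.2.2⟩, fun x => Subtype.ext (q.2.1 x)⟩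
        left_inv := fun q => rfl
        right_inv := fun q => rfl }
    rw [Nat.card_congr e, Nat.subtype_card]
    intro q
    rw [Finset.mem_filter, hs]
  rw [← h1, ← h2]
  have ha2 : a ^ 2 = 1 := by rw [pow_two, hA]
  rw [← Nat.div_add_mod (Nat.card Z) 2, ← Nat.div_add_mod (Nat.card (fixedPoints P Z)) 2, pow_add,
    pow_add, pow_mul, pow_mul, ha2, one_pow, one_pow, hcard]

end generic

variable {G : Type*} [Group G] {v : G} {H : Subgroup G}

/-- the `⟨v⟩`-orbits on `G / H` -/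
abbrev Orb (v : G) (H : Subgroup G) := Quotient (orbitRel (zpowers v) (G ⧸ H))

/-- the orbit of `gH` -/
def mk (v : G) (H : Subgroup G) (g : G) : Orb v H := Quotient.mk'' (g : G ⧸ H)

/-- its length -/
noncomputable def per (v : G) (H : Subgroup G) (g : G) : ℕ := minimalPeriod (v • ·) (g : G ⧸ H)

theorem smul_coe_eq_iff (x g h : G) : x • (g : G ⧸ H) = (h : G ⧸ H) ↔ h⁻¹ * x * g ∈ H := by
  rw [MulAction.Quotient.smul_mk, smul_eq_mul, eq_comm, QuotientGroup.eq, mul_assoc]

theorem mk_eq_iff (g h : G) : mk v H g = mk v H h ↔ ∃ i : ℤ, h⁻¹ * v ^ i * g ∈ H := by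
  constructor
  · intro e
    have h1 : (orbitRel (zpowers v) (G ⧸ H)).r (h : G ⧸ H) (g : G ⧸ H) := Quotient.exact e.symm
    obtain ⟨⟨_, i, rfl⟩, hy⟩ := h1
    exact ⟨i, (smul_coe_eq_iff (v ^ i) g h).1 hy⟩
  · rintro ⟨i, hi⟩
    symm
    apply Quotient.sound
    exact ⟨⟨v ^ i, i, rfl⟩, (smul_coe_eq_iff (v ^ i) g h).2 hi⟩

theorem mk_surjective : Surjective (mk v H) := by
  intro q
  induction q using Quotient.inductionOn' with
  | h x =>
    obtain ⟨g, rfl⟩ := QuotientGroup.mk_surjective x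
    exact ⟨g, rfl⟩

theorem pow_mem_iff (g : G) (n : ℕ) : g⁻¹ * v ^ n * g ∈ H ↔ per v H g ∣ n := by
  rw [← smul_coe_eq_iff, per, pow_smul_eq_iff_minimalPeriod_dvd]

theorem per_mem (g : G) : g⁻¹ * v ^ per v H g * g ∈ H := (pow_mem_iff g _).2 dvd_rfl

theorem cpow (g x : G) (n : ℕ) : g⁻¹ * x ^ n * g = (g⁻¹ * x * g) ^ n := by
  have := conj_pow (i := n) (a := g⁻¹) (b := x)
  rw [inv_inv] at this
  exact this.symm

theorem czpow (g x : G) (n : ℤ) : g⁻¹ * x ^ n * g = (g⁻¹ * x * g) ^ n := by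
  have := conj_zpow (i := n) (a := g⁻¹) (b := x)
  rw [inv_inv] at this
  exact this.symm

theorem zpow_zpow_eq {x : G} {i j : ℤ} (hi : v ^ i = x⁻¹ * v * x) (hj : v ^ j = x * v * x⁻¹) (y : G)
    (hy : y ∈ zpowers v) : (y ^ i) ^ j = y := by
  have h0 : (v ^ i) ^ j = v := by
    rw [← zpow_mul, mul_comm, zpow_mul, hj, conj_zpow, hi]
    group
  obtain ⟨k, rfl⟩ := mem_zpowers_iff.1 hy
  calc ((v ^ k) ^ i) ^ j = ((v ^ i) ^ j) ^ k := by
        rw [← zpow_mul, ← zpow_mul, ← zpow_mul, ← zpow_mul]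
        congr 1
        ring
    _ = v ^ k := by rw [h0]

/-- moving the representative by an element normalising `⟨v⟩`, or by an element of `H` -/
theorem per_eq {x g h : G} (hx : x⁻¹ * v * x ∈ zpowers v) (hx' : x * v * x⁻¹ ∈ zpowers v)
    (hh : g⁻¹ * x⁻¹ * h ∈ H) : per v H h = per v H g := by
  obtain ⟨i, hi⟩ := mem_zpowers_iff.1 hx
  obtain ⟨j, hj⟩ := mem_zpowers_iff.1 hx'
  -- `h = x g c`, `c ∈ H`
  obtain ⟨c, hc, rfl⟩ : ∃ c ∈ H, h = x * g * c := ⟨_, hh, by group⟩
  have key : ∀ n : ℕ, (x * g * c)⁻¹ * v ^ n * (x * g * c) ∈ H ↔ g⁻¹ * v ^ n * g ∈ H := by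
    intro n
    have e1 : (x * g * c)⁻¹ * v ^ n * (x * g * c) = c⁻¹ * (g⁻¹ * (x⁻¹ * v ^ n * x) * g) * c := by
      group
    have e2 : (c⁻¹ * (g⁻¹ * (x⁻¹ * v ^ n * x) * g) * c ∈ H) ↔ g⁻¹ * (x⁻¹ * v ^ n * x) * g ∈ H := by
      rw [H.mul_mem_cancel_right hc, H.mul_mem_cancel_left (H.inv_mem hc)]
    have e3 : g⁻¹ * (x⁻¹ * v ^ n * x) * g = (g⁻¹ * v ^ n * g) ^ i := by
      rw [cpow x, ← hi, ← czpow, ← zpow_natCast, ← zpow_natCast, ← zpow_mul, ← zpow_mul,
        mul_comm]
    rw [e1, e2, e3]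
    constructor
    · intro h1
      have h2 := H.zpow_mem h1 j
      rwa [← czpow, ← czpow, zpow_zpow_eq hi hj _ (pow_mem (mem_zpowers v) n)] at h2
    · intro h1
      exact H.zpow_mem h1 i
  apply Nat.dvd_antisymm
  · rw [← pow_mem_iff, key, pow_mem_iff]
  · rw [← pow_mem_iff, ← key, pow_mem_iff]

/-- the value does not change either -/
theorem val_eq {A : Type*} [CommGroup A] (hA : ∀ a : A, a * a = 1) (φ : H →* A) {x g h : G}
    (hx : x⁻¹ * v * x ∈ zpowers v) (hx' : x * v * x⁻¹ ∈ zpowers v)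
    (hh : g⁻¹ * x⁻¹ * h ∈ H) (m1 : h⁻¹ * v ^ per v H h * h ∈ H)
    (m2 : g⁻¹ * v ^ per v H g * g ∈ H) : φ ⟨_, m1⟩ = φ ⟨_, m2⟩ := by
  have hper := per_eq hx hx' hh
  revert m1
  rw [hper]
  intro m1
  obtain ⟨i, hi⟩ := mem_zpowers_iff.1 hx
  obtain ⟨j, hj⟩ := mem_zpowers_iff.1 hx'
  obtain ⟨c, hc, rfl⟩ : ∃ c ∈ H, h = x * g * c := ⟨_, hh, by group⟩
  set n := per v H g with hn
  set a := φ ⟨_, m2⟩ with ha
  have e1 : (⟨_, m1⟩ : H) = ⟨c, hc⟩⁻¹ * ⟨_, m2⟩ ^ i * ⟨c, hc⟩ := by
    apply Subtype.ext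
    show (x * g * c)⁻¹ * v ^ n * (x * g * c) = c⁻¹ * (g⁻¹ * v ^ n * g) ^ i * c
    rw [← czpow]
    have e2 : (v ^ n) ^ i = x⁻¹ * v ^ n * x := by
      rw [cpow x, ← hi, ← zpow_natCast, ← zpow_natCast, ← zpow_mul, ← zpow_mul, mul_comm]
    rw [e2]
    group
  have e2 : φ ⟨_, m1⟩ = a ^ i := by
    rw [e1, map_mul, map_mul, map_zpow, map_inv, mul_comm, ← mul_assoc, mul_inv_cancel, one_mul]
  have e3 : (a ^ i) ^ j = a := by
    rw [ha, ← map_zpow, ← map_zpow]
    congr 1
    apply Subtype.ext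
    show ((g⁻¹ * v ^ n * g) ^ i) ^ j = g⁻¹ * v ^ n * g
    rw [← czpow, ← czpow, zpow_zpow_eq hi hj _ (pow_mem (mem_zpowers v) n)]
  rw [e2]
  have h2 : a ^ (2 : ℤ) = 1 := by
    rw [show (2 : ℤ) = 1 + 1 by norm_num, zpow_add, zpow_one, hA]
  rcases Int.even_or_odd' i with ⟨m, hm | hm⟩
  · have h1 : a ^ i = 1 := by rw [hm, zpow_mul, h2, one_zpow]
    rw [h1, one_zpow] at e3
    rw [h1, ← e3]
  · rw [hm, zpow_add, zpow_mul, h2, one_zpow, one_mul, zpow_one]

/-- **the T-formula for `⟨v⟩` normalised by `T`** -/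
theorem transfer_eq_prod {A : Type*} [CommGroup A] (hA : ∀ a : A, a * a = 1) [Finite G]
    [Fintype (Orb v H)] (φ : H →* A) (T : Subgroup G) (hT : IsPGroup 2 T)
    (hTv : ∀ x ∈ T, x * v * x⁻¹ ∈ zpowers v) :
    ∃ f : Orb v H → A, (∀ (g : G) (m : g⁻¹ * v ^ per v H g * g ∈ H), f (mk v H g) = φ ⟨_, m⟩) ∧
      ∃ s : Finset (Orb v H), (∀ g, mk v H g ∈ s ↔ ∀ x ∈ T, ∃ i : ℤ, g⁻¹ * (v ^ i * x) * g ∈ H) ∧
        MonoidHom.transfer φ v = ∏ q ∈ s, f q := by
  classical
  rw [MonoidHom.transfer_eq_prod_quotient_orbitRel_zpowers_quot]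
  set f : Orb v H → A := fun q => φ ⟨q.out.out⁻¹ * v ^ minimalPeriod (v • ·) q.out * q.out.out,
    QuotientGroup.out_conj_pow_minimalPeriod_mem H v q.out⟩ with hf
  have hval : ∀ (g : G) (m : g⁻¹ * v ^ per v H g * g ∈ H), f (mk v H g) = φ ⟨_, m⟩ := by
    intro g m
    set q := mk v H g with hq
    have h1 : (q.out.out : G ⧸ H) = q.out := Quotient.out_eq' q.out
    have h0 : (Quotient.mk'' q.out : Orb v H) = q := Quotient.out_eq' q
    have h2 : mk v H q.out.out = mk v H g := by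
      show (Quotient.mk'' ((q.out.out : G) : G ⧸ H) : Orb v H) = q
      rw [h1, h0]
    obtain ⟨i, hi⟩ := (mk_eq_iff _ _).1 h2
    have h3 : minimalPeriod (v • ·) q.out = per v H q.out.out := by
      rw [per, h1]
    have h4 : ∀ (l : ℕ) (_ : l = per v H q.out.out) (m1 : q.out.out⁻¹ * v ^ l * q.out.out ∈ H),
        φ ⟨_, m1⟩ = φ ⟨_, m⟩ := by
      rintro l rfl m1
      have hz : ∀ i : ℤ, (v ^ i)⁻¹ * v * (v ^ i) = v := by
        intro i
        have : v * v ^ i = v ^ i * v := (Commute.refl v).zpow_right i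
        rw [mul_assoc, this]
        group
      have hz' : ∀ i : ℤ, (v ^ i) * v * (v ^ i)⁻¹ = v := by
        intro i
        have : v ^ i * v = v * v ^ i := (Commute.refl v).zpow_left i
        rw [this]
        group
      apply val_eq hA φ (x := v ^ (-i))
      · rw [hz]; exact mem_zpowers v
      · rw [hz']; exact mem_zpowers v
      · rw [← zpow_neg, neg_neg]; exact hi
    exact h4 _ h3 _
  have hTv' : ∀ x ∈ T, x⁻¹ * v * x ∈ zpowers v := by
    intro x hx
    have := hTv _ (T.inv_mem hx)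
    rwa [inv_inv] at this
  have hcong : ∀ x ∈ T, ∀ i : ℤ, ∃ j : ℤ, x * v ^ i = v ^ j * x := by
    intro x hx i
    obtain ⟨j, hj⟩ := mem_zpowers_iff.1 (hTv x hx)
    refine ⟨j * i, ?_⟩
    rw [zpow_mul, hj, conj_zpow]
    group
  let act : T → Orb v H → Orb v H := fun a => Quotient.map' (fun x => (a : G) • x) (by
    intro x y hxy
    obtain ⟨⟨_, i, rfl⟩, hy⟩ := hxy
    have hy' : v ^ i • y = x := hy
    obtain ⟨j, hj⟩ := hcong a a.2 i
    show (a : G) • x ∈ orbit (zpowers v) ((a : G) • y)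
    refine ⟨⟨v ^ j, j, rfl⟩, ?_⟩
    show v ^ j • ((a : G) • y) = (a : G) • x
    rw [← hy', smul_smul, smul_smul, hj])
  have hact : ∀ (a : T) (g : G), act a (mk v H g) = mk v H (a * g) := fun a g => rfl
  let _ : MulAction T (Orb v H) :=
    { smul := act
      one_smul := by
        intro q
        obtain ⟨g, rfl⟩ := mk_surjective q
        show act 1 (mk v H g) = mk v H g
        rw [hact]
        show mk v H (1 * g) = mk v H g
        rw [one_mul]
      mul_smul := by
        intro x y q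
        obtain ⟨g, rfl⟩ := mk_surjective q
        show act (x * y) (mk v H g) = act x (act y (mk v H g))
        rw [hact, hact, hact]
        show mk v H (x * y * g) = mk v H (x * (y * g))
        rw [mul_assoc] }
  have hinv : ∀ (a : T) (q : Orb v H), f (a • q) = f q := by
    intro a q
    obtain ⟨g, rfl⟩ := mk_surjective q
    show f (act a (mk v H g)) = f (mk v H g)
    rw [hact, hval _ (per_mem _), hval _ (per_mem _)]
    apply val_eq hA φ (x := (a : G)) (hTv' a a.2) (hTv a a.2)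
    have : g⁻¹ * (a : G)⁻¹ * (a * g) = 1 := by group
    rw [this]; exact H.one_mem
  refine ⟨f, hval, Finset.univ.filter (fun q : Orb v H => ∀ x : T, x • q = q), ?_, ?_⟩
  · intro g
    rw [Finset.mem_filter]
    simp only [Finset.mem_univ, true_and]
    constructor
    · intro h x hx
      have h1 := h ⟨x, hx⟩
      change act ⟨x, hx⟩ (mk v H g) = mk v H g at h1
      rw [hact, mk_eq_iff] at h1
      obtain ⟨i, hi⟩ := h1
      refine ⟨i, ?_⟩
      have : g⁻¹ * (v ^ i * x) * g = g⁻¹ * v ^ i * (x * g) := by group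
      rw [this]; exact hi
    · intro h x
      obtain ⟨i, hi⟩ := h x x.2
      show act x (mk v H g) = mk v H g
      rw [hact, mk_eq_iff]
      refine ⟨i, ?_⟩
      have : g⁻¹ * v ^ i * (x * g) = g⁻¹ * (v ^ i * x) * g := by group
      rw [this]; exact hi
  · exact prod_eq_prod_fixed hA hT f hinv _ (fun q => by simp)

end Cfsg.Agent.OddHalf.CycFormula

end

-- merged: Cfsg.Agent.OddHalf.D7Out.Iso
section

/-!
# ODD half, D7: the isolated case is impossible (helper118's #7489 (1); Lean by helper868)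

`t` an involution of `G`, `C_G(t) ⊵ K`, `R = ⟨v⟩ ∋ t` a cyclic 2-group, normal in `C_G(t)`, centralised
by `K`, `K ∩ R = 1`; `T` a Sylow 2-subgroup of `C_G(t)`, `C_T(T ∩ K) ≤ R K` (`t1s`), `t` not conjugate to
an element of `Z(T ∩ K)` (`notz`), `t` the only conjugate of `t` in `Z(T)` (`iso`).

* `Isol.mem_commutator`: `G` perfect ⟹ `t ∈ T'`;
* `Isol.hom_eq_one`: `G` without subgroups of index 2 ⟹ `χ v = 1` for every `χ : T → {±1}`
  (`K` is only used through `t1s`, `notz`);
* `Isol.false_of_cyc`: `G` perfect, `T / R (T ∩ K)` cyclic ⟹ `False`.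
-/

set_option autoImplicit false

namespace Cfsg.Agent.OddHalf.D7Out.Iso

open Subgroup MulAction Cfsg.Agent.OddHalf.CycFormula

variable {G : Type*} [Group G]

/-- the isolated case -/
structure Isol (t v : G) (K T : Subgroup G) : Prop where
  t1 : t ≠ 1
  tt : t * t = 1
  tv : t ∈ zpowers v
  pv : IsPGroup 2 (zpowers v)
  vn : ∀ m, m * t = t * m → m * v * m⁻¹ ∈ zpowers v
  kn : ∀ m, m * t = t * m → ∀ x ∈ K, m * x * m⁻¹ ∈ K
  kv : ∀ x ∈ K, x * v = v * x
  inf : ∀ x ∈ K, x ∈ zpowers v → x = 1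
  pT : IsPGroup 2 T
  vT : v ∈ T
  tc : ∀ x ∈ T, x * t = t * x
  /-- `T` is a Sylow subgroup of `C(t)` -/
  max : ∀ P : Subgroup G, IsPGroup 2 P → T ≤ P → (∀ x ∈ P, x * t = t * x) → P ≤ T
  /-- (T1s) -/
  t1s : ∀ x ∈ T, (∀ y ∈ T, y ∈ K → x * y = y * x) → ∃ r ∈ zpowers v, ∃ z ∈ K, x = r * z
  /-- (0) `t` is not conjugate to an element of `Z(T ∩ K)` -/
  notz : ∀ g, g * t * g⁻¹ ∈ T → g * t * g⁻¹ ∈ K →
    (∀ y ∈ T, y ∈ K → g * t * g⁻¹ * y = y * (g * t * g⁻¹)) → False
  /-- `t` is isolated in `Z(T)` -/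
  iso : ∀ g, g * t * g⁻¹ ∈ T → (∀ x ∈ T, x * (g * t * g⁻¹) = g * t * g⁻¹ * x) → g * t * g⁻¹ = t

/-- in a cyclic 2-group the involution is unique -/
theorem eq_of_sq [Finite G] {v t x : G} (ht : t ∈ zpowers v) (htt : t * t = 1) (ht1 : t ≠ 1)
    (hx : x ∈ zpowers v) (hxx : x * x = 1) : x = 1 ∨ x = t := by
  classical
  by_contra hne
  push Not at hne
  have := Fintype.ofFinite (zpowers v)
  have h1 := IsCyclic.card_pow_eq_one_le (α := zpowers v) (n := 2) (by norm_num)
  have h2 : ({(1 : zpowers v), ⟨t, ht⟩, ⟨x, hx⟩} : Finset (zpowers v)) ⊆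
      Finset.univ.filter (fun a => a ^ 2 = 1) := by
    intro a ha
    rw [Finset.mem_filter]
    refine ⟨Finset.mem_univ _, ?_⟩
    simp only [Finset.mem_insert, Finset.mem_singleton] at ha
    rcases ha with rfl | rfl | rfl
    · exact one_pow 2
    · exact Subtype.ext (by show t ^ 2 = 1; rw [pow_two]; exact htt)
    · exact Subtype.ext (by show x ^ 2 = 1; rw [pow_two]; exact hxx)
  have h3 : ({(1 : zpowers v), ⟨t, ht⟩, ⟨x, hx⟩} : Finset (zpowers v)).card = 3 := by
    rw [Finset.card_eq_three]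
    refine ⟨_, _, _, ?_, ?_, ?_, rfl⟩
    · intro e; exact ht1 (congrArg Subtype.val e).symm
    · intro e; exact hne.1 (congrArg Subtype.val e).symm
    · intro e; exact hne.2 (congrArg Subtype.val e).symm
  have h4 := Finset.card_le_card h2
  omega

/-- a nontrivial subgroup of a cyclic 2-group contains the involution -/
theorem mem_zpowers_of_ne [Finite G] {v t w : G} (pv : IsPGroup 2 (zpowers v)) (ht : t ∈ zpowers v)
    (htt : t * t = 1) (ht1 : t ≠ 1) (hw : w ∈ zpowers v) (hw1 : w ≠ 1) : t ∈ zpowers w := by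
  obtain ⟨k, hk⟩ := pv ⟨w, hw⟩
  have hk' : w ^ 2 ^ k = 1 := congrArg Subtype.val hk
  have hex : ∃ k, w ^ 2 ^ k = 1 := ⟨k, hk'⟩
  classical
  set m := Nat.find hex with hm
  have hm1 : w ^ 2 ^ m = 1 := Nat.find_spec hex
  have hmlt : ∀ j < m, w ^ 2 ^ j ≠ 1 := fun j hj => Nat.find_min hex hj
  have hm0 : m ≠ 0 := by
    intro h0
    rw [h0, pow_zero, pow_one] at hm1
    exact hw1 hm1
  have h1 : w ^ 2 ^ (m - 1) * w ^ 2 ^ (m - 1) = 1 := by
    rw [← pow_add, ← two_mul, ← pow_succ', show m - 1 + 1 = m by omega, hm1]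
  have h2 := eq_of_sq ht htt ht1 ((zpowers v).pow_mem hw (2 ^ (m - 1))) h1
  rcases h2 with h2 | h2
  · exact absurd h2 (hmlt (m - 1) (by omega))
  · rw [← h2]
    exact pow_mem (mem_zpowers w) _

namespace Isol

variable {t v : G} {K T : Subgroup G}

theorem tT (F : Isol t v K T) : t ∈ T := by
  have : zpowers v ≤ T := by rw [zpowers_le]; exact F.vT
  exact this F.tv

theorem vt (F : Isol t v K T) : ∀ x ∈ zpowers v, x * t = t * x := by
  intro x hx
  obtain ⟨i, rfl⟩ := mem_zpowers_iff.1 hx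
  obtain ⟨j, rfl⟩ := mem_zpowers_iff.1 F.tv
  rw [← zpow_add, ← zpow_add, add_comm]

theorem comm_of_conj {g : G} (h : g * t * g⁻¹ = t) : g * t = t * g := by
  rwa [mul_inv_eq_iff_eq_mul] at h

theorem conj_of_comm {g : G} (h : g * t = t * g) : g * t * g⁻¹ = t := by
  rwa [mul_inv_eq_iff_eq_mul]

/-- the normaliser of `T` centralises `t` -/
theorem fix (F : Isol t v K T) {x : G} (hx : x ∈ normalizer (T : Set G)) : x * t * x⁻¹ = t := by
  apply F.iso x ((mem_normalizer_iff.1 hx t).1 F.tT)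
  intro y hy
  have h0 : x⁻¹ * y * x ∈ T := by
    apply (mem_normalizer_iff.1 hx (x⁻¹ * y * x)).2
    have e : x * (x⁻¹ * y * x) * x⁻¹ = y := by group
    rw [e]; exact hy
  have h1 := F.tc _ h0
  calc y * (x * t * x⁻¹) = x * (x⁻¹ * y * x * t) * x⁻¹ := by group
    _ = x * (t * (x⁻¹ * y * x)) * x⁻¹ := by rw [h1]
    _ = x * t * x⁻¹ * y := by group

/-- `T` is a Sylow 2-subgroup of `G` -/
theorem sylow [Finite G] (F : Isol t v K T) : ∃ S : Sylow 2 G, (S : Subgroup G) = T := by
  obtain ⟨S, hS⟩ := F.pT.exists_le_sylow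
  refine ⟨S, ?_⟩
  by_contra hne
  have hlt : T < (S : Subgroup G) := lt_of_le_of_ne hS (Ne.symm hne)
  have : Group.IsNilpotent (S : Subgroup G) := S.isPGroup'.isNilpotent
  obtain ⟨x, hxS, hxT, hxN⟩ :=
    Cfsg.Agent.Transfer.FrobeniusFusion.exists_mem_normalizer_notMem hlt
  apply hxT
  have hxt := comm_of_conj (F.fix hxN)
  have h1 : IsPGroup 2 ((zpowers x ⊔ T : Subgroup G)) := by
    refine IsPGroup.to_sup_of_normal_right' ?_ F.pT (by rw [zpowers_le]; exact hxN)
    exact S.isPGroup'.to_le (by rw [zpowers_le]; exact hxS)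
  have h2 : ∀ y ∈ zpowers x ⊔ T, y * t = t * y := by
    have : zpowers x ⊔ T ≤ centralizer ({t} : Set G) := by
      rw [sup_le_iff, zpowers_le]
      exact ⟨mem_centralizer_singleton_iff.2 hxt, fun y hy =>
        mem_centralizer_singleton_iff.2 (F.tc y hy)⟩
    intro y hy
    exact mem_centralizer_singleton_iff.1 (this hy)
  exact F.max _ h1 le_sup_right h2 ((le_sup_left : zpowers x ≤ _) (mem_zpowers x))

/-- the number of `T`-fixed cosets of `T` is odd -/
theorem odd_fixed [Finite G] (F : Isol t v K T) : Odd (Nat.card (fixedPoints T (G ⧸ T))) := by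
  obtain ⟨S, hS⟩ := F.sylow
  have h1 := F.pT.card_modEq_card_fixedPoints (G ⧸ T)
  have h3 : ¬ 2 ∣ T.index := by
    rw [← hS]
    exact S.not_dvd_index
  have h4 : Nat.card (G ⧸ T) = T.index := rfl
  rw [h4] at h1
  rw [Nat.odd_iff]
  have : T.index % 2 = Nat.card (fixedPoints T (G ⧸ T)) % 2 := h1
  omega

theorem fixed_iff [Finite G] (g : G) :
    (g : G ⧸ T) ∈ fixedPoints T (G ⧸ T) ↔ g ∈ normalizer (T : Set G) := by
  rw [mem_fixedPoints]
  constructor
  · intro h
    have h0 : g⁻¹ ∈ normalizer (T : Set G) := by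
      apply mem_normalizer_fintype
      intro n hn
      have h1 := h ⟨n, hn⟩
      have h2 : n • (g : G ⧸ T) = g := h1
      rw [smul_coe_eq_iff] at h2
      rw [inv_inv]
      exact h2
    have := (normalizer (T : Set G)).inv_mem h0
    rwa [inv_inv] at this
  · intro h x
    show (x : G) • (g : G ⧸ T) = g
    rw [smul_coe_eq_iff]
    have h1 := (normalizer (T : Set G)).inv_mem h
    have h2 := (mem_normalizer_iff.1 h1 (x : G)).1 x.2
    rwa [inv_inv] at h2

/-- **(1), first part** -/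
theorem mem_commutator [Finite G] (F : Isol t v K T) (hG : commutator G = ⊤) :
    (⟨t, F.tT⟩ : T) ∈ commutator T := by
  classical
  have := Fintype.ofFinite (G ⧸ T)
  obtain ⟨f, hf, s, hs, hprod⟩ := TFormula.transfer_eq_prod T
    (Abelianization.of (G := T)) t F.tt T F.pT F.tc
  have hval : ∀ q ∈ s, f q = Abelianization.of (⟨t, F.tT⟩ : T) := by
    intro q hq
    obtain ⟨g, rfl⟩ := QuotientGroup.mk_surjective q
    have h0 : (g : G ⧸ T) ∈ fixedPoints T (G ⧸ T) := by
      rw [mem_fixedPoints]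
      intro x
      exact ((hs _).1 hq).2 x x.2
    have h1 := F.fix ((fixed_iff g).1 h0)
    have h2 : g⁻¹ * t * g = t := by
      calc g⁻¹ * t * g = g⁻¹ * (g * t * g⁻¹) * g := by rw [h1]
        _ = t := by group
    rw [hf _ g rfl (by rw [h2]; exact F.tT)]
    congr 1
    exact Subtype.ext h2
  have hodd : s.card ≡ 1 [MOD 2] := by
    have h2 : Nat.card (MulAction.fixedPoints T (G ⧸ T)) = s.card := by
      have : Nat.card (MulAction.fixedPoints T (G ⧸ T)) =
          Nat.card {q : G ⧸ T // q ∈ s} := by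
        apply Nat.card_congr
        apply Equiv.subtypeEquivRight
        intro q
        rw [hs, MulAction.mem_fixedPoints]
        constructor
        · intro h
          exact ⟨h ⟨t, F.tT⟩, fun x hx => h ⟨x, hx⟩⟩
        · intro h x
          exact h.2 x x.2
      rw [this, Nat.subtype_card (s := s) (by intro q; rfl)]
    rw [← h2]
    exact Nat.odd_iff.1 F.odd_fixed
  have hsq : (Abelianization.of (⟨t, F.tT⟩ : T)) * (Abelianization.of (⟨t, F.tT⟩ : T)) = 1 := by
    rw [← map_mul]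
    have : (⟨t, F.tT⟩ : T) * ⟨t, F.tT⟩ = 1 := Subtype.ext F.tt
    rw [this, map_one]
  rw [Finset.prod_congr rfl hval, Finset.prod_const, TFormula.pow_eq_of_modEq hsq hodd, pow_one,
    TFormula.hom_eq_one hG] at hprod
  rw [← Abelianization.ker_of, MonoidHom.mem_ker]
  exact hprod.symm

/-- the heart of (1): a `T`-fixed `R`-orbit with nontrivial value comes from the normaliser of `T` -/
theorem mem_normalizer_of_fixed [Finite G] (F : Isol t v K T) {g w : G}
    (hg : ∀ x ∈ T, ∃ i : ℤ, g⁻¹ * (v ^ i * x) * g ∈ T) (hw : w ∈ zpowers v) (hw1 : w ≠ 1)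
    (hwT : g⁻¹ * w * g ∈ T) : g ∈ normalizer (T : Set G) := by
  have hRT : zpowers v ≤ T := by rw [zpowers_le]; exact F.vT
  -- `u = g⁻¹ t g ∈ T`
  have hu : g⁻¹ * t * g ∈ T := by
    obtain ⟨i, hi⟩ := mem_zpowers_iff.1 (mem_zpowers_of_ne F.pv F.tv F.tt F.t1 hw hw1)
    rw [← hi, czpow]
    exact T.zpow_mem hwT i
  -- `t' = g t g⁻¹` commutes with `t`
  set t' : G := g * t * g⁻¹ with ht'
  have hc : ∀ y, g⁻¹ * y * g ∈ T → y * t' = t' * y := by
    intro y hy
    have h1 := F.tc _ hy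
    calc y * t' = g * (g⁻¹ * y * g * t) * g⁻¹ := by rw [ht']; group
      _ = g * (t * (g⁻¹ * y * g)) * g⁻¹ := by rw [h1]
      _ = t' * y := by rw [ht']; group
  have ht't : t' * t = t * t' := (hc t hu).symm
  -- decomposition of the elements of `T`
  have hdec : ∀ y ∈ T, ∃ r ∈ zpowers v, ∃ n ∈ T, g⁻¹ * n * g ∈ T ∧ y = r * n := by
    intro y hy
    obtain ⟨i, hi⟩ := hg y hy
    refine ⟨v ^ (-i), zpow_mem (mem_zpowers v) _, v ^ i * y,
      T.mul_mem (hRT (zpow_mem (mem_zpowers v) _)) hy, hi, ?_⟩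
    rw [← mul_assoc, ← zpow_add, neg_add_cancel, zpow_zero, one_mul]
  have hRn : ∀ m, m * t = t * m → ∀ r ∈ zpowers v, m * r * m⁻¹ ∈ zpowers v := by
    intro m hm r hr
    obtain ⟨i, rfl⟩ := mem_zpowers_iff.1 hr
    rw [← conj_zpow]
    exact zpow_mem (F.vn m hm) i
  -- `t'` centralises `T ∩ K`
  have hcK : ∀ y ∈ T, y ∈ K → t' * y = y * t' := by
    intro y hy hyK
    obtain ⟨r, hr, n, hn, hng, rfl⟩ := hdec y hy
    have h1 := hc n hng
    have h2 : t' * (r * n) * t'⁻¹ * (r * n)⁻¹ = t' * r * t'⁻¹ * r⁻¹ := by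
      have h3 : n * t'⁻¹ = t'⁻¹ * n := by
        have := (show Commute n t' from h1).inv_right
        exact this
      calc t' * (r * n) * t'⁻¹ * (r * n)⁻¹ = t' * r * (n * t'⁻¹) * n⁻¹ * r⁻¹ := by group
        _ = t' * r * t'⁻¹ * r⁻¹ := by rw [h3]; group
    have h4 : t' * (r * n) * t'⁻¹ * (r * n)⁻¹ = 1 := by
      apply F.inf
      · exact K.mul_mem (F.kn t' ht't _ hyK) (K.inv_mem hyK)
      · rw [h2]
        exact (zpowers v).mul_mem (hRn t' ht't r hr) ((zpowers v).inv_mem hr)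
    rw [mul_inv_eq_one, mul_inv_eq_iff_eq_mul] at h4
    exact h4
  -- `t' ∈ T`
  have ht'T : t' ∈ T := by
    set C : Subgroup G := T.map (MulAut.conj g).toMonoidHom ⊓ centralizer ({t} : Set G) with hC
    have hCmem : ∀ y, y ∈ C ↔ g⁻¹ * y * g ∈ T ∧ y * t = t * y := by
      intro y
      rw [hC, mem_inf, mem_centralizer_singleton_iff]
      apply and_congr_left'
      constructor
      · rintro ⟨x, hx, rfl⟩
        have : g⁻¹ * (g * x * g⁻¹) * g = x := by group
        show g⁻¹ * (g * x * g⁻¹) * g ∈ T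
        rw [this]; exact hx
      · intro h
        refine ⟨_, h, ?_⟩
        show g * (g⁻¹ * y * g) * g⁻¹ = y
        group
    have hCp : IsPGroup 2 C := (F.pT.map _).to_le inf_le_left
    have hRp : IsPGroup 2 (zpowers v) := F.pv
    have hCR : IsPGroup 2 (C ⊔ zpowers v : Subgroup G) := by
      apply hCp.to_sup_of_normal_right' hRp
      intro y hy
      have hyt := ((hCmem y).1 hy).2
      rw [mem_normalizer_iff]
      intro r
      constructor
      · intro hr
        exact hRn y hyt r hr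
      · intro hr
        have hyi : y⁻¹ * t = t * y⁻¹ := ((show Commute y t from hyt).inv_left).eq
        have := hRn y⁻¹ hyi _ hr
        have e : y⁻¹ * (y * r * y⁻¹) * y⁻¹⁻¹ = r := by group
        rwa [e] at this
    have h1 : C ⊔ zpowers v ≤ T := by
      apply F.max _ hCR
      · intro y hy
        obtain ⟨r, hr, n, hn, hng, rfl⟩ := hdec y hy
        exact (C ⊔ zpowers v).mul_mem ((le_sup_right : zpowers v ≤ _) hr)
          ((le_sup_left : C ≤ _) ((hCmem n).2 ⟨hng, F.tc n hn⟩))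
      · have : C ⊔ zpowers v ≤ centralizer ({t} : Set G) := by
          rw [sup_le_iff]
          exact ⟨inf_le_right, fun y hy => mem_centralizer_singleton_iff.2 (F.vt y hy)⟩
        intro y hy
        exact mem_centralizer_singleton_iff.1 (this hy)
    apply h1
    apply (le_sup_left : C ≤ _)
    rw [hCmem]
    refine ⟨?_, ht't⟩
    have : g⁻¹ * t' * g = t := by rw [ht']; group
    rw [this]; exact F.tT
  have ht'2 : t' * t' = 1 := by
    rw [ht']
    calc g * t * g⁻¹ * (g * t * g⁻¹) = g * (t * t) * g⁻¹ := by group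
      _ = 1 := by rw [F.tt]; group
  -- `t' = t`
  have hfix : t' = t := by
    obtain ⟨r, hr, z, hz, hrz⟩ := F.t1s t' ht'T hcK
    have hzr : z * r = r * z := by
      obtain ⟨i, rfl⟩ := mem_zpowers_iff.1 hr
      exact ((show Commute z v from F.kv z hz).zpow_right i).eq
    have hr2 : r * r = 1 := by
      have h1 : r * r * (z * z) = 1 := by
        calc r * r * (z * z) = r * (r * z) * z := by group
          _ = r * (z * r) * z := by rw [hzr]
          _ = (r * z) * (r * z) := by group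
          _ = 1 := by rw [← hrz, ht'2]
      apply F.inf _ _ ((zpowers v).mul_mem hr hr)
      have h2 : r * r = (z * z)⁻¹ := by rw [eq_inv_iff_mul_eq_one, h1]
      rw [h2]
      exact K.inv_mem (K.mul_mem hz hz)
    rcases eq_of_sq F.tv F.tt F.t1 hr hr2 with h | h
    · exfalso
      rw [h, one_mul] at hrz
      exact F.notz g ht'T (by rw [← ht', hrz]; exact hz) hcK
    · rw [h] at hrz
      apply F.iso g ht'T
      have hvt' : ∀ x ∈ zpowers v, x * t' = t' * x := by
        intro x hx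
        have hzx : z * x = x * z := by
          obtain ⟨i, rfl⟩ := mem_zpowers_iff.1 hx
          exact ((show Commute z v from F.kv z hz).zpow_right i).eq
        have hxt := F.vt x hx
        rw [hrz]
        calc x * (t * z) = (x * t) * z := by group
          _ = t * (x * z) := by rw [hxt]; group
          _ = t * z * x := by rw [← hzx]; group
      intro y hy
      obtain ⟨r', hr', n, hn, hng, rfl⟩ := hdec y hy
      calc r' * n * t' = r' * (n * t') := by group
        _ = (r' * t') * n := by rw [hc n hng]; group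
        _ = t' * (r' * n) := by rw [hvt' r' hr']; group
  have hgt : g * t = t * g := comm_of_conj hfix
  have hgi : g⁻¹ * t = t * g⁻¹ := ((show Commute g t from hgt).inv_left).eq
  have h0 : g⁻¹ ∈ normalizer (T : Set G) := by
    apply mem_normalizer_fintype
    intro n hn
    obtain ⟨r, hr, n', hn', hng, rfl⟩ := hdec n hn
    have h1 := hRn g⁻¹ hgi r hr
    have e : g⁻¹ * (r * n') * g⁻¹⁻¹ = (g⁻¹ * r * g⁻¹⁻¹) * (g⁻¹ * n' * g) := by group
    rw [e]
    exact T.mul_mem (hRT h1) hng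
  have := (normalizer (T : Set G)).inv_mem h0
  rwa [inv_inv] at this

/-- **(1), second part** -/
theorem hom_eq_one [Finite G] (F : Isol t v K T) (hG : ∀ (f : G →* ℤˣ) (x : G), f x = 1)
    (χ : T →* ℤˣ) : χ ⟨v, F.vT⟩ = 1 := by
  classical
  by_contra hne
  have hχ : χ ⟨v, F.vT⟩ = -1 := (Int.units_eq_one_or _).resolve_left hne
  have hA : ∀ a : ℤˣ, a * a = 1 := fun a => Int.units_mul_self a
  have := Fintype.ofFinite (Orb v T)
  obtain ⟨f, hf, s, hs, hprod⟩ := CycFormula.transfer_eq_prod (v := v) (H := T) hA χ T F.pT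
    (fun x hx => F.vn x (F.tc x hx))
  rw [hG] at hprod
  -- value at the classes from the normaliser
  have hN : ∀ g ∈ normalizer (T : Set G), CycFormula.mk v T g ∈ s ∧ f (CycFormula.mk v T g) = -1 := by
    intro g hg
    have hgt := F.fix hg
    have hgi := (normalizer (T : Set G)).inv_mem hg
    have hcj : ∀ y ∈ T, g⁻¹ * y * g ∈ T := by
      intro y hy
      have := (mem_normalizer_iff.1 hgi y).1 hy
      rwa [inv_inv] at this
    refine ⟨?_, ?_⟩
    · rw [hs]
      intro x hx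
      exact ⟨0, by rw [zpow_zero, one_mul]; exact hcj x hx⟩
    · have hper : per v T g = 1 := by
        have h1 : g⁻¹ * v ^ 1 * g ∈ T := by rw [pow_one]; exact hcj v F.vT
        exact Nat.dvd_one.1 ((pow_mem_iff g 1).1 h1)
      rw [hf g (per_mem g)]
      have hgt' : g⁻¹ * t = t * g⁻¹ := ((show Commute g t from comm_of_conj hgt).inv_left).eq
      have h1 := F.vn g⁻¹ hgt'
      rw [inv_inv] at h1
      obtain ⟨i, hi⟩ := mem_zpowers_iff.1 h1
      have h2 := F.vn g (comm_of_conj hgt)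
      obtain ⟨j, hj⟩ := mem_zpowers_iff.1 h2
      have h3 := zpow_zpow_eq hi hj v (mem_zpowers v)
      have e : (⟨g⁻¹ * v ^ per v T g * g, per_mem g⟩ : T) = ⟨v, F.vT⟩ ^ i := by
        apply Subtype.ext
        show g⁻¹ * v ^ per v T g * g = v ^ i
        rw [hper, pow_one, hi]
      rw [e, map_zpow, hχ]
      rcases Int.even_or_odd i with hev | hod
      · exfalso
        have h4 : χ ⟨v, F.vT⟩ = 1 := by
          have e2 : (⟨v, F.vT⟩ : T) = (⟨v, F.vT⟩ ^ i) ^ j := Subtype.ext h3.symm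
          rw [e2, map_zpow, map_zpow, hχ, hev.neg_one_zpow, one_zpow]
        rw [hχ] at h4
        exact absurd h4 (by decide)
      · exact hod.neg_one_zpow
  -- conversely
  have hC : ∀ q ∈ s, f q ≠ 1 → ∃ g ∈ normalizer (T : Set G), q = CycFormula.mk v T g := by
    intro q hq hfq
    obtain ⟨g, rfl⟩ := mk_surjective q
    refine ⟨g, ?_, rfl⟩
    have h1 := (hs g).1 hq
    rw [hf g (per_mem g)] at hfq
    apply F.mem_normalizer_of_fixed h1 (w := v ^ per v T g) (pow_mem (mem_zpowers v) _) ?_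
      (per_mem g)
    intro h2
    apply hfq
    have e : (⟨g⁻¹ * v ^ per v T g * g, per_mem g⟩ : T) = 1 := by
      apply Subtype.ext
      show g⁻¹ * v ^ per v T g * g = 1
      rw [h2]; group
    rw [e, map_one]
  -- counting
  set s' : Finset (Orb v T) := s.filter (fun q => f q = -1) with hs'
  have hcard : Nat.card (fixedPoints T (G ⧸ T)) = s'.card := by
    have e : Function.Bijective (fun x : fixedPoints T (G ⧸ T) =>
        (⟨(Quotient.mk'' x.1 : Orb v T), by
          obtain ⟨x, hx⟩ := x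
          obtain ⟨g, rfl⟩ := QuotientGroup.mk_surjective x
          have h1 := hN g ((fixed_iff g).1 hx)
          rw [hs', Finset.mem_filter]
          exact h1⟩ : {q // q ∈ s'})) := by
      constructor
      · rintro ⟨x, hx⟩ ⟨y, hy⟩ hxy
        obtain ⟨g, rfl⟩ := QuotientGroup.mk_surjective x
        obtain ⟨h, rfl⟩ := QuotientGroup.mk_surjective y
        have h1 : CycFormula.mk v T g = CycFormula.mk v T h := congrArg Subtype.val hxy
        obtain ⟨i, hi⟩ := (mk_eq_iff g h).1 h1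
        have h2 := (normalizer (T : Set G)).inv_mem ((fixed_iff h).1 hy)
        have h3 := (mem_normalizer_iff.1 h2 (v ^ i)).1 (T.zpow_mem F.vT i)
        rw [inv_inv] at h3
        have h4 : h⁻¹ * g ∈ T := by
          have e : h⁻¹ * g = (h⁻¹ * v ^ i * h)⁻¹ * (h⁻¹ * v ^ i * g) := by group
          rw [e]
          exact T.mul_mem (T.inv_mem h3) hi
        apply Subtype.ext
        show (g : G ⧸ T) = h
        rw [eq_comm, QuotientGroup.eq]
        exact h4
      · rintro ⟨q, hq⟩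
        have h1 := Finset.mem_filter.1 hq
        obtain ⟨g, hg, rfl⟩ := hC q h1.1 (by rw [h1.2]; decide)
        exact ⟨⟨(g : G ⧸ T), (fixed_iff g).2 hg⟩, rfl⟩
    rw [Nat.card_congr (Equiv.ofBijective _ e), Nat.subtype_card (s := s') (by intro q; rfl)]
  have hprod2 : ∏ q ∈ s, f q = (-1) ^ s'.card := by
    rw [← Finset.prod_filter_mul_prod_filter_not s (fun q => f q = -1)]
    have h1 : ∏ q ∈ s.filter (fun q => ¬ f q = -1), f q = 1 := by
      apply Finset.prod_eq_one
      intro q hq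
      exact (Int.units_eq_one_or _).resolve_right (Finset.mem_filter.1 hq).2
    rw [h1, mul_one, Finset.prod_congr rfl (fun q hq => (Finset.mem_filter.1 hq).2),
      Finset.prod_const]
  have hodd := F.odd_fixed
  rw [hcard] at hodd
  rw [hprod2, hodd.neg_one_pow] at hprod
  exact absurd hprod (by decide)

/-- **(1)**: the isolated case is impossible if `T / R (T ∩ K)` is cyclic. -/
theorem false_of_cyc [Finite G] (F : Isol t v K T) (hG : commutator G = ⊤) {y : G} (hy : y ∈ T)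
    (hcyc : ∀ x ∈ T, ∃ i j : ℤ, ∃ s ∈ T, s ∈ K ∧ x = y ^ i * v ^ j * s) : False := by
  -- `N = T ∩ K`, `L = ⟨y⟩ N`
  have hNn : ∀ a ∈ T, ∀ b ∈ T, b ∈ K → a * b * a⁻¹ ∈ K := fun a ha b _ hb =>
    F.kn a (F.tc a ha) b hb
  set N : Subgroup T := K.subgroupOf T with hN
  have hNnorm : N.Normal := by
    refine ⟨fun b hb a => ?_⟩
    exact F.kn a (F.tc a a.2) b hb
  set L : Subgroup T := zpowers (⟨y, hy⟩ : T) ⊔ N with hL
  have pT : IsPGroup 2 T := F.pT
  by_cases hLT : L = ⊤
  · -- `T / N` is cyclic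
    have h1 := F.mem_commutator hG
    have h2 : commutator T ≤ N := by
      rw [commutator_def, commutator_le]
      intro a _ b _
      have ha : a ∈ L := by rw [hLT]; exact mem_top a
      have hb : b ∈ L := by rw [hLT]; exact mem_top b
      obtain ⟨a1, ha1, a2, ha2, rfl⟩ := mem_sup_of_normal_right.1 ha
      obtain ⟨b1, hb1, b2, hb2, rfl⟩ := mem_sup_of_normal_right.1 hb
      rw [← QuotientGroup.eq_one_iff]
      rw [commutatorElement_def]
      simp only [QuotientGroup.mk_mul, QuotientGroup.mk_inv, (QuotientGroup.eq_one_iff a2).2 ha2,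
        (QuotientGroup.eq_one_iff b2).2 hb2, mul_one]
      obtain ⟨i, rfl⟩ := mem_zpowers_iff.1 ha1
      obtain ⟨j, rfl⟩ := mem_zpowers_iff.1 hb1
      simp only [QuotientGroup.mk_zpow]
      rw [← zpow_add, add_comm i j, zpow_add]
      group
    have h3 := h2 h1
    exact F.t1 (F.inf t h3 F.tv)
  · obtain ⟨M, hLM, hM⟩ := Cfsg.Agent.GH.WRank.exists_index_two pT hLT
    have hv : (⟨v, F.vT⟩ : T) ∉ M := by
      intro hv
      have h1 : M = ⊤ := by
        rw [eq_top_iff]
        rintro ⟨x, hx⟩ -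
        obtain ⟨i, j, s, hs, hsK, rfl⟩ := hcyc x hx
        have e : (⟨y ^ i * v ^ j * s, hx⟩ : T) = ⟨y, hy⟩ ^ i * ⟨v, F.vT⟩ ^ j * ⟨s, hs⟩ := rfl
        rw [e]
        apply M.mul_mem (M.mul_mem (M.zpow_mem (hLM ?_) i) (M.zpow_mem hv j)) (hLM ?_)
        · exact (le_sup_left : zpowers _ ≤ L) (mem_zpowers _)
        · exact (le_sup_right : N ≤ L) hsK
      rw [h1, index_top] at hM
      omega
    have h1 := F.hom_eq_one (fun f x => TFormula.hom_eq_one hG f x)
      (Cfsg.Agent.TwoFusion.IndexTwo.signHom M hM)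
    rw [Cfsg.Agent.TwoFusion.IndexTwo.signHom_of_not_mem hM hv] at h1
    exact absurd h1 (by decide)

end Isol

end Cfsg.Agent.OddHalf.D7Out.Iso

end
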